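import Cfsg.Agent.Lib.MonsterCent.Fixed
import Cfsg.Agent.Lib.LeechIso.Engine
import Cfsg.Agent.Lib.Fitting.Basic

/-!
The centraliser of a permutation in the automorphism group of the lattice, acting on some of the
classes that the permutation fixes.
-/

set_option autoImplicit false
set_option maxRecDepth 10000
set_option linter.style.haveILetI false

namespace CfsgLib.MonsterCent

open Cfsg CfsgLib.Golay CfsgLib.Leech CfsgLib.Leech.OutOne CfsgLib.Monster CfsgLib.LeechIso
  CfsgLib.M24.PackChain CfsgLib.CosetEnum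

attribute [local irreducible] dL bL key keyL coord packB linL bits autOK

/-- generators commuting with a table and their images on some fixed classes -/
noncomputable def actOK (n : ℕ) (tB : List ℕ) (W : List (List (List ℤ))) (keys Pim : List ℕ) : Bool :=
  Nat.beq Pim.length W.length && Nat.beq keys.length n && decide keys.Nodup &&
    (keys.all fun k => Nat.blt k 16777216 && (comb tB k == k)) &&
    (W.all fun w => autOK w && (mulC (w.map keyL) tB == mulC tB (w.map keyL))) &&
    (List.range W.length).all fun k => strict (nth Pim k 0) fun A =>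
      (List.range n).all fun i => Nat.blt (pk A i) n &&
        (comb ((W.getD k []).map keyL) (nth keys i 0) == nth keys (pk A i) 0)

theorem act_xor (g : ↥Co0) {a b : ℕ} (ha : a < 2 ^ 24) (hb : b < 2 ^ 24) :
    act g (a ^^^ b) = act g a ^^^ act g b := by
  have h1 : key ((⟨vecOf a, vecOf_mem a⟩ + ⟨vecOf b, vecOf_mem b⟩ : ↥leechLattice) : GolayPt → ℤ) =
      a ^^^ b := by
    rw [AddSubgroup.coe_add, key_add (vecOf_mem a) (vecOf_mem b), key_vecOf ha, key_vecOf hb]
  conv_lhs => rw [← h1, act_key, smul_add', AddSubgroup.coe_add,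
    key_add (Subtype.prop _) (Subtype.prop _)]
  rfl

theorem act_comb (g : ↥Co0) : ∀ (l : List ℕ) (m : ℕ), (∀ a ∈ l, a < 2 ^ 24) →
    (∀ a ∈ l, act g a = a) → act g (comb l m) = comb l m
  | [], m, _, _ => by
    have h := act_key g 0
    rw [smul_zero', AddSubgroup.coe_zero, key_zero] at h
    exact h
  | r :: rs, m, hl, hfix => by
    have ih := act_comb g rs (m / 2) (fun a ha => hl a (List.mem_cons_of_mem _ ha))
      fun a ha => hfix a (List.mem_cons_of_mem _ ha)
    rw [comb]
    split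
    · rw [act_xor g (hl r List.mem_cons_self)
        (comb_lt _ _ _ fun a ha => hl a (List.mem_cons_of_mem _ ha)), ih, hfix r List.mem_cons_self]
    · rw [Nat.zero_xor, ih]

theorem natCard_bounds {C : Type*} [Group C] [Finite C] {n : ℕ} (φ : C →* Equiv.Perm (Fin n))
    {N K : ℕ} (hK : K ≤ Nat.card φ.ker) (hN : N ≤ Nat.card φ.range) (hC : Nat.card C ≤ N * K)
    (hK0 : 0 < K) (hN0 : 0 < N) :
    Nat.card φ.range = N ∧ Nat.card φ.ker = K ∧ Nat.card C = N * K := by
  have h := Subgroup.card_mul_index φ.ker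
  rw [Subgroup.index_ker] at h
  have h1 : K * N ≤ Nat.card φ.ker * Nat.card φ.range := Nat.mul_le_mul hK hN
  have h2 : Nat.card φ.ker * Nat.card φ.range ≤ K * N := by rw [h, mul_comm]; exact hC
  have h3 : Nat.card φ.range = N := by
    by_contra hne
    have : K * (N + 1) ≤ Nat.card φ.ker * Nat.card φ.range := Nat.mul_le_mul hK (by omega)
    rw [Nat.mul_succ] at this
    omega
  refine ⟨h3, ?_, ?_⟩
  · rw [h3] at h2
    exact le_antisymm (Nat.le_of_mul_le_mul_right h2 hN0) hK
  · rw [← h, h3]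
    rw [h3] at h2
    have := le_antisymm (Nat.le_of_mul_le_mul_right h2 hN0) hK
    rw [this, mul_comm]

variable {P : ℕ} (hP : inM24 P = true) {n N p : ℕ} {W : List (List (List ℤ))}
  {keys Pim : List ℕ} {prog : List (ℕ × ℕ × ℕ)} {levels : List (ℕ × List (ℕ × ℕ))}

/-- the action on the listed classes, with the kernel and the generators -/
structure ActData (keys Pim : List ℕ) (n N p r : ℕ) (b : ↥Co0) where
  /-- the action -/
  φ : ↥(Subgroup.centralizer ({b} : Set ↥Co0)) →* Equiv.Perm (Fin n)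
  ker_iff : ∀ g : ↥(Subgroup.centralizer ({b} : Set ↥Co0)), φ g = 1 ↔ ∃ i : ℕ, (b ^ i)⁻¹ * (g : ↥Co0) ∈ Subgroup.center ↥Co0
  eval : ∀ (g : ↥(Subgroup.centralizer ({b} : Set ↥Co0))) (i : Fin n),
    act (g : ↥Co0) (nth keys i 0) = nth keys ((φ g i : Fin n) : ℕ) 0
  fixed : ∀ i : Fin n, nth keys i 0 < 2 ^ 24 ∧ act b (nth keys i 0) = nth keys i 0
  inj : ∀ i j : Fin n, nth keys i 0 = nth keys j 0 → i = j
  card_range : Nat.card φ.range = N
  card_eq : Nat.card ↥(Subgroup.centralizer ({b} : Set ↥Co0)) = N * (2 * p)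
  /-- the generators -/
  a : Fin r → ↥φ.range
  packed : Packed φ.range.subtype a Pim
  gen : Subgroup.closure (Set.range a) = ⊤

include hP in
theorem exists_actData (hp : p.Prime) (hodd : Odd p) (hb : orderOf (permAut hP) = p)
    (hact : actOK n (monoTab P 0) W keys Pim = true) (hchain : chainOK n N Pim prog levels = true)
    (hN0 : 0 < N)
    (hC : Nat.card ↥(Subgroup.centralizer ({permAut hP} : Set ↥Co0)) ≤ N * (2 * p)) :
    Nonempty (ActData keys Pim n N p W.length (permAut hP)) := by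
  classical
  haveI := finite_Co0
  set b := permAut hP with hbdef
  set C := Subgroup.centralizer ({b} : Set ↥Co0) with hCdef
  simp only [actOK, Bool.and_eq_true, Nat.beq_eq, decide_eq_true_eq, List.all_eq_true, Nat.blt_eq,
    List.mem_range, strict_eq, beq_iff_eq] at hact
  obtain ⟨⟨⟨⟨⟨hPl, hkl⟩, hnd⟩, hkeys⟩, hW⟩, himg⟩ := hact
  have hWk : ∀ k : Fin W.length, autOK (W.getD k []) = true ∧
      mulC ((W.getD k []).map keyL) (monoTab P 0) = mulC (monoTab P 0) ((W.getD k []).map keyL) := fun k => by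
    rw [List.getD_eq_getElem _ _ k.2]
    exact hW _ (List.getElem_mem _)
  let g : Fin W.length → ↥Co0 := fun k => (linIso (hWk k).1).aut
  have hrep : ∀ k, Rep0 (g k) ((W.getD k []).map keyL) := fun k x hx => act_lin (hWk k).1 hx
  have hbp : b ^ p = 1 := by rw [← hb, pow_orderOf_eq_one]
  have hbC : b ∈ C := Subgroup.mem_centralizer_singleton_iff.2 rfl
  have hgC : ∀ k, g k ∈ C := fun k => Subgroup.mem_centralizer_singleton_iff.2
    (commute_of_pr hbp hodd (by
      rw [← map_mul, ← map_mul]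
      have h1 := (hrep k).mul (rep_permAut hP)
      have h2 := (rep_permAut hP).mul (hrep k)
      rw [(hWk k).2] at h1
      exact pr_eq_of_rep h1 h2))
  have hnegC : ∀ c ∈ Subgroup.center ↥Co0, c ∈ C := fun c hc =>
    Subgroup.mem_centralizer_singleton_iff.2 (Subgroup.mem_center_iff.1 hc b).symm
  let f : Fin n → ℕ := fun i => nth keys i 0
  have hfi : ∀ i, f i < 2 ^ 24 ∧ act b (f i) = f i := fun i => by
    obtain ⟨h1, h2⟩ := hkeys (keys[(i : ℕ)]'(hkl.symm ▸ i.2)) (List.getElem_mem _)
    have he : f i = keys[(i : ℕ)]'(hkl.symm ▸ i.2) := by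
      simp only [f, nth_eq]; exact List.getD_eq_getElem _ _ _
    rw [he]
    exact ⟨h1, (rep_permAut hP _ h1).trans h2⟩
  have hf : Function.Injective f := fun i j e => by
    simp only [f, nth_eq] at e
    rw [List.getD_eq_getElem _ _ (hkl.symm ▸ i.2), List.getD_eq_getElem _ _ (hkl.symm ▸ j.2)] at e
    exact Fin.ext ((hnd.getElem_inj_iff).1 e)
  let S : Set ↥Co0 := Set.range g ∪ ({b} ∪ (Subgroup.center ↥Co0 : Set ↥Co0))
  set K := Subgroup.closure S with hK
  have hKC : K ≤ C := by
    refine (Subgroup.closure_le _).2 ?_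
    rintro x (⟨k, rfl⟩ | rfl | hx)
    exacts [hgC k, hbC, hnegC x hx]
  have htop : Subgroup.closure ((↑) ⁻¹' S : Set ↥K) = ⊤ := Subgroup.closure_closure_coe_preimage
  have himg' : ∀ (k : Fin W.length) (i : Fin n), ∃ hlt : pk (nth Pim k 0) i < n,
      act (g k) (f i) = f ⟨pk (nth Pim k 0) i, hlt⟩ := fun k i => by
    obtain ⟨h1, h2⟩ := himg k k.2 i i.2
    exact ⟨h1, ((hrep k) _ (hfi i).1).trans h2⟩
  obtain ⟨φK, hφK⟩ := CfsgLib.Schur.exists_familyHom (fun (x : ↥K) c => act (x : ↥Co0) c) f hf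
    (fun i => act_one (hfi i).1) (fun x y i => act_mul _ _ _) htop (by
      rintro x (⟨k, hk⟩ | hx | hx) i
      · obtain ⟨h1, h2⟩ := himg' k i
        exact ⟨⟨_, h1⟩, by rw [← hk]; exact h2⟩
      · exact ⟨i, by rw [show (x : ↥Co0) = b from hx]; exact (hfi i).2⟩
      · exact ⟨i, act_center hx (hfi i).1⟩)
  -- the kernel
  have hbK : b ∈ K := Subgroup.subset_closure (Or.inr (Or.inl rfl))
  have hcK : ∀ c ∈ Subgroup.center ↥Co0, c ∈ K := fun c hc => Subgroup.subset_closure (Or.inr (Or.inr hc))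
  have hkerf : ∀ (i : ℕ) (c : ↥Co0) (hc : c ∈ Subgroup.center ↥Co0),
      φK ⟨b ^ i * c, mul_mem (pow_mem hbK i) (hcK c hc)⟩ = 1 := by
    intro i c hc
    refine Equiv.ext fun x => hf ?_
    rw [hφK]
    show act (b ^ i * c) (f x) = f x
    rw [act_mul, act_center hc (hfi x).1]
    clear hc
    induction i with
    | zero => rw [pow_zero]; exact act_one (hfi x).1
    | succ i ih => rw [pow_succ', act_mul, ih]; exact (hfi x).2
  have huniq : ∀ (i j : ℕ) (c d : ↥Co0), c ∈ Subgroup.center ↥Co0 → d ∈ Subgroup.center ↥Co0 →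
      b ^ i * c = b ^ j * d → b ^ i = b ^ j ∧ c = d := by
    intro i j c d hc hd h
    have h1 : b ^ i = b ^ j := by
      refine eq_of_center_of_odd hodd ?_ ?_ ?_
      · rw [← pow_mul, mul_comm, pow_mul, hbp, one_pow]
      · rw [← pow_mul, mul_comm, pow_mul, hbp, one_pow]
      · rw [show (b ^ i)⁻¹ * b ^ j = c * d⁻¹ by rw [eq_mul_inv_iff_mul_eq, mul_assoc, ← h, inv_mul_cancel_left]]
        exact mul_mem hc (inv_mem hd)
    exact ⟨h1, by rwa [h1, mul_right_inj] at h⟩
  have hker2p : 2 * p ≤ Nat.card φK.ker := by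
    rw [← natCard_center, mul_comm, ← Nat.card_fin p, ← Nat.card_prod]
    refine Nat.card_le_card_of_injective (fun (x : Fin p × ↥(Subgroup.center ↥Co0)) =>
      (⟨⟨b ^ (x.1 : ℕ) * (x.2 : ↥Co0), mul_mem (pow_mem hbK _) (hcK _ x.2.2)⟩, hkerf _ _ x.2.2⟩ :
        ↥φK.ker)) fun x y e => ?_
    obtain ⟨h1, h2⟩ := huniq _ _ _ _ x.2.2 y.2.2 (congrArg (fun t : ↥φK.ker => ((t : ↥K) : ↥Co0)) e)
    have := pow_injOn_Iio_orderOf (x := b) (by rw [Set.mem_Iio, hb]; exact x.1.2)
      (by rw [Set.mem_Iio, hb]; exact y.1.2) h1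
    exact Prod.ext (Fin.ext this) (Subtype.ext h2)
  let a : Fin W.length → ↥φK.range := fun k =>
    ⟨φK ⟨g k, Subgroup.subset_closure (Or.inl ⟨k, rfl⟩)⟩, ⟨_, rfl⟩⟩
  have hpack : Packed φK.range.subtype a Pim := by
    refine ⟨hPl, fun k i => ?_⟩
    obtain ⟨h1, h2⟩ := himg' k i
    have := hf ((hφK ⟨g k, Subgroup.subset_closure (Or.inl ⟨k, rfl⟩)⟩ i).trans h2)
    show ((φK _ i : Fin n) : ℕ) = _
    rw [this]
  have hrangeN : N ≤ Nat.card φK.range :=
    le_trans (chain_le hpack hchain) (Subgroup.card_le_card_group _)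
  have hKcard : Nat.card K ≤ N * (2 * p) := le_trans (Subgroup.card_le_of_le hKC) hC
  obtain ⟨hr, hk, hKeq⟩ := natCard_bounds φK hker2p hrangeN hKcard (by have := hp.pos; omega) hN0
  have hKCeq : K = C := Subgroup.eq_of_le_of_card_ge hKC (hKeq ▸ hC)
  let φ : ↥C →* Equiv.Perm (Fin n) := φK.comp (MulEquiv.subgroupCongr hKCeq.symm).toMonoidHom
  have hrange : φ.range = φK.range := by
    rw [MonoidHom.range_comp, MonoidHom.range_eq_top.2 (MulEquiv.surjective _), ← MonoidHom.range_eq_map]
  refine ⟨{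
    φ := φ
    ker_iff := fun x => ?_
    eval := fun x i => (hφK ((MulEquiv.subgroupCongr hKCeq.symm) x) i).symm
    fixed := hfi
    inj := fun i j e => hf e
    card_range := by rw [hrange, hr]
    card_eq := by rw [← hKeq, hKCeq]
    a := fun k => ⟨(a k : Equiv.Perm (Fin n)), (by rw [hrange]; exact (a k).2)⟩
    packed := ⟨hPl, hpack.2⟩
    gen := ?_ }⟩
  · constructor
    · intro hx
      set y : ↥K := (MulEquiv.subgroupCongr hKCeq.symm) x
      have hy : y ∈ φK.ker := hx
      let Ψ : Fin p × ↥(Subgroup.center ↥Co0) → ↥φK.ker := fun t =>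
        ⟨⟨b ^ (t.1 : ℕ) * (t.2 : ↥Co0), mul_mem (pow_mem hbK _) (hcK _ t.2.2)⟩, hkerf _ _ t.2.2⟩
      have hΨ : Function.Surjective Ψ := by
        refine (Function.Injective.bijective_of_nat_card_le ?_ ?_).2
        · intro u v e
          obtain ⟨h1, h2⟩ := huniq _ _ _ _ u.2.2 v.2.2 (congrArg (fun t : ↥φK.ker => ((t : ↥K) : ↥Co0)) e)
          have := pow_injOn_Iio_orderOf (x := b) (by rw [Set.mem_Iio, hb]; exact u.1.2)
            (by rw [Set.mem_Iio, hb]; exact v.1.2) h1
          exact Prod.ext (Fin.ext this) (Subtype.ext h2)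
        · rw [hk, Nat.card_prod, Nat.card_fin, natCard_center, mul_comm]
      obtain ⟨⟨i, c⟩, he⟩ := hΨ ⟨y, hy⟩
      refine ⟨i, ?_⟩
      have he' : b ^ (i : ℕ) * (c : ↥Co0) = (x : ↥Co0) :=
        congrArg (fun t : ↥φK.ker => ((t : ↥K) : ↥Co0)) he
      rw [← he', inv_mul_cancel_left]
      exact c.2
    · rintro ⟨i, hi⟩
      have := hkerf i _ hi
      show φK _ = 1
      rw [← this]
      congr 1
      exact Subtype.ext (mul_inv_cancel_left _ _).symm
  · have hfull : N ≤ Nat.card ↥(Subgroup.closure (Set.range fun k : Fin W.length =>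
        (⟨(a k : Equiv.Perm (Fin n)), (by rw [hrange]; exact (a k).2)⟩ : ↥φ.range))) :=
      chain_le (φ := φ.range.subtype) ⟨hPl, hpack.2⟩ hchain
    exact Subgroup.eq_top_of_le_card _ ((congrArg (fun H : Subgroup _ => Nat.card H) hrange).trans hr |>.le.trans hfull)

include hP in
/-- An element fixing every fixed class is a power of the permutation up to sign. -/
theorem ActData.faith {r : ℕ} (D : ActData keys Pim n N p r (permAut hP)) {g : ↥Co0}
    (hg : g ∈ Subgroup.centralizer ({permAut hP} : Set ↥Co0))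
    (h : ∀ v, FixCls (permAut hP) v → IsDbl (g • v - v)) :
    ∃ i : ℕ, (permAut hP ^ i)⁻¹ * g ∈ Subgroup.center ↥Co0 := by
  refine (D.ker_iff ⟨g, hg⟩).1 (Equiv.ext fun i => D.inj _ _ ?_)
  rw [← D.eval]
  obtain ⟨hlt, hfix⟩ := D.fixed i
  have hk := key_vecOf hlt
  have := (isDbl_sub_iff _ _).1 (h ⟨vecOf (nth keys i 0), vecOf_mem _⟩ ((fixCls_iff_act _ _).2 (by
    rw [hk]; exact hfix)))
  rw [← act_key, hk] at this
  exact this

include hP in
/-- With an orbit of odd size spanning the fixed classes there is no normal two-subgroup. -/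
theorem ActData.core_bot {r : ℕ} (D : ActData keys Pim n N p r (permAut hP))
    {ker R coef L frames : List ℕ}
    (hfix : fixOK (monoTab P 0) ker R coef L = true) (hsub : ∀ k ∈ ker, k ∈ frames)
    (hodd : Odd frames.length)
    (hmem : ∀ g ∈ Subgroup.centralizer ({permAut hP} : Set ↥Co0), act g (mainK 3) ∈ frames)
    {M : ℕ} (hM : Nat.card ↥(Subgroup.centralizer ({permAut hP} : Set ↥Co0) ⊓ crossStab) ≤ M)
    (heq : frames.length * M = N * (2 * p)) : pCore 2 ↥D.φ.range = ⊥ := by
  classical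
  haveI := finite_Co0
  haveI : Fact (Nat.Prime 2) := ⟨Nat.prime_two⟩
  set C := Subgroup.centralizer ({permAut hP} : Set ↥Co0)
  let S : Subgroup ↥C := crossStab.subgroupOf C
  -- the orbit is the whole list
  let f : ↥C → ↥frames.toFinset := fun g => ⟨act g (mainK 3), List.mem_toFinset.2 (hmem g g.2)⟩
  let q : ↥C ⧸ S → ↥frames.toFinset := fun x => Quotient.liftOn' x f fun a b hab => by
    rw [QuotientGroup.leftRel_apply, Subgroup.mem_subgroupOf, Subgroup.coe_mul, Subgroup.coe_inv,
      mem_crossStab] at hab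
    refine Subtype.ext ?_
    show act (a : ↥Co0) _ = act (b : ↥Co0) _
    conv_lhs => rw [← hab]
    rw [← act_mul, mul_inv_cancel_left]
  have hqinj : Function.Injective q := by
    intro x y e
    induction x using Quotient.inductionOn' with
    | h a =>
      induction y using Quotient.inductionOn' with
      | h b =>
        have e' : act (a : ↥Co0) (mainK 3) = act (b : ↥Co0) (mainK 3) := congrArg Subtype.val e
        refine QuotientGroup.eq.2 ?_
        rw [Subgroup.mem_subgroupOf, Subgroup.coe_mul, Subgroup.coe_inv, mem_crossStab, act_mul, ← e',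
          act_inv_act _ (mainK_lt 3)]
  have hidx : S.index ≤ frames.toFinset.card := by
    rw [← Nat.card_eq_finsetCard]
    exact Nat.card_le_card_of_injective q hqinj
  have hScard : Nat.card S ≤ M := by
    refine le_trans (le_of_eq ?_) hM
    show Nat.card ↥(crossStab.subgroupOf C) = _
    rw [← Subgroup.inf_subgroupOf_left, Nat.card_congr (Subgroup.subgroupOfEquivOfLe inf_le_left).toEquiv]
  have hidx2 : frames.length ≤ S.index := by
    have h1 := Subgroup.card_mul_index S
    rw [D.card_eq, ← heq] at h1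
    have hMpos : 0 < M := lt_of_lt_of_le Nat.card_pos hScard
    have h2 : frames.length * M ≤ S.index * M := by
      rw [← h1, mul_comm]; exact Nat.mul_le_mul_left _ hScard
    exact Nat.le_of_mul_le_mul_right h2 hMpos
  have hlen := List.toFinset_card_le frames
  have hindex : S.index = frames.length := by omega
  have hqsurj : Function.Surjective q := (hqinj.bijective_of_nat_card_le (by
    rw [Nat.card_eq_finsetCard]
    show _ ≤ S.index
    omega)).2
  -- the core
  haveI := Fitting.pCore_normal (G := ↥D.φ.range) 2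
  set T := pCore 2 ↥D.φ.range
  set M' := T.comap D.φ.rangeRestrict
  haveI : M'.Normal := Subgroup.Normal.comap inferInstance _
  have hkerS : D.φ.rangeRestrict.ker ≤ S := by
    intro x hx
    rw [D.φ.ker_rangeRestrict, MonoidHom.mem_ker, D.ker_iff] at hx
    obtain ⟨i, hi⟩ := hx
    rw [Subgroup.mem_subgroupOf, ← mul_inv_cancel_left ((permAut hP) ^ i) (x : ↥Co0)]
    exact mul_mem (pow_mem (permAut_cross hP) i) (mem_crossStab.2 (act_center hi (mainK_lt 3)))
  have hkM : D.φ.rangeRestrict.ker ≤ M' := fun x hx => by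
    rw [Subgroup.mem_comap, MonoidHom.mem_ker.1 hx]; exact one_mem _
  obtain ⟨e2, he2⟩ := IsPGroup.iff_card.1 (Fitting.pCore_isPGroup (G := ↥D.φ.range) (p := 2))
  have hrel : S.relIndex M' ∣ 2 ^ e2 := by
    have h1 : D.φ.rangeRestrict.ker.relIndex M' = Nat.card T := by
      rw [← MonoidHom.comap_bot, Subgroup.relIndex_comap, Subgroup.map_comap_eq_self_of_surjective
        D.φ.rangeRestrict_surjective, Subgroup.relIndex_bot_left]
    rw [← he2, ← h1]
    refine dvd_trans ?_ (dvd_of_eq rfl)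
    have h2 := Subgroup.relIndex_mul_relIndex D.φ.rangeRestrict.ker (S ⊓ M') M' (le_inf hkerS hkM) inf_le_right
    rw [Subgroup.inf_relIndex_right] at h2
    exact Dvd.intro_left _ h2
  have hdvd : S.relIndex M' ∣ S.index := by
    have hdM : M'.relIndex S ∣ M'.index := Subgroup.relIndex_dvd_index_of_normal M' S
    have a1 := Subgroup.relIndex_mul_index (inf_le_left : S ⊓ M' ≤ S)
    have a2 := Subgroup.relIndex_mul_index (inf_le_right : S ⊓ M' ≤ M')
    rw [Subgroup.inf_relIndex_left] at a1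
    rw [Subgroup.inf_relIndex_right] at a2
    obtain ⟨c, hc⟩ := hdM
    rw [hc, ← a1, mul_comm (M'.relIndex S) c, ← mul_assoc, mul_comm (M'.relIndex S) S.index] at a2
    refine Dvd.intro c ?_
    exact Nat.eq_of_mul_eq_mul_right (Nat.pos_of_ne_zero (Subgroup.index_ne_zero_of_finite (H := M'.subgroupOf S))) a2
  have hone : S.relIndex M' = 1 := by
    rw [hindex] at hdvd
    obtain ⟨m, hm, hm'⟩ := (Nat.dvd_prime_pow Nat.prime_two).1 hrel
    rcases Nat.eq_zero_or_pos m with h0 | h0
    · rw [hm', h0, pow_zero]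
    · exfalso
      have : 2 ∣ frames.length := (dvd_pow_self 2 (by omega)).trans (hm' ▸ hdvd)
      exact (Nat.not_even_iff_odd.2 hodd) (even_iff_two_dvd.2 this)
  have hMS : M' ≤ S := Subgroup.relIndex_eq_one.1 hone
  rw [Subgroup.eq_bot_iff_forall]
  intro t ht
  obtain ⟨x, rfl⟩ := D.φ.rangeRestrict_surjective t
  have hxM : x ∈ M' := ht
  have hfr : ∀ k ∈ frames, act (x : ↥Co0) k = k := by
    intro k hk
    obtain ⟨y, hy⟩ := hqsurj ⟨k, List.mem_toFinset.2 hk⟩
    induction y using Quotient.inductionOn' with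
    | h g =>
      have hk' : act (g : ↥Co0) (mainK 3) = k := congrArg Subtype.val hy
      have h1 := hMS ((inferInstance : M'.Normal).conj_mem x hxM g⁻¹)
      rw [inv_inv, Subgroup.mem_subgroupOf, Subgroup.coe_mul, Subgroup.coe_mul, Subgroup.coe_inv,
        mem_crossStab, act_mul, act_mul, hk'] at h1
      have h2 := congrArg (act (g : ↥Co0)) h1
      rwa [← act_mul, mul_inv_cancel, act_one (act_lt _ _), hk'] at h2
  have hx1 : D.φ x = 1 := (D.ker_iff x).2 (D.faith hP x.2 fun v hv => by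
    rw [isDbl_sub_iff, ← act_key]
    obtain ⟨m, -, hm⟩ := (fix_iff hP hfix v).1 hv
    rw [hm]
    refine act_comb _ _ _ (fun a ha => ?_) fun a ha => hfr a (hsub a ha)
    simp only [fixOK, Bool.and_eq_true, List.all_eq_true, decide_eq_true_eq] at hfix
    exact (hfix.1.1.1 a ha).1)
  exact Subtype.ext hx1

end CfsgLib.MonsterCent
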