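import Cfsg.Agent.Lib.Golay.Commute
import Cfsg.Agent.Lib.CosetEnum.Basic
import Cfsg.Agent.Lib.Golay.Overgroups.DuadIndex

/-!
An upper bound for the centraliser of a permutation in the Mathieu group of degree 24: a tree of the
possible images of representatives of some orbits, pruned with the Steiner property of the octads.
-/

set_option autoImplicit false

namespace CfsgLib.MonsterCent

open Cfsg CfsgLib.Golay CfsgLib.CosetEnum
open scoped Pointwise

/-- the images on the orbits of the representatives determined by the images of these -/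
def imgPairs (P : ℕ) : List (ℕ × ℕ) → List ℕ → List (ℕ × ℕ)
  | (r, n) :: rs, c :: cs => ((List.range n).map fun a => (apN P a r, apN P a c)) ++ imgPairs P rs cs
  | _, _ => []

/-- the image of the part of a mask in the domain -/
def imgMask : List (ℕ × ℕ) → ℕ → ℕ
  | [], _ => 0
  | (i, j) :: es, o => (if o.testBit i then 2 ^ j else 0) ||| imgMask es o

/-- the kept children of a stage: a mask of the possible images for every sequence -/
def children (cur : List (List ℕ)) (ds : List (ℕ × List ℕ)) : List (List ℕ) :=
  ((cur.zip ds).map fun e => ((List.range 24).filter fun c => e.2.1.testBit c).map fun c => e.1 ++ [c]).flatten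

/-- the sequences after all stages -/
def leaves : List (List ℕ) → List (List (ℕ × List ℕ) × List ℕ) → List (List ℕ)
  | cur, [] => cur
  | cur, (ds, _) :: rest => leaves (children cur ds) rest

/-- an image that is not in the mask is impossible: two images collide, a cycle length is wrong, or a
part of an octad has an image outside the octad through five of its points -/
noncomputable def nodeOK (P : ℕ) (reps : List (ℕ × ℕ)) (os : List ℕ) (t : List ℕ) (code c : ℕ) : Bool :=
  let es := imgPairs P (reps.take (t.length + 1)) (t ++ [c])
  if Nat.beq code 0 then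
    !decide (es.map Prod.snd).Nodup || !((reps.zip (t ++ [c])).all fun e => apN P e.1.2 e.2 == e.2)
  else strict (imgMask es (os.getD (code % 8) 0)) fun M => strict (code / 8) fun w =>
    decide (code % 8 < os.length) && (inC w && pop 24 w == 8) &&
      (decide (5 ≤ pop 24 (M &&& w)) && !(M &&& w == M))

/-- the possible images of the representatives are in the stages -/
noncomputable def treeOK (P : ℕ) (reps : List (ℕ × ℕ)) :
    List (List ℕ) → List (List (ℕ × List ℕ) × List ℕ) → Bool
  | cur, (ds, os) :: rest =>
    (ds.length == cur.length && (cur.zip ds).all fun e => (List.range 24).all fun c =>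
      e.2.1.testBit c || nodeOK P reps os e.1 (e.2.2.getD c 0) c) &&
      treeOK P reps (children cur ds) rest
  | _, [] => true

/-- the checks -/
noncomputable def centOK (P : ℕ) (reps : List (ℕ × ℕ)) (N : ℕ)
    (lvls : List (List (ℕ × List ℕ) × List ℕ)) : Bool :=
  validP P && reps.length == lvls.length && (reps.all fun r => decide (r.1 < 24) && apN P r.2 r.1 == r.1) &&
    decide ((imgPairs P reps (reps.map Prod.fst)).map Prod.fst).Nodup &&
    decide (9 ≤ (imgPairs P reps (reps.map Prod.fst)).length) &&
    (lvls.all fun l => l.2.all fun o => inC o && pop 24 o == 8) && treeOK P reps [[]] lvls &&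
    Nat.beq (leaves [[]] lvls).length N

theorem imgPairs_map (P : ℕ) : ∀ (rs : List (ℕ × ℕ)) (f : ℕ → ℕ), (∀ r ∈ rs, ∀ a, f (apN P a r.1) = apN P a (f r.1)) →
    imgPairs P rs (rs.map fun r => f r.1) = (imgPairs P rs (rs.map Prod.fst)).map fun e => (e.1, f e.1)
  | [], _, _ => rfl
  | (r, n) :: rs, f, h => by
    simp only [List.map_cons, imgPairs, List.map_append, List.map_map]
    congr 1
    · refine List.map_congr_left fun a _ => ?_
      simp only [Function.comp_apply]
      rw [h (r, n) List.mem_cons_self a]
    · exact imgPairs_map P rs f fun r hr => h r (List.mem_cons_of_mem _ hr)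

theorem imgPairs_take (P : ℕ) : ∀ (rs : List (ℕ × ℕ)) (k : ℕ) {i j : ℕ},
    (i, j) ∈ imgPairs P (rs.take k) ((rs.take k).map Prod.fst) →
      (i, j) ∈ imgPairs P rs (rs.map Prod.fst)
  | [], k, i, j, h => by simpa using h
  | (r, n) :: rs, 0, i, j, h => by simp [imgPairs] at h
  | (r, n) :: rs, k + 1, i, j, h => by
    simp only [List.take_succ_cons, List.map_cons, imgPairs, List.mem_append] at h ⊢
    exact h.imp id (imgPairs_take P rs k)

theorem imgPairs_sublist (P : ℕ) : ∀ (rs : List (ℕ × ℕ)) (k : ℕ),
    List.Sublist ((imgPairs P (rs.take k) ((rs.take k).map Prod.fst)).map Prod.fst)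
      ((imgPairs P rs (rs.map Prod.fst)).map Prod.fst)
  | [], k => by simp
  | (r, n) :: rs, 0 => by simp [imgPairs]
  | (r, n) :: rs, k + 1 => by
    simp only [List.take_succ_cons, List.map_cons, imgPairs, List.map_append]
    exact (List.Sublist.refl _).append (imgPairs_sublist P rs k)

theorem testBit_imgMask : ∀ (es : List (ℕ × ℕ)) (o j : ℕ),
    (imgMask es o).testBit j = true ↔ ∃ e ∈ es, o.testBit e.1 = true ∧ e.2 = j
  | [], o, j => by simp [imgMask]
  | (a, b) :: es, o, j => by
    rw [imgMask, Nat.testBit_or, Bool.or_eq_true, testBit_imgMask es o j, List.exists_mem_cons_iff]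
    refine or_congr_left ?_
    by_cases h : o.testBit a = true
    · simp [h, Nat.testBit_two_pow]
    · simp [h]

variable {P : ℕ} {g : Equiv.Perm GolayPt}

theorem comm_apN (hv : validP P = true) (hc : g * toPerm P = toPerm P * g) : ∀ (a r : ℕ), r < 24 →
    apN P a r < 24 ∧ idx (g (pt (apN P a r))) = apN P a (idx (g (pt r))) := by
  intro a r hr
  induction a with
  | zero => exact ⟨hr, rfl⟩
  | succ a ih =>
    refine ⟨validP_lt hv ih.1, ?_⟩
    show idx (g (pt (ap P (apN P a r)))) = ap P (apN P a (idx (g (pt r))))
    have h1 : toPerm P (pt (apN P a r)) = pt (ap P (apN P a r)) := by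
      rw [toPerm_apply hv, idx_pt _ ih.1]
    have h2 : g (toPerm P (pt (apN P a r))) = toPerm P (g (pt (apN P a r))) := Equiv.ext_iff.1 hc _
    rw [← h1, h2, idx_toPerm hv, ih.2]

theorem tree_mem {reps : List (ℕ × ℕ)} (hv : validP P = true) (hg : g ∈ M24)
    (hc : g * toPerm P = toPerm P * g)
    (hreps : ∀ r ∈ reps, r.1 < 24 ∧ apN P r.2 r.1 = r.1)
    (hnd : ((imgPairs P reps (reps.map Prod.fst)).map Prod.fst).Nodup) :
    ∀ (lvls : List (List (ℕ × List ℕ) × List ℕ)) (cur : List (List ℕ)) (k : ℕ),
      treeOK P reps cur lvls = true → k + lvls.length ≤ reps.length →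
      (∀ l ∈ lvls, ∀ o ∈ l.2, dec o ∈ octads) →
      (reps.take k).map (fun r => idx (g (pt r.1))) ∈ cur →
      (reps.take (k + lvls.length)).map (fun r => idx (g (pt r.1))) ∈ leaves cur lvls
  | [], cur, k, _, _, _, h => h
  | (ds, os) :: rest, cur, k, ht, hk, ho, h => by
    simp only [treeOK, Bool.and_eq_true, List.all_eq_true, List.mem_range, beq_iff_eq] at ht
    obtain ⟨⟨hlen, h1⟩, h2⟩ := ht
    simp only [List.length_cons] at hk ⊢
    have hkl : k < reps.length := by omega
    set f : ℕ → ℕ := fun r => idx (g (pt r)) with hf
    obtain ⟨j, hj, hjt⟩ := List.getElem_of_mem h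
    have hjd : j < ds.length := hlen ▸ hj
    set e0 : List ℕ × ℕ × List ℕ := (cur[j], ds[j]) with he0
    have he : e0 ∈ cur.zip ds := by
      rw [List.mem_iff_getElem]
      exact ⟨j, by rw [List.length_zip]; omega, by rw [List.getElem_zip, he0]⟩
    have ht : (reps.take (k + 1)).map (fun r => f r.1) =
        (reps.take k).map (fun r => f r.1) ++ [f (reps[k]).1] := by
      rw [List.take_succ_eq_append_getElem hkl, List.map_append, List.map_singleton]
    have hnext : (reps.take (k + 1)).map (fun r => f r.1) ∈ children cur ds := by
      have h3 := h1 _ he (f (reps[k]).1) (idx_lt _)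
      rw [Bool.or_eq_true] at h3
      rcases h3 with h3 | h3
      · refine List.mem_flatten.2 ⟨_, List.mem_map.2 ⟨e0, he, rfl⟩, List.mem_map.2 ⟨_,
          List.mem_filter.2 ⟨List.mem_range.2 (idx_lt _), h3⟩, ?_⟩⟩
        rw [ht]
        show e0.1 ++ _ = _
        rw [he0]
        show cur[j] ++ _ = _
        rw [hjt]
      exfalso
      have he1 : e0.1 = (reps.take k).map fun r => f r.1 := hjt
      rw [nodeOK, he1, ← ht] at h3
      simp only [List.length_map, List.length_take, Nat.min_eq_left hkl.le] at h3
      generalize e0.2.2.getD (f reps[k].1) 0 = code at h3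
      set rs := reps.take (k + 1) with hrs
      have hmem : ∀ r ∈ rs, r.1 < 24 ∧ apN P r.2 r.1 = r.1 := fun r hr => hreps r (List.mem_of_mem_take hr)
      have hmap := imgPairs_map P rs f fun r hr a => (comm_apN hv hc a r.1 (hmem r hr).1).2
      rw [hmap] at h3
      set es := imgPairs P rs (rs.map Prod.fst) with hes
      have hes24 : ∀ e ∈ es, e.1 < 24 := by
        intro e he
        have : ∀ (l : List (ℕ × ℕ)), (∀ r ∈ l, r.1 < 24) → ∀ e ∈ imgPairs P l (l.map Prod.fst), e.1 < 24 := by
          intro l
          induction l with
          | nil => intro _ e he; simp [imgPairs] at he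
          | cons r l ih =>
            intro hl e he
            obtain ⟨r0, n⟩ := r
            simp only [List.map_cons, imgPairs, List.mem_append, List.mem_map, List.mem_range] at he
            rcases he with ⟨a, -, rfl⟩ | he
            · exact (comm_apN hv hc a r0 (hl _ List.mem_cons_self)).1
            · exact ih (fun r hr => hl r (List.mem_cons_of_mem _ hr)) e he
        exact this rs (fun r hr => (hmem r hr).1) e he
      split_ifs at h3
      · simp only [Bool.or_eq_true, Bool.not_eq_true', decide_eq_false_iff_not] at h3
        rcases h3 with h3 | h3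
        · refine h3 ?_
          rw [List.map_map, show (Prod.snd ∘ fun e : ℕ × ℕ => (e.1, f e.1)) = f ∘ Prod.fst from rfl,
            ← List.map_map]
          refine List.Nodup.map_on (fun a ha b hb e => ?_) (hnd.sublist (imgPairs_sublist P reps (k + 1)))
          obtain ⟨x, hx, rfl⟩ := List.mem_map.1 ha
          obtain ⟨y, hy, rfl⟩ := List.mem_map.1 hb
          exact pt_injOn (hes24 x hx) (hes24 y hy) (g.injective (idx_injective e))
        · rw [List.all_eq_false] at h3
          obtain ⟨⟨r, c⟩, he, hne⟩ := h3
          rw [List.zip_map_right] at he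
          obtain ⟨⟨r', r''⟩, hrr, hee⟩ := List.mem_map.1 he
          have hz : ∀ (l : List (ℕ × ℕ)) (l' : List (ℕ × ℕ)) (a b : ℕ × ℕ), l'.IsPrefix l ∨ l.IsPrefix l' →
              (a, b) ∈ l.zip l' → a = b := by
            intro l
            induction l with
            | nil => intro l' a b _ h; simp at h
            | cons x l ih =>
              intro l' a b hp h
              cases l' with
              | nil => simp at h
              | cons y l' =>
                simp only [List.zip_cons_cons, List.mem_cons, Prod.mk.injEq] at h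
                rw [List.cons_prefix_cons, List.cons_prefix_cons] at hp
                rcases h with ⟨rfl, rfl⟩ | h
                · rcases hp with ⟨e, -⟩ | ⟨e, -⟩
                  · exact e.symm
                  · exact e
                · exact ih l' a b (hp.imp And.right And.right) h
          simp only [Prod.map_apply, id, Prod.mk.injEq] at hee
          obtain ⟨rfl, rfl⟩ := hee
          have := hz reps rs r' r'' (Or.inl (List.take_prefix _ _)) hrr
          subst this
          refine hne ?_
          rw [beq_iff_eq]
          obtain ⟨hr24, hr⟩ := hreps r' (List.of_mem_zip hrr).1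
          rw [← (comm_apN hv hc r'.2 r'.1 hr24).2, hr]
      · simp only [strict_eq, Bool.and_eq_true, decide_eq_true_eq, Bool.not_eq_true', beq_eq_false_iff_ne,
          beq_iff_eq] at h3
        obtain ⟨⟨ho', hwc, hw8⟩, h5, hne⟩ := h3
        set o := os.getD (code % 8) 0 with hodef
        set w := code / 8
        have hoo : dec o ∈ octads := ho _ List.mem_cons_self o (by
          rw [hodef, List.getD_eq_getElem _ _ ho']; exact List.getElem_mem _)
        have hww : dec w ∈ octads := dec_mem_octads hwc hw8
        set M := imgMask (es.map fun e => (e.1, f e.1)) o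
        have hsub : ∀ j, M.testBit j = true → j < 24 ∧ pt j ∈ g • dec o := by
          intro j hj
          obtain ⟨e, he, heo, rfl⟩ := (testBit_imgMask _ _ _).1 hj
          obtain ⟨x, hx, rfl⟩ := List.mem_map.1 he
          refine ⟨idx_lt _, ?_⟩
          rw [hf, pt_idx]
          exact Finset.smul_mem_smul_finset (by rw [mem_dec, idx_pt _ (hes24 x hx)]; exact heo)
        have hgo : g • dec o ∈ octads := smul_mem_octads hg hoo
        have heq : g • dec o = dec w := by
          refine octad_eq_of_five hgo hww ?_
          refine le_trans ?_ (Finset.card_le_card (s := dec (M &&& w)) fun p hp => ?_)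
          · rw [card_dec_eq_pop]; exact h5
          · rw [mem_dec, Nat.testBit_and, Bool.and_eq_true] at hp
            refine Finset.mem_inter.2 ⟨?_, mem_dec.2 hp.2⟩
            have := (hsub _ hp.1).2
            rwa [pt_idx] at this
        refine hne (Nat.eq_of_testBit_eq fun j => ?_)
        rw [Nat.testBit_and]
        by_cases hj : M.testBit j = true
        · obtain ⟨hj24, hm⟩ := hsub j hj
          rw [heq, mem_dec, idx_pt j hj24] at hm
          rw [hj, hm]; rfl
        · simp [hj]
    have := tree_mem hv hg hc hreps hnd rest (children cur ds) (k + 1) h2 (by omega)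
      (fun l hl => ho l (List.mem_cons_of_mem _ hl)) hnext
    rw [show k + (rest.length + 1) = k + 1 + rest.length by omega]
    exact this

/-- The number of elements of `M24` commuting with a permutation. -/
theorem ncard_commute_le {reps : List (ℕ × ℕ)} {N : ℕ} {lvls : List (List (ℕ × List ℕ) × List ℕ)}
    (hok : centOK P reps N lvls = true) :
    {g : Equiv.Perm GolayPt | g ∈ M24 ∧ g * toPerm P = toPerm P * g}.ncard ≤ N := by
  classical
  simp only [centOK, Bool.and_eq_true, beq_iff_eq, Nat.beq_eq, List.all_eq_true, decide_eq_true_eq] at hok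
  obtain ⟨⟨⟨⟨⟨⟨⟨hv, hlen⟩, hreps⟩, hnd⟩, h9⟩, hoct⟩, htree⟩, hN⟩ := hok
  rw [← hN]
  set L := leaves [[]] lvls
  set S := {g : Equiv.Perm GolayPt | g ∈ M24 ∧ g * toPerm P = toPerm P * g}
  let F : Equiv.Perm GolayPt → List ℕ := fun g => reps.map fun r => idx (g (pt r.1))
  have hF : Set.InjOn F S := by
    rintro g ⟨hg, hgc⟩ h ⟨hh, hhc⟩ e
    have he : ∀ r ∈ reps, idx (g (pt r.1)) = idx (h (pt r.1)) := fun r hr => List.map_inj_left.1 e r hr
    have hall : ∀ i ∈ (imgPairs P reps (reps.map Prod.fst)).map Prod.fst, i < 24 ∧ g (pt i) = h (pt i) := by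
      have : ∀ (l : List (ℕ × ℕ)), (∀ r ∈ l, r ∈ reps) →
          ∀ i ∈ (imgPairs P l (l.map Prod.fst)).map Prod.fst, i < 24 ∧ g (pt i) = h (pt i) := by
        intro l
        induction l with
        | nil => intro _ i hi; simp [imgPairs] at hi
        | cons r l ih =>
          intro hl i hi
          obtain ⟨r0, n⟩ := r
          simp only [List.map_cons, imgPairs, List.map_append, List.map_map, List.mem_append, List.mem_map,
            List.mem_range] at hi
          rcases hi with ⟨a, -, rfl⟩ | hi
          · have hr := hl _ List.mem_cons_self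
            refine ⟨(comm_apN hv hgc a r0 (hreps _ hr).1).1, idx_injective ?_⟩
            show idx (g (pt (apN P a r0))) = idx (h (pt (apN P a r0)))
            rw [(comm_apN hv hgc a r0 (hreps _ hr).1).2, (comm_apN hv hhc a r0 (hreps _ hr).1).2, he _ hr]
          · exact ih (fun r hr => hl r (List.mem_cons_of_mem _ hr)) i (by
              simpa [List.map_map, List.mem_map] using hi)
      exact this reps fun r hr => hr
    refine (inv_mul_eq_one.1 (Over.fix_nine (mul_mem (inv_mem hh) hg) ?_)).symm
    refine le_trans h9 ?_
    rw [← List.length_map (f := fun e => pt e.1), ← List.toFinset_card_of_nodup ?_]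
    · refine Finset.card_le_card fun p hp => ?_
      rw [List.mem_toFinset, List.mem_map] at hp
      obtain ⟨x, hx, rfl⟩ := hp
      rw [Classes.mem_fixSet, Equiv.Perm.mul_apply, (hall _ (List.mem_map_of_mem hx)).2,
        show h⁻¹ (h (pt x.1)) = pt x.1 from h.symm_apply_apply _]
    · rw [show (fun e : ℕ × ℕ => pt e.1) = pt ∘ Prod.fst from rfl, ← List.map_map]
      refine List.Nodup.map_on (fun a ha b hb e => pt_injOn ?_ ?_ e) hnd
      exacts [(hall _ ha).1, (hall _ hb).1]
  refine le_trans (Set.ncard_le_ncard_of_injOn F (t := ↑L.toFinset) (fun g hg => ?_) hF (Finset.finite_toSet _))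
    (by rw [Set.ncard_coe_finset]; exact List.toFinset_card_le _)
  have := tree_mem hv hg.1 hg.2 hreps hnd lvls [[]] 0 htree (by omega)
    (fun l hl o ho => dec_mem_octads (hoct l hl o ho).1 (hoct l hl o ho).2) (by simp)
  rw [Nat.zero_add, ← hlen, List.take_length] at this
  exact List.mem_toFinset.2 this

end CfsgLib.MonsterCent
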