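import Cfsg.Agent.Lib.MonsterCent.DataThreeFree
import Cfsg.Agent.Lib.MonsterCent.Perm
import Cfsg.Agent.Lib.MonsterCent.Action

/-!
The checks of the data of one permutation.
-/

set_option autoImplicit false
set_option maxRecDepth 100000

namespace CfsgLib.MonsterCent.ThreeFree

open Cfsg CfsgLib.Golay CfsgLib.Leech CfsgLib.Leech.OutOne CfsgLib.LeechIso CfsgLib.MonsterCent

theorem perm_ok : inM24 perm = true := by decide +kernel

theorem fix_ok : fixOK (monoTab perm 0) ker proj coef left = true := by decide +kernel

theorem cls_ok : clsOK reps form ker frames wit = true := by decide +kernel

theorem ker_sub : (ker.all fun k => frames.contains k) = true := by decide +kernel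

theorem words_count : (fixWords perm).length = 16 := by decide +kernel

theorem tree_ok : centOK perm orbReps 504 tree = true := by decide +kernel

theorem act_ok : actOK 135 (monoTab perm 0) gens pts images = true := by decide +kernel

theorem chain_ok : chainOK 135 181440 images prog lev = true := by decide +kernel

end CfsgLib.MonsterCent.ThreeFree
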