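import Cfsg.Agent.Lib.MonsterCent.Pkg
import Cfsg.Agent.Lib.Monster.LocalMain
import Cfsg.Agent.Lib.Golay.Classes.Three

/-!
Monomial automorphisms of prime order up to conjugation in the monomial group.
-/

set_option autoImplicit false
set_option maxRecDepth 10000
set_option linter.style.haveILetI false

namespace CfsgLib.MonsterCent

open Cfsg CfsgLib.Golay CfsgLib.Leech CfsgLib.Monster
open scoped Pointwise

attribute [local irreducible] dL bL key keyL coord packB linL bits autOK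

/-- At a prime whose square does not divide the order all elements of that order are conjugate up to
powers. -/
theorem cross_conj_pow {p : ℕ} (hp : p.Prime) (hp2 : ¬ p ^ 2 ∣ 4096 * 244823040) {g b : ↥Co0}
    (hg : g ∈ crossStab) (hgo : orderOf g = p) (hb : b ∈ crossStab) (hbo : orderOf b = p) :
    ∃ m ∈ crossStab, ∃ j : ℕ, Nat.Coprime p j ∧ m * g * m⁻¹ = b ^ j := by
  haveI := finite_Co0
  haveI : Fact p.Prime := ⟨hp⟩
  obtain ⟨m, j, hj, hm⟩ := exists_conj_pow (H := ↥crossStab) (by rw [natCard_crossStab]; exact hp2)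
    (g := ⟨g, hg⟩) (b := ⟨b, hb⟩) (by rw [Subgroup.orderOf_mk]; exact hgo)
    (by rw [Subgroup.orderOf_mk]; exact hbo)
  exact ⟨m, m.2, j, hj, congrArg Subtype.val hm⟩

theorem perm_of_pow {σ : Equiv.Perm GolayPt} {d : Finset GolayPt} (hσ : σ ∈ M24) (hd : d ∈ CS) :
    ∀ n : ℕ, ∃ (e : Finset GolayPt) (he : e ∈ CS), (mono hσ hd : ↥Co0) ^ n = mono (pow_mem hσ n) he
  | 0 => ⟨∅, empty_mem_CS, by rw [pow_zero, one_eq_mono]; congr 1⟩
  | n + 1 => by
    obtain ⟨e, he, h⟩ := perm_of_pow hσ hd n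
    obtain ⟨e', he', h'⟩ := mono_mul_perm hσ hd (pow_mem hσ n) he
    refine ⟨e', he', ?_⟩
    rw [pow_succ', h, h']
    congr 1
    exact (pow_succ σ n).symm

theorem permAut_conj_sign {P : ℕ} (hP : inM24 P = true) {x : ↥Co0} (hx : x ∈ signGroup) :
    permAut hP * x * (permAut hP)⁻¹ ∈ signGroup := by
  obtain ⟨d, hd, rfl⟩ := hx
  obtain ⟨e1, he1, h1⟩ := mono_mul_perm (toPerm_mem_M24 hP) empty_mem_CS (one_mem M24) hd
  obtain ⟨e0, he0, h0⟩ := inv_mono_perm (toPerm_mem_M24 hP) empty_mem_CS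
  obtain ⟨e2, he2, h2⟩ := mono_mul_perm (mul_mem (one_mem M24) (toPerm_mem_M24 hP)) he1
    (inv_mem (toPerm_mem_M24 hP)) he0
  refine ⟨e2, he2, ?_⟩
  rw [permAut, h1, h0, h2]
  congr 1
  rw [one_mul, inv_mul_cancel]

/-- A monomial automorphism of order three is conjugate in the monomial group to one of two
permutations. -/
theorem cross_conj_three {P6 P0 : ℕ} (h6 : inM24 P6 = true) (h0 : inM24 P0 = true)
    (e6 : P6 = Classes.threeSix) (e0 : P0 = Classes.threeFree)
    (o6 : orderOf (permAut h6) = 3) (o0 : orderOf (permAut h0) = 3)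
    {g : ↥Co0} (hg : g ∈ crossStab) (hgo : orderOf g = 3) :
    (∃ m ∈ crossStab, m * g * m⁻¹ = permAut h6) ∨ ∃ m ∈ crossStab, m * g * m⁻¹ = permAut h0 := by
  haveI := finite_Co0
  obtain ⟨σ, d, hσ, hd, rfl⟩ := crossStab_eq_mono hg
  have hg3 : (mono hσ hd : ↥Co0) ^ 3 = 1 := by rw [← hgo, pow_orderOf_eq_one]
  have hσ3 : orderOf σ = 3 := by
    haveI : Fact (Nat.Prime 3) := ⟨Nat.prime_three⟩
    refine orderOf_eq_prime ?_ fun h1 => ?_
    · obtain ⟨e, he, h⟩ := perm_of_pow hσ hd 3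
      rw [hg3, one_eq_mono] at h
      exact (perm_unique h).symm
    · subst h1
      have h2 : (mono hσ hd : ↥Co0) ^ 2 = 1 := by
        refine aut_ext fun v => ?_
        rw [pow_two, mul_smul, mono_one_sq hd, one_smul]
      rw [pow_succ, h2, one_mul] at hg3
      rw [hg3, orderOf_one] at hgo
      norm_num at hgo
  have main : ∀ (P : ℕ) (hP : inM24 P = true), orderOf (permAut hP) = 3 → ∀ k ∈ M24,
      k * toPerm P * k⁻¹ = σ → ∃ m ∈ crossStab, m * mono hσ hd * m⁻¹ = permAut hP := by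
    intro P hP hPo k hk hke
    set m : ↥Co0 := mono hk empty_mem_CS with hmdef
    have hmc : m ∈ crossStab := mono_mem_crossStab _ _
    obtain ⟨e1, he1, h1⟩ := mono_mul_perm hk empty_mem_CS hσ hd
    obtain ⟨e0', he0', h0'⟩ := inv_mono_perm hk empty_mem_CS
    obtain ⟨e2, he2, h2⟩ := mono_mul_perm (mul_mem hσ hk) he1 (inv_mem hk) he0'
    have hperm : k⁻¹ * (σ * k) = toPerm P := by rw [← hke]; group
    have hg1 : m * mono hσ hd * m⁻¹ = mono (toPerm_mem_M24 hP) he2 := by
      rw [hmdef, h1, h0', h2]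
      congr 1
    have hdiff : m * mono hσ hd * m⁻¹ * (permAut hP)⁻¹ ∈ signGroup := by
      obtain ⟨e3, he3, h3⟩ := inv_mono_perm (toPerm_mem_M24 hP) empty_mem_CS
      obtain ⟨e4, he4, h4⟩ := mono_mul_perm (toPerm_mem_M24 hP) he2 (inv_mem (toPerm_mem_M24 hP)) he3
      refine ⟨e4, he4, ?_⟩
      rw [hg1, permAut, h3, h4]
      congr 1
      rw [inv_mul_cancel]
    have hn : permAut hP ∈ Subgroup.normalizer (signGroup : Set ↥Co0) := by
      refine Subgroup.mem_normalizer_iff.2 fun x => ⟨permAut_conj_sign hP, fun hx => ?_⟩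
      have h2' := permAut_conj_sign hP (permAut_conj_sign hP hx)
      have e : permAut hP * (permAut hP * (permAut hP * x * (permAut hP)⁻¹) * (permAut hP)⁻¹) * (permAut hP)⁻¹ =
          permAut hP ^ 3 * x * (permAut hP ^ 3)⁻¹ := by rw [pow_succ, pow_two]; group
      rw [e, ← hPo, pow_orderOf_eq_one, one_mul, inv_one, mul_one] at h2'
      exact h2'
    obtain ⟨c, hc, hce⟩ := exists_conj_of_coset hn hPo (by rw [natCard_signGroup]; decide) hdiff
      (by rw [conj_pow, hg3, mul_one, mul_inv_cancel])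
    refine ⟨c * m, mul_mem ?_ hmc, ?_⟩
    · obtain ⟨d', hd', rfl⟩ := hc
      exact mono_mem_crossStab _ _
    · rw [← hce]; group
  obtain ⟨k, hk, hke | hke⟩ := Classes.conj_three hσ hσ3
  · exact Or.inl (main P6 h6 o6 k hk (by rw [e6]; exact hke))
  · exact Or.inr (main P0 h0 o0 k hk (by rw [e0]; exact hke))

/-- conjugate elements of the monomial group have monomial centralisers of the same order -/
theorem card_cross_cent_conj {m g : ↥Co0} (hm : m ∈ crossStab) :
    Nat.card ↥(crossStab ⊓ Subgroup.centralizer ({m * g * m⁻¹} : Set ↥Co0)) =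
      Nat.card ↥(crossStab ⊓ Subgroup.centralizer ({g} : Set ↥Co0)) := by
  refine (Nat.card_congr (Equiv.subtypeEquiv (MulAut.conj m).toEquiv fun x => ?_)).symm
  show x ∈ _ ↔ m * x * m⁻¹ ∈ _
  rw [Subgroup.mem_inf, Subgroup.mem_inf, Subgroup.mem_centralizer_singleton_iff,
    Subgroup.mem_centralizer_singleton_iff]
  constructor
  · rintro ⟨h1, h2⟩
    refine ⟨mul_mem (mul_mem hm h1) (inv_mem hm), ?_⟩
    calc m * x * m⁻¹ * (m * g * m⁻¹) = m * (x * g) * m⁻¹ := by group
      _ = m * (g * x) * m⁻¹ := by rw [h2]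
      _ = _ := by group
  · rintro ⟨h1, h2⟩
    refine ⟨?_, ?_⟩
    · have := mul_mem (mul_mem (inv_mem hm) h1) hm
      rwa [show m⁻¹ * (m * x * m⁻¹) * m = x by group] at this
    · calc x * g = m⁻¹ * (m * x * m⁻¹ * (m * g * m⁻¹)) * m := by group
        _ = m⁻¹ * (m * g * m⁻¹ * (m * x * m⁻¹)) * m := by rw [h2]
        _ = _ := by group

end CfsgLib.MonsterCent
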