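import Cfsg.Agent.Lib.Leech.Basis

/-!
Data for the centraliser of a permutation in the automorphism group of the lattice.
-/

set_option autoImplicit false
set_option maxRecDepth 100000

namespace CfsgLib.MonsterCent.Seven

/-- the permutation -/
def perm : ℕ := 568694095673325049268323181693780650

/-- a basis of the fixed classes among the frames -/
def ker : List ℕ := [502859, 592970, 5475403, 8035689, 8846697, 9486336]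

/-- representatives of the basis -/
def reps : List (List ℤ) := [
  [4,-4,-2,0,-2,-2,-2,-2,-2,0,0,-2,-2,-6,-6,-10,6,-4,-2,-8,-10,4,-10,6],
  [1,-3,-1,1,-1,-1,-1,-1,-1,1,1,-1,3,3,3,-1,-1,-3,-5,5,-5,-7,-1,3],
  [4,-4,-2,0,-2,-2,-2,-2,-2,0,0,-2,6,10,-2,2,-2,-4,10,4,-10,8,-10,2],
  [4,-4,-4,0,0,-2,-2,0,-2,0,0,-2,4,6,12,-2,4,8,6,16,-8,4,-12,-2],
  [4,-4,-4,0,0,-2,-2,0,-2,0,0,-2,-4,-10,-8,-10,16,4,-2,4,-4,8,-12,6],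
  [0,0,0,0,0,0,0,0,0,0,0,0,0,0,-16,0,0,0,8,8,0,0,-8,0]]

/-- a partial inverse -/
def proj : List ℕ := [0, 0, 103264, 0, 0, 72586, 155187, 0, 244216, 153636, 0, 233096, 200838, 23756, 109772, 26512, 189530, 226995, 214928, 139886, 203188, 258892, 18738, 183033]

/-- the coordinates of the projection -/
def coef : List ℕ := [0, 0, 0, 0, 0, 0, 0, 0, 0, 0, 0, 0, 0, 0, 0, 0, 0, 0, 1, 2, 49, 14, 53, 17]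

/-- coordinates in the basis -/
def left : List ℕ := [0, 0, 0, 0, 0, 0, 0, 0, 0, 0, 0, 0, 0, 0, 0, 0, 0, 0, 1, 2, 49, 14, 53, 17]


/-- the fixed frames -/
def frames : List ℕ := [
  502859, 592970, 5475403, 5931009, 8035689, 8204578, 8846697, 9433379, 13988130, 14450024,
   9486336, 9923659, 15359337, 15593762]

/-- short vectors of the short classes -/
def wit : List (List ℤ) := [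
  [], [], [], [], [], [0,0,0,0,0,0,4,0,0,0,0,0,0,0,0,0,0,0,0,0,0,0,4,0], [], [], [], [], [],
   [-1,-1,-1,-1,-1,1,1,-1,1,-1,-1,1,-1,1,-1,1,-1,-1,1,-1,-1,-1,3,1], [], [],
   [-1,-1,-1,-1,-1,1,-3,-1,1,-1,-1,1,-1,1,-1,1,-1,-1,1,-1,-1,-1,-1,1], [], [], [], [],
   [-1,-1,-1,-1,-1,1,1,-1,1,3,-1,1,-1,1,-1,1,-1,-1,1,-1,-1,-1,-1,1], [], [], [],
   [1,1,-1,1,-1,1,1,-1,1,-3,1,1,-1,1,-1,1,-1,1,1,1,-1,1,-1,1],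
   [0,0,0,0,0,0,0,0,0,4,0,0,0,0,0,0,0,0,0,0,0,0,-4,0], [], [], [], [],
   [0,0,0,0,0,0,4,0,0,4,0,0,0,0,0,0,0,0,0,0,0,0,0,0],
   [1,1,1,1,1,1,-3,1,1,1,1,1,1,1,1,1,1,1,1,1,1,1,1,1],
   [-1,-1,1,-1,1,1,1,1,1,-1,-1,1,1,1,1,1,1,-1,1,-1,1,-1,-3,1], [], [], [],
   [1,1,1,1,1,1,1,1,1,-3,1,1,1,1,1,1,1,1,1,1,1,1,1,1],
   [2,2,0,2,0,0,0,0,0,2,2,0,0,0,0,0,0,2,0,2,0,2,0,0],
   [0,0,0,0,0,0,4,0,0,0,0,0,0,0,0,0,0,0,0,0,0,0,-4,0], [],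
   [-1,-1,1,-1,1,1,1,1,1,3,-1,1,1,1,1,1,1,-1,1,-1,1,-1,1,1], [], [],
   [1,1,-1,1,-1,1,-3,-1,1,1,1,1,-1,1,-1,1,-1,1,1,1,-1,1,-1,1], [], [], [], [],
   [1,1,-1,1,-1,1,1,-1,1,1,1,1,-1,1,-1,1,-1,1,1,1,-1,1,3,1],
   [0,0,0,0,0,2,2,0,2,0,0,2,0,2,0,2,0,0,2,0,0,0,0,2], [], [], [],
   [0,0,2,0,2,0,0,2,0,0,0,0,2,0,2,0,2,0,0,0,2,0,2,0], [], [], [],
   [0,0,0,0,0,0,0,0,0,4,0,0,0,0,0,0,0,0,0,0,0,0,4,0], [],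
   [-1,-1,1,-1,1,1,-3,1,1,-1,-1,1,1,1,1,1,1,-1,1,-1,1,-1,1,1],
   [1,1,1,1,1,1,1,1,1,1,1,1,1,1,1,1,1,1,1,1,1,1,-3,1], [],
   [0,0,0,0,0,0,4,0,0,-4,0,0,0,0,0,0,0,0,0,0,0,0,0,0], [], []]

/-- images of the basis under generators of the centraliser -/
def gens : List (List (List ℤ)) := [
  [
    [1,-1,-1,-1,-1,1,-3,1,1,1,1,1,1,1,-1,1,1,1,1,-1,1,-1,-1,1],
    [0,0,0,0,0,0,-2,0,2,0,0,0,0,2,2,0,-2,0,0,0,-2,0,-2,2],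
    [0,0,2,-2,0,-2,0,0,2,0,0,0,0,0,2,0,-2,0,0,0,-2,2,0,0],
    [1,1,-1,-1,1,-1,3,1,-1,1,-1,-1,-1,-1,-1,-1,-1,-1,-1,-1,1,1,1,-1],
    [0,-2,0,0,0,0,-2,2,0,0,0,2,0,0,-2,0,0,0,0,-2,2,0,2,0],
    [-1,1,1,1,1,-1,1,1,1,-1,-1,-1,1,1,1,1,-3,1,1,-1,-1,1,-1,1],
    [0,0,-2,0,0,0,0,2,0,0,0,2,0,0,-2,2,2,0,0,-2,0,-2,0,0],
    [-1,-1,-1,-1,1,-1,-1,1,1,-1,-1,-1,-1,-1,1,-1,-1,-1,-1,1,-3,1,-1,1],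
    [-2,0,2,0,0,0,0,0,0,-2,0,2,0,0,0,0,2,2,0,2,0,0,0,2],
    [0,0,0,-2,0,0,2,0,0,0,2,-2,0,0,0,2,0,0,0,0,-2,0,-2,2],
    [-1,1,-1,3,1,1,-1,1,-1,-1,1,-1,-1,1,-1,1,1,1,-1,1,-1,-1,1,1],
    [-2,-2,2,0,0,0,-2,0,0,-2,2,0,0,0,2,0,0,0,2,2,2,2,2,0],
    [-1,-3,5,-1,1,-1,-1,-1,3,-1,3,1,1,-1,1,1,1,3,1,3,-1,1,1,-3],
    [1,3,1,-1,-1,1,3,1,-1,-1,-1,-3,1,1,1,5,-1,3,3,1,1,-1,-3,-1],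
    [-1,3,-1,3,1,3,1,1,-3,-3,-3,-1,1,3,-1,3,-1,1,1,-3,1,-1,-1,1],
    [0,-2,-2,0,0,2,0,-2,2,-2,-2,4,0,0,-2,-2,0,-2,0,0,0,0,-2,2],
    [2,-2,0,-2,-2,-2,0,-2,2,2,0,2,2,0,2,0,-4,2,2,0,2,2,-2,-4],
    [-2,-4,-4,2,2,2,0,0,0,-2,0,0,-2,-2,2,0,2,-2,2,-2,-2,2,2,-2],
    [2,0,2,6,-2,10,-4,-4,-6,2,6,-2,2,0,0,0,4,-4,2,0,0,-4,-2,0],
    [1,-1,1,-3,-1,1,1,-3,1,1,-5,1,3,-3,-3,1,-1,3,1,5,1,-1,-1,-3],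
    [-1,-1,3,-1,1,3,-1,1,-1,-3,1,1,1,3,-3,-3,-5,-1,1,-3,-1,1,-1,5],
    [-1,3,3,3,1,-3,-1,1,1,-1,1,1,1,3,1,3,3,3,-3,1,1,-1,1,-1],
    [0,0,0,-2,0,-2,10,0,0,0,0,4,-2,-8,-4,2,0,-4,-2,0,2,2,0,-4],
    [0,-2,2,-4,0,0,0,2,-2,2,2,-4,0,-2,0,-2,-4,0,2,0,-2,2,2,0]],
  [
    [1,-1,1,1,1,-1,-1,1,1,-1,1,1,-1,1,1,1,1,1,1,-1,1,-1,3,1],
    [0,0,2,-2,0,2,-2,0,0,0,0,0,0,2,0,0,0,0,0,0,0,2,2,2],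
    [0,0,0,-4,0,0,0,0,0,0,0,0,0,0,0,0,0,0,0,0,0,4,0,0],
    [0,0,0,0,0,-2,2,0,0,2,0,-2,0,0,-2,0,0,-2,0,0,0,0,-2,-2],
    [0,-2,0,2,2,-2,0,0,0,-2,2,0,0,0,0,0,0,0,0,0,0,0,2,-2],
    [0,0,0,-2,0,2,0,-2,0,0,0,-2,0,2,0,0,-2,0,2,0,0,2,0,0],
    [0,0,0,2,0,-2,0,0,0,0,2,0,0,0,0,2,-2,0,0,-2,0,-2,2,0],
    [-2,0,0,-2,0,0,-2,0,0,0,0,-2,0,0,0,0,0,-2,-2,0,0,2,0,2],
    [-2,0,-2,0,0,0,0,0,0,-2,0,2,0,0,0,0,-2,2,0,2,0,0,0,2],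
    [0,0,0,-2,-2,0,0,-2,0,2,0,0,-2,0,0,2,0,0,0,0,2,0,0,2],
    [-1,1,1,3,-1,1,-1,-1,-1,-1,1,-1,1,1,1,1,-1,1,-1,1,1,-1,-1,1],
    [0,0,-2,0,0,0,0,-2,0,-4,0,2,0,0,2,-2,2,0,0,2,0,2,0,0],
    [-1,-1,-3,-3,-1,1,1,1,1,-3,1,3,-1,-1,5,1,1,3,-1,1,-1,3,-1,-1],
    [3,1,-3,-1,-3,1,1,-1,-1,1,-3,-1,-1,3,1,3,-1,1,5,-1,1,-1,-1,1],
    [1,1,-1,3,-1,3,-1,-3,-1,-1,-1,-3,1,3,-3,1,-3,1,3,-1,1,-3,1,-1],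
    [-1,-1,-1,1,1,1,-3,1,3,1,1,1,-1,-1,-3,-1,-1,-1,-1,1,-3,-1,3,1],
    [4,-2,-2,-4,2,0,0,2,2,2,0,2,0,2,2,-2,2,0,2,-2,-2,2,0,-2],
    [-1,3,-3,3,1,1,-1,-3,1,-1,1,-1,-1,-1,1,-1,1,-3,-5,-3,-1,1,1,-1],
    [1,1,3,7,-1,9,-1,-1,-3,-1,-1,5,-1,-5,1,1,7,1,1,-1,3,-7,1,1],
    [2,-2,-6,-2,0,0,0,6,2,2,-2,-2,0,-2,2,0,0,2,2,2,-2,-2,0,0],
    [-3,-3,1,-1,1,3,-3,-3,-1,-1,3,-1,-3,1,-5,-1,1,1,3,3,1,1,3,-1],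
    [0,0,2,0,-2,0,2,0,0,-4,0,2,4,2,2,2,-4,4,0,0,0,0,-2,0],
    [0,-2,-6,0,-2,-4,4,0,2,6,2,2,0,-6,-2,2,-4,-6,0,0,-2,0,-4,-4],
    [-1,-1,-1,-3,1,-1,1,-1,-3,1,1,-3,-3,-1,1,-1,5,-1,1,1,3,3,-1,-1]]]

/-- the classes acted on -/
def pts : List ℕ := [
  502859, 8035689, 8204578, 9486336, 9923659, 15359337, 15593762]

/-- images of the classes -/
def images : List ℕ := [
  0x6008050040400003, 0x3008010100001406]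

/-- a program -/
def prog : List (ℕ × ℕ × ℕ) := [
  (0, 0, 0x6010020000500c01), (1, 1, 0x4000050040600803), (0, 1, 0x1010000140300806),
   (4, 1, 0x500c020000601001), (2, 5, 0x4000050040600803), (2, 6, 0x20040400c0601400),
   (5, 0, 0x5018030100200400), (3, 1, 0x1018020140300004), (9, 0, 0x100c060000201005),
   (10, 1, 0x8040180500c01), (2, 11, 0x1014020180400003), (2, 12, 0x3010050180200400)]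

/-- orbit trees -/
def lev : List (ℕ × List (ℕ × ℕ)) := [
  (0, [(0,0), (0,1), (3,0), (3,1), (6,7), (6,8)]), (1, [(1,7), (5,8), (5,13), (6,7), (6,13)]),
   (3, [(3,8), (3,13), (4,13)])]

/-- coordinates of the points -/
def coords : List ℕ := [1, 2, 3, 4, 5, 6, 7]

/-- the matrices of the generators -/
def mats : List (List (List ℕ)) := [[[0, 1, 0], [0, 0, 1], [1, 0, 0]], [[1, 0, 1], [1, 1, 0], [1, 1, 1]]]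

/-- vectors of the fixed frames -/
def frameVecs : List (List ℤ) := [
  [-2,-2,4,-2,0,0,0,0,0,-2,2,-4,0,0,0,0,0,2,0,2,0,2,0,0],
   [-1,-1,1,-1,1,1,5,1,1,3,-1,1,1,1,1,1,1,-1,1,-1,1,-1,-3,1],
   [2,-6,0,2,0,0,0,0,0,2,2,0,0,0,0,0,0,2,0,2,0,2,0,0],
   [1,1,1,1,1,1,5,1,1,-3,1,1,1,1,1,1,1,1,1,1,1,1,-3,1],
   [4,0,0,0,4,-2,-2,0,-2,0,0,2,0,-2,0,2,0,0,2,0,0,0,0,2],
   [4,0,-2,0,-2,0,0,-2,0,0,0,0,2,0,2,-4,-2,0,0,0,2,0,2,0],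
   [0,0,0,0,0,2,-6,0,2,0,0,2,0,2,0,2,0,0,2,0,0,0,0,2],
   [1,1,-1,1,-1,1,5,-1,1,-3,1,1,-1,1,-1,1,-1,1,1,1,-1,1,3,1],
   [0,0,2,0,-6,0,0,2,0,0,0,0,2,0,2,0,2,0,0,0,2,0,2,0],
   [-1,-1,-1,-1,-1,1,5,-1,1,3,-1,1,-1,1,-1,1,-1,-1,1,-1,-1,-1,3,1],
   [8,0,0,0,0,0,0,0,0,0,0,0,0,0,0,0,0,0,0,0,0,0,0,0],
   [-2,-2,4,-2,0,0,0,0,0,-2,2,4,0,0,0,0,0,2,0,2,0,2,0,0],
   [4,0,0,0,-4,-2,-2,0,-2,0,0,2,0,-2,0,2,0,0,2,0,0,0,0,2],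
   [4,0,-2,0,-2,0,0,-2,0,0,0,0,2,0,2,4,-2,0,0,0,2,0,2,0]]

/-- images of the basis under an element inverting the permutation -/
def inverter : List (List ℤ) := [
    [0,-2,0,-2,0,0,-2,0,0,0,0,0,0,0,0,0,-2,-2,0,-2,0,0,2,2],
    [0,-2,0,0,0,0,0,0,0,0,-2,0,0,2,0,0,0,0,0,-2,-2,-2,2,-2],
    [0,0,0,0,-2,0,0,0,0,0,0,0,2,2,0,0,2,2,0,-2,-2,0,0,-2],
    [1,1,-1,1,1,1,1,-1,-1,1,1,-1,1,-1,-1,1,1,1,-1,1,-1,1,-3,1],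
    [1,-1,1,-1,-1,1,-3,-1,-1,-1,1,-1,1,-1,-1,1,-1,-1,-1,1,1,1,1,1],
    [-1,-1,1,1,1,1,1,-1,-1,1,-1,1,1,1,1,1,1,1,-1,-1,-1,1,1,-3],
    [1,-1,-1,-3,1,-1,-1,-1,-1,1,1,-1,-1,-1,1,1,-1,-1,-1,1,1,1,1,1],
    [1,-1,-1,1,-1,-1,1,-1,-1,-1,-1,-1,-1,1,-1,1,1,3,1,-1,-1,-1,1,-1],
    [0,0,2,0,-2,0,0,2,0,0,0,0,-2,0,2,0,2,0,0,0,2,0,2,0],
    [0,-2,-2,0,0,0,2,0,0,2,0,0,0,0,2,-2,0,2,0,-2,0,0,0,0],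
    [0,-2,0,0,2,0,0,0,0,-2,-2,0,-2,0,2,0,0,0,0,2,2,0,0,0],
    [0,0,2,2,-2,0,-2,0,0,-2,0,2,2,0,0,-2,2,0,2,0,2,0,2,0],
    [-1,1,1,-1,-5,-1,-1,3,1,-1,-1,1,3,3,1,-1,1,1,3,-1,3,3,1,-1],
    [-5,-1,-1,1,3,-1,3,1,-1,3,1,3,1,1,3,-1,1,-1,-1,-1,-1,3,1,1],
    [-3,-1,1,1,5,1,1,-1,-1,1,-1,1,-1,-3,3,1,-1,-1,-3,3,-1,1,3,-1],
    [1,1,1,-1,-1,-1,1,1,-1,1,-1,-3,-1,-3,-3,1,-1,-1,-1,-1,1,-3,3,-1],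
    [-1,1,1,-1,-3,-1,1,1,-1,1,1,3,5,1,-3,1,-1,-3,1,-3,-3,1,-1,-1],
    [1,1,1,-1,1,-3,-1,-3,-3,-1,-1,-1,1,-3,-1,-1,-1,3,5,3,1,-1,1,-1],
    [-5,1,-1,1,3,1,-1,-1,7,-1,-1,1,-1,-1,3,-5,-9,-3,3,3,5,-7,1,3],
    [-5,3,-1,1,-3,-3,1,5,-1,1,1,1,-1,-1,-3,3,-1,-1,-1,-3,1,3,-1,1],
    [0,-2,2,4,-2,4,0,-2,0,0,-2,-4,2,-2,2,0,-2,0,-4,-2,0,-2,4,-2],
    [1,-1,1,-3,1,1,-1,3,3,-1,-1,3,-1,3,3,1,3,-1,-1,3,1,3,1,-1],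
    [1,5,-3,-3,-3,-1,5,-1,-3,5,5,-1,3,-3,-3,1,3,3,-3,3,5,1,-5,1],
    [-1,-1,-1,5,-3,1,-1,-3,-1,-1,1,-1,3,1,1,-1,-1,3,1,-3,-1,1,-3,1]]

/-- the forms on the representatives -/
def form : List (Bool × List Bool) := [
  (false, [true, false, false, true, false]), (false, [false, true, false, true]),
   (false, [true, false, false]), (false, [false, false]), (false, [false]), (false, [])]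

end CfsgLib.MonsterCent.Seven
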