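import Cfsg.Agent.Lib.Leech.Basis

/-!
Data for the intersections of the fixed parts of two extraspecial subgroups.
-/

set_option autoImplicit false
set_option maxRecDepth 100000

namespace CfsgLib.MonsterCent.Seven

/-- each frame from an earlier one by a generator or the inverting element (number three) -/
def steps : List (ℕ × ℕ × ℕ) := [(4, 10, 0), (11, 10, 1), (7, 10, 2), (0, 4, 0), (12, 4, 1), (1, 4, 2), (2, 11, 2), (8, 7, 0), (13, 0, 1), (9, 0, 2), (5, 12, 0), (6, 12, 2), (3, 2, 1)]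

/-- sign changes and vectors giving witnesses against the frames -/
def meetWit : List (ℕ × List ℤ) := [
  (18147, [2,2,2,2,2,0,0,2,0,0,2,0,2,0,0,0,0,0,0,0,0,0,0,0]),
  (18147, [2,2,2,2,2,0,0,2,0,0,2,0,2,0,0,0,0,0,0,0,0,0,0,0]),
  (18147, [2,2,2,2,2,0,0,2,0,0,2,0,2,0,0,0,0,0,0,0,0,0,0,0]),
  (31554, [2,2,2,2,2,0,0,2,0,0,2,0,2,0,0,0,0,0,0,0,0,0,0,0]),
  (18147, [0,2,2,2,2,2,0,0,2,0,0,2,0,2,0,0,0,0,0,0,0,0,0,0]),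
  (18147, [2,2,2,2,2,0,0,2,0,0,2,0,2,0,0,0,0,0,0,0,0,0,0,0]),
  (18147, [0,2,2,2,2,2,0,0,2,0,0,2,0,2,0,0,0,0,0,0,0,0,0,0]),
  (18147, [2,2,2,2,2,0,0,2,0,0,2,0,2,0,0,0,0,0,0,0,0,0,0,0]),
  (18147, [2,2,2,2,2,0,0,2,0,0,2,0,2,0,0,0,0,0,0,0,0,0,0,0]),
  (31554, [2,2,2,2,2,0,0,2,0,0,2,0,2,0,0,0,0,0,0,0,0,0,0,0]),
  (0, [0,0,0,0,0,0,0,0,0,0,0,0,0,0,0,0,0,0,0,0,0,0,0,0]),
  (18147, [2,2,2,2,2,0,0,2,0,0,2,0,2,0,0,0,0,0,0,0,0,0,0,0]),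
  (18147, [0,2,2,2,2,2,0,0,2,0,0,2,0,2,0,0,0,0,0,0,0,0,0,0]),
  (18147, [2,2,2,2,2,0,0,2,0,0,2,0,2,0,0,0,0,0,0,0,0,0,0,0])]

end CfsgLib.MonsterCent.Seven
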