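import Cfsg.Agent.Lib.Leech.Basis

/-!
Data for an involution inverting the element of order seven.
-/

set_option autoImplicit false
set_option maxRecDepth 100000

namespace CfsgLib.MonsterCent.Seven

/-- images of the basis under an involution inverting the permutation -/
def outInvol : List (List ℤ) := [
    [-4,0,0,0,0,0,0,0,0,0,0,0,0,0,0,0,0,0,0,0,0,0,-4,0],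
    [1,1,1,-1,-1,-1,-1,1,-1,-1,-1,-1,-1,-1,1,1,-1,-1,1,-1,-1,-1,-3,-1],
    [2,2,2,0,-2,0,0,0,0,0,0,-2,0,0,0,2,0,-2,0,0,0,-2,0,0],
    [0,0,0,0,0,0,0,0,0,0,0,0,0,4,0,0,0,0,0,0,0,0,4,0],
    [-2,0,0,2,0,0,0,0,0,2,0,0,0,2,0,0,0,2,0,0,2,0,-2,2],
    [2,0,0,0,-2,-2,0,0,-2,0,0,-2,0,0,0,0,0,0,2,0,-2,-2,0,0],
    [-3,-1,-1,1,-1,1,-1,-1,-1,1,1,1,1,1,-1,-1,-1,1,1,-1,1,1,-1,-1],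
    [2,2,2,0,0,0,-2,2,0,0,0,0,0,0,0,0,0,0,0,-2,0,-2,0,-2],
    [1,-1,-1,1,-1,1,1,1,1,1,1,-1,-1,-3,-1,-1,-1,1,-1,1,1,-1,-1,-1],
    [-1,1,-1,-1,-1,1,-1,1,-1,-1,1,-1,1,-1,-1,1,-1,-1,-1,-1,-3,-1,1,-1],
    [1,-1,-1,1,1,1,1,1,-1,-1,1,1,1,-1,1,-1,-1,3,1,-1,-1,1,-1,-1],
    [2,2,0,0,0,0,2,0,2,2,0,-2,0,-2,0,0,2,2,-2,0,0,0,-2,2],
    [1,1,3,1,-1,1,3,-3,1,1,1,-1,1,-5,-1,3,1,1,-3,1,1,-3,-1,1],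
    [-1,-1,-3,-1,-1,-1,1,-3,-1,-1,-1,-3,3,-1,-1,-1,1,-1,1,3,-5,-1,1,-3],
    [1,-3,-5,1,1,-3,-1,-1,-3,1,1,-1,1,1,1,-3,-1,1,3,1,-3,1,-1,-1],
    [0,0,0,0,0,-2,-4,0,0,0,0,2,-4,0,-2,-2,-2,0,-2,0,2,0,-2,0],
    [-2,2,2,-2,-2,-4,0,-4,2,-2,-2,-2,0,0,0,2,2,-2,0,2,2,-2,0,2],
    [2,2,0,2,2,-2,-2,-2,2,2,2,2,0,0,-2,0,2,2,0,-6,0,2,0,0],
    [-2,-2,-6,-2,10,2,2,0,-4,-2,-2,4,0,-6,0,0,2,-2,-2,-2,-2,6,-4,4],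
    [-1,-1,1,-1,1,-1,-1,-3,3,-1,-1,3,1,-1,-3,-1,1,-1,-1,7,1,-5,1,-1],
    [1,1,-3,1,1,-1,-3,3,-5,1,1,-3,-5,1,1,1,-1,1,-1,1,-1,-3,-3,3],
    [1,-3,1,1,-3,1,5,-1,-1,1,1,-1,3,-3,3,-1,-3,1,1,1,1,1,-1,-1],
    [0,0,0,0,-2,2,-2,-4,0,0,0,0,2,4,-8,-2,-2,0,-4,0,4,0,10,2],
    [0,4,0,0,2,2,0,2,0,0,0,-2,0,2,0,4,4,0,0,0,-2,-4,2,2]]

/-- images of the basis under an automorphism carrying the involution to a sign change -/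
def outFrame : List (List ℤ) := [
    [1,-1,-1,-1,-1,1,1,1,1,1,-1,-1,-1,-1,1,1,1,-1,1,-1,-1,3,1,1],
    [-1,-1,-1,-3,-1,-1,1,-1,1,1,-1,-1,1,-1,-1,-1,-1,-1,1,-1,-1,-1,1,1],
    [-3,-1,1,-1,-1,-1,1,-1,1,1,1,-1,1,-1,-1,-1,-1,-1,-1,1,-1,-1,-1,-1],
    [-2,2,0,2,2,0,0,0,0,0,0,2,0,0,0,0,0,0,0,2,2,0,0,-2],
    [1,1,1,1,-1,1,1,-1,-1,1,-1,-1,-1,-1,1,1,1,-1,1,-1,1,3,-1,-1],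
    [0,0,0,0,0,-2,2,0,0,2,0,0,0,-2,-2,-2,-2,0,0,0,0,-2,0,0],
    [2,2,0,0,0,2,0,2,0,0,0,0,-2,0,0,0,0,-2,2,0,0,2,0,0],
    [-2,0,0,-2,0,2,0,-2,0,0,0,0,2,0,-2,-2,-2,0,0,0,0,0,0,0],
    [2,0,2,-2,0,0,0,0,0,0,2,0,0,0,0,0,0,0,-2,-2,0,0,-2,2],
    [-1,-1,-1,-1,-1,1,1,1,1,-1,1,3,-1,-1,-1,-1,-1,-1,-1,1,-1,-1,1,1],
    [3,1,1,-1,-1,1,-1,1,-1,-1,-1,1,1,-1,1,-1,-1,1,1,-1,1,-1,1,1],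
    [1,-3,3,1,-1,-1,1,-3,-1,-1,1,-1,1,-1,1,-1,1,1,-1,-1,-1,1,-1,1],
    [1,-5,3,-1,-3,1,-1,-1,1,1,3,-3,-1,-1,1,-1,1,1,-3,1,-1,-1,-3,-1],
    [2,-2,0,2,2,-2,2,4,2,2,2,2,-2,0,0,-2,-2,0,-2,0,-2,-2,4,0],
    [4,2,0,2,2,-2,2,2,-2,2,-2,2,-2,0,0,0,-4,0,2,-2,0,-2,2,2],
    [0,0,-2,-2,2,2,0,-2,-2,2,0,0,0,2,-2,2,2,-2,2,-2,0,0,-2,2],
    [-3,-3,-1,3,1,-1,1,-1,3,3,1,-5,-1,-1,-1,1,3,-1,-1,1,-1,-1,1,-1],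
    [0,-2,0,2,2,4,0,-2,-4,-4,0,-2,0,0,0,-2,-2,0,4,0,0,0,-2,0],
    [6,-2,-6,0,-4,0,0,0,-2,-6,-4,2,-2,4,6,4,2,6,2,-2,-6,-2,2,2],
    [0,-2,-2,2,2,2,-2,2,0,6,2,-2,0,4,0,0,2,0,-6,0,0,0,0,0],
    [1,1,-1,-3,-1,-1,5,-5,-3,3,-3,3,-1,-3,-1,3,-1,-1,-1,-1,-1,-1,-1,1],
    [3,1,5,-1,-3,-3,-3,3,3,1,1,-1,-1,-1,1,-1,-1,1,1,-1,1,-1,-1,1],
    [-2,4,0,6,2,4,0,0,0,0,8,4,-2,4,-2,0,4,-2,0,4,2,-2,-4,-4],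
    [-3,-1,-1,1,-1,1,3,-3,-1,-1,-1,1,1,-3,1,-1,-1,1,-5,3,-1,1,1,-3]]

/-- the mask of the sign change -/
def outMask : ℕ := 6421680

/-- a second mask -/
def outMaskTwo : ℕ := 10558

/-- an octad vector -/
def outVec : List ℤ := [2,2,2,2,2,0,0,2,0,0,2,0,2,0,0,0,0,0,0,0,0,0,0,0]

end CfsgLib.MonsterCent.Seven
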