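import Cfsg.Agent.Lib.Monster.LocalQuot
import Cfsg.Agent.Lib.Leech.OutOne.Cent

/-!
The classes fixed by a permutation of the coordinates, and bounds for its centraliser in the
automorphism group of the lattice.
-/

set_option autoImplicit false
set_option maxRecDepth 10000

namespace CfsgLib.MonsterCent

open Cfsg CfsgLib.Golay CfsgLib.Leech CfsgLib.Leech.OutOne CfsgLib.Monster
open scoped Pointwise

attribute [local irreducible] dL bL key keyL coord packB linL bits autOK

/-- a permutation as an automorphism -/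
noncomputable def permAut {P : ℕ} (h : inM24 P = true) : ↥Co0 :=
  mono (toPerm_mem_M24 h) empty_mem_CS

theorem rep_permAut {P : ℕ} (h : inM24 P = true) : Rep0 (permAut h) (monoTab P 0) :=
  rep_nil h rfl _

theorem permAut_cross {P : ℕ} (h : inM24 P = true) : permAut h ∈ crossStab := mono_mem_crossStab _ _

theorem fixCls_iff_act (g : ↥Co0) (v : ↥leechLattice) :
    FixCls g v ↔ act g (key (v : GolayPt → ℤ)) = key (v : GolayPt → ℤ) := by
  rw [FixCls, isDbl_sub_iff, act_key]

/-- the checks for the fixed space of a table -/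
def fixOK (tB ker R coef L : List ℕ) : Bool :=
  (ker.all fun k => decide (k < 2 ^ 24) && comb tB k == k) &&
    (coef.all fun c => decide (c < 2 ^ ker.length)) &&
    xorL ((xorL tB pow2L).map (comb R)) (coef.map (comb ker)) == pow2L &&
    ker.map (comb L) == (List.range ker.length).map fun i => 2 ^ i

theorem comb_lt : ∀ (l : List ℕ) (n m : ℕ), (∀ a ∈ l, a < 2 ^ n) → comb l m < 2 ^ n
  | [], n, m, _ => by simp [comb]
  | r :: rs, n, m, h => by
    rw [comb]
    refine Nat.xor_lt_two_pow ?_ (comb_lt rs n _ fun a ha => h a (List.mem_cons_of_mem _ ha))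
    split
    · exact h r List.mem_cons_self
    · exact Nat.two_pow_pos n

theorem comb_range : ∀ (d m : ℕ), m < 2 ^ d → comb ((List.range d).map fun i => 2 ^ i) m = m := by
  intro d m hm
  have h := comb_pow d 0 m
  simp only [Nat.zero_add, pow_zero, one_mul] at h
  rw [h, Nat.mod_eq_of_lt hm]

variable {P : ℕ} (hP : inM24 P = true) {ker R coef L : List ℕ}

include hP in
theorem fix_iff (h : fixOK (monoTab P 0) ker R coef L = true) (v : ↥leechLattice) :
    FixCls (permAut hP) v ↔ ∃ m < 2 ^ ker.length, key (v : GolayPt → ℤ) = comb ker m := by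
  simp only [fixOK, Bool.and_eq_true, List.all_eq_true, decide_eq_true_eq, beq_iff_eq] at h
  obtain ⟨⟨⟨hker, hcoef⟩, hproj⟩, -⟩ := h
  rw [fixCls_iff_act, rep_permAut hP _ (key_lt _)]
  set k := key (v : GolayPt → ℤ)
  constructor
  · intro hk
    refine ⟨comb coef k, comb_lt _ _ _ hcoef, ?_⟩
    have h0 : comb (xorL (monoTab P 0) pow2L) k = 0 := by
      rw [comb_xorL, comb_pow2 (key_lt _), hk, Nat.xor_self]
    have h1 : comb (xorL ((xorL (monoTab P 0) pow2L).map (comb R)) (coef.map (comb ker))) k = k := by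
      rw [hproj, comb_pow2 (key_lt _)]
    rw [comb_xorL, comb_comb, h0, comb_zero_right, Nat.zero_xor, comb_comb] at h1
    exact h1.symm
  · rintro ⟨m, -, e⟩
    rw [e, ← comb_comb, List.map_congr_left (g := id) fun a ha => (hker a ha).2, List.map_id]

include hP in
theorem kap_image_card (h : fixOK (monoTab P 0) ker R coef L = true) :
    (kap '' {v | FixCls (permAut hP) v}).ncard = 2 ^ ker.length := by
  classical
  have hlt : ∀ k ∈ ker, k < 2 ^ 24 := by
    simp only [fixOK, Bool.and_eq_true, List.all_eq_true, decide_eq_true_eq] at h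
    exact fun k hk => (h.1.1.1 k hk).1
  let f : Fin (2 ^ ker.length) → (Fin 24 → ZMod 2) := fun m =>
    kap ⟨vecOf (comb ker m), vecOf_mem _⟩
  have hf : Function.Injective f := by
    intro a b e
    have e1 := (key_eq_iff_kap _ _).2 e
    simp only [key_vecOf (comb_lt _ _ _ hlt)] at e1
    have hL : ker.map (comb L) = (List.range ker.length).map fun i => 2 ^ i := by
      simp only [fixOK, Bool.and_eq_true, beq_iff_eq] at h
      exact h.2
    have key' : ∀ m < 2 ^ ker.length, comb L (comb ker m) = m := fun m hm => by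
      rw [← comb_comb, hL, comb_range _ _ hm]
    exact Fin.ext (by rw [← key' a a.2, ← key' b b.2, e1])
  have hrange : kap '' {v | FixCls (permAut hP) v} = Set.range f := by
    ext x
    constructor
    · rintro ⟨v, hv, rfl⟩
      obtain ⟨m, hm, e⟩ := (fix_iff hP h v).1 hv
      refine ⟨⟨m, hm⟩, ((key_eq_iff_kap _ _).1 ?_).symm⟩
      rw [e]
      exact (key_vecOf (comb_lt _ _ _ hlt)).symm
    · rintro ⟨m, rfl⟩
      exact ⟨_, (fix_iff hP h _).2 ⟨m, m.2, key_vecOf (comb_lt _ _ _ hlt)⟩, rfl⟩
  rw [hrange, ← Set.image_univ, Set.ncard_image_of_injective _ hf, Set.ncard_univ, Nat.card_fin]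

/-! ### The fixed frames -/

/-- the form modulo two of a combination, by its values on a list -/
def qR : List (Bool × List Bool) → ℕ → Bool
  | [], _ => false
  | (q, g) :: rs, m => if m % 2 = 1 then xor q (xor (bR g (m / 2)) (qR rs (m / 2))) else qR rs (m / 2)
where
  /-- the sum of the selected entries -/
  bR : List Bool → ℕ → Bool
    | [], _ => false
    | b :: bs, m => if m % 2 = 1 then xor b (bR bs (m / 2)) else bR bs (m / 2)

/-- the values of the forms on a list of vectors -/
def qData : List (List ℤ) → List (Bool × List Bool)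
  | [] => []
  | v :: vs => (decide (dotL v v / 16 % 2 = 1), vs.map fun w => decide (dotL v w / 8 % 2 = 1)) :: qData vs

theorem cast_two (a : ℤ) : ((a : ℤ) : ZMod 2) = if a % 2 = 1 then 1 else 0 := by
  rw [← ZMod.intCast_mod a 2]
  rcases Int.emod_two_eq_zero_or_one a with h | h <;> simp [h]

/-- a list as a lattice vector -/
noncomputable def latV (l : List ℤ) : ↥leechLattice :=
  if h : inL l = true then ⟨vec l, vec_mem h⟩ else 0

theorem qf_latV {v : List ℤ} (hv : inL v = true) :
    qf (latV v) = if decide (dotL v v / 16 % 2 = 1) = true then 1 else 0 := by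
  rw [latV, dif_pos hv, qf]
  show (((sqNorm (vec v) / 16 : ℤ)) : ZMod 2) = _
  rw [sqNorm_vec (inL_length hv), cast_two]
  simp

theorem bil_latV {v w : List ℤ} (hv : inL v = true) (hw : inL w = true) :
    bil (latV v) (latV w) = if decide (dotL v w / 8 % 2 = 1) = true then 1 else 0 := by
  rw [latV, dif_pos hv, latV, dif_pos hw, bil]
  show (((dotInt (vec v) (vec w) / 8 : ℤ)) : ZMod 2) = _
  rw [dotInt_vec (inL_length hv) (inL_length hw), cast_two]
  simp

/-- the lattice vector of a combination -/
noncomputable def repV : List (List ℤ) → ℕ → ↥leechLattice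
  | [], _ => 0
  | v :: vs, m => if m % 2 = 1 then latV v + repV vs (m / 2) else repV vs (m / 2)

theorem repV_spec : ∀ (vs : List (List ℤ)) (m : ℕ), (∀ v ∈ vs, inL v = true) →
    key ((repV vs m : ↥leechLattice) : GolayPt → ℤ) = comb (vs.map keyL) m ∧
    qf (repV vs m) = (if qR (qData vs) m = true then 1 else 0) ∧
    ∀ v, inL v = true → bil (latV v) (repV vs m) =
      if qR.bR (vs.map fun w => decide (dotL v w / 8 % 2 = 1)) m = true then 1 else 0
  | [], m, _ => by
    refine ⟨by rw [repV, AddSubgroup.coe_zero, key_zero]; rfl, ?_, fun v _ => ?_⟩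
    · rw [repV, qf_of_isDbl isDbl_zero]; rfl
    · rw [repV, bil_comm, bil_zero_left]; rfl
  | w :: vs, m, h => by
    obtain ⟨hk, hq, hb⟩ := repV_spec vs (m / 2) fun u hu => h u (List.mem_cons_of_mem _ hu)
    have hw := h w List.mem_cons_self
    by_cases hm : m % 2 = 1
    · rw [repV, if_pos hm]
      refine ⟨?_, ?_, fun v hv => ?_⟩
      · rw [AddSubgroup.coe_add, key_add (Subtype.prop _) (Subtype.prop _), hk, List.map_cons, comb, if_pos hm]
        rw [latV, dif_pos hw]
        exact congrArg (· ^^^ _) (keyL_eq (inL_length hw))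
      · rw [qf_add, qf_latV hw, hq, hb w hw, qData, qR, if_pos hm]
        generalize decide (dotL w w / 16 % 2 = 1) = a
        generalize qR.bR (List.map _ vs) (m / 2) = b
        generalize qR (qData vs) (m / 2) = c
        cases a <;> cases b <;> cases c <;> decide
      · rw [bil_add_right, bil_latV hv hw, hb v hv, List.map_cons, qR.bR, if_pos hm]
        generalize decide (dotL v w / 8 % 2 = 1) = a
        generalize qR.bR (List.map _ vs) (m / 2) = b
        cases a <;> cases b <;> decide
    · rw [repV, if_neg hm]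
      refine ⟨?_, ?_, fun v hv => ?_⟩
      · rw [hk, List.map_cons, comb, if_neg hm, Nat.zero_xor]
      · rw [hq, qData, qR, if_neg hm]
      · rw [hb v hv, List.map_cons, qR.bR, if_neg hm]

/-- a fixed class that cannot be a frame: zero, short, or of odd norm -/
noncomputable def notFrame (form : List (Bool × List Bool)) (m k : ℕ) (w : List ℤ) : Bool :=
  Nat.beq k 0 || qR form m || (inL w && dotL w w == 32 && keyL w == k)

/-- the fixed classes that are neither zero, short, nor of odd norm are the listed frames -/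
noncomputable def clsOK (vs : List (List ℤ)) (form : List (Bool × List Bool)) (ker frames : List ℕ)
    (wit : List (List ℤ)) : Bool :=
  vs.all inL && vs.map keyL == ker && qData vs == form && wit.length == 2 ^ ker.length &&
    ((((List.range (2 ^ ker.length)).zip wit).filter fun e => !notFrame form e.1 (comb ker e.1) e.2).map
      fun e => comb ker e.1) == frames

include hP in
theorem frame_mem {vs : List (List ℤ)} {form : List (Bool × List Bool)} {frames : List ℕ}
    {wit : List (List ℤ)}
    (h : fixOK (monoTab P 0) ker R coef L = true) (hc : clsOK vs form ker frames wit = true) {g : ↥Co0}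
    (hg : FixCls (permAut hP) (g • v8)) : act g (mainK 3) ∈ frames := by
  obtain ⟨m, hm, e⟩ := (fix_iff hP h _).1 hg
  simp only [clsOK, Bool.and_eq_true, beq_iff_eq] at hc
  obtain ⟨⟨⟨⟨hvs, hkeys⟩, hform⟩, hlen⟩, hframes⟩ := hc
  rw [List.all_eq_true] at hvs
  have hmz : (m, wit[m]'(hlen ▸ hm)) ∈ (List.range (2 ^ ker.length)).zip wit := by
    rw [List.mem_iff_getElem]
    exact ⟨m, by rw [List.length_zip, List.length_range]; omega, by simp [List.getElem_zip]⟩
  rw [mainK_three none, show eight none = ((v8 : ↥leechLattice) : GolayPt → ℤ) from rfl, act_key, e]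
  have hn : sqNorm ((g • v8 : ↥leechLattice) : GolayPt → ℤ) = 64 :=
    (sqNorm_smul g _).trans (sqNorm_eight none)
  have hnot : notFrame form m (comb ker m) (wit[m]'(hlen ▸ hm)) = false := by
    rw [Bool.eq_false_iff]
    intro ht
    simp only [notFrame, Bool.or_eq_true, Bool.and_eq_true, Nat.beq_eq, beq_iff_eq] at ht
    rcases ht with (h0 | hodd) | ⟨⟨hw, hw32⟩, hwk⟩
    · have hd : IsDbl (g • v8) := (isDbl_iff_key _).2 (e.trans h0)
      refine not_isDbl_of_norm (w := v8) (sqNorm_eight none) (by norm_num) le_rfl ?_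
      simpa using hd.smul g⁻¹
    · obtain ⟨hk, hq, -⟩ := repV_spec vs m hvs
      rw [hkeys, ← e] at hk
      rw [hform, hodd, if_pos rfl, qf_congr ((isDbl_sub_iff _ (g • v8)).2 hk), qf, hn] at hq
      exact absurd hq (by decide)
    · have h1 := sqNorm_eq_of_key (vec_mem hw) (g • v8 : ↥leechLattice).2
        (by rw [sqNorm_vec (inL_length hw), hw32]; norm_num) hn.le
        (by rw [keyL_eq (inL_length hw), hwk, e])
      rw [sqNorm_vec (inL_length hw), hw32, hn] at h1
      norm_num at h1
  rw [← hframes]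
  exact List.mem_map.2 ⟨_, List.mem_filter.2 ⟨hmz, by rw [hnot]; rfl⟩, rfl⟩

/-- A subgroup moving the standard frame only into the list is bounded by the list and its part
stabilising that frame. -/
theorem card_le_frames (H : Subgroup ↥Co0) (frames : List ℕ)
    (hH : ∀ g ∈ H, act g (mainK 3) ∈ frames) :
    Nat.card H ≤ frames.length * Nat.card ↥(H ⊓ crossStab) := by
  classical
  haveI := finite_Co0
  let f : ↥H → ↥frames.toFinset := fun g => ⟨act g (mainK 3), List.mem_toFinset.2 (hH g g.2)⟩
  have hsec : ∀ x : ↥frames.toFinset, ∃ r : ↥Co0, (∃ g : ↥H, f g = x) → r ∈ H ∧ act r (mainK 3) = x := by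
    intro x
    by_cases h : ∃ g : ↥H, f g = x
    · obtain ⟨g, hg⟩ := h
      exact ⟨g, fun _ => ⟨g.2, congrArg Subtype.val hg⟩⟩
    · exact ⟨1, fun h' => absurd h' h⟩
  choose r hr using hsec
  have hmem : ∀ g : ↥H, (r (f g))⁻¹ * (g : ↥Co0) ∈ H ⊓ crossStab := by
    intro g
    obtain ⟨h1, h2⟩ := hr (f g) ⟨g, rfl⟩
    refine Subgroup.mem_inf.2 ⟨mul_mem (inv_mem h1) g.2, mem_crossStab.2 ?_⟩
    rw [act_mul, show act (g : ↥Co0) (mainK 3) = act (r (f g)) (mainK 3) from h2.symm,
      act_inv_act _ (mainK_lt 3)]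
  refine le_trans (Nat.card_le_card_of_injective (fun g => ((f g, ⟨_, hmem g⟩) :
    ↥frames.toFinset × ↥(H ⊓ crossStab))) fun a b e => ?_) ?_
  · simp only [Prod.mk.injEq, Subtype.mk.injEq] at e
    rw [e.1] at e
    exact Subtype.ext (mul_left_cancel e.2)
  · rw [Nat.card_prod, Nat.card_eq_finsetCard]
    exact Nat.mul_le_mul_right _ (List.toFinset_card_le _)

/-! ### The monomial part -/

theorem valid_of_inM24 {P : ℕ} (h : inM24 P = true) : validP P = true := by
  simp only [inM24, Bool.and_eq_true] at h; exact h.1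

/-- the code words fixed by a permutation -/
def fixWords (P : ℕ) : List ℕ :=
  codeList.filter fun m => (List.range 24).all fun i => m.testBit i == m.testBit (ap P i)

include hP in
theorem card_cross_le {N : ℕ}
    (hN : {g : Equiv.Perm GolayPt | g ∈ M24 ∧ g * toPerm P = toPerm P * g}.ncard ≤ N) :
    Nat.card ↥(Subgroup.centralizer ({permAut hP} : Set ↥Co0) ⊓ crossStab) ≤
      N * (fixWords P).length := by
  classical
  haveI := finite_Co0
  set H := Subgroup.centralizer ({permAut hP} : Set ↥Co0) ⊓ crossStab with hH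
  set σ := toPerm P
  have hσ : σ ∈ M24 := toPerm_mem_M24 hP
  have hdec : ∀ g : ↥H, ∃ (τ : Equiv.Perm GolayPt) (d : Finset GolayPt) (hτ : τ ∈ M24) (hd : d ∈ CS),
      (g : ↥Co0) = mono hτ hd ∧ τ * σ = σ * τ := by
    intro g
    obtain ⟨hg1, hg2⟩ := Subgroup.mem_inf.1 g.2
    obtain ⟨τ, d, hτ, hd, he⟩ := crossStab_eq_mono hg2
    refine ⟨τ, d, hτ, hd, he, ?_⟩
    have hc := Subgroup.mem_centralizer_singleton_iff.1 hg1
    obtain ⟨e1, he1, h1⟩ := mono_mul_perm hτ hd hσ empty_mem_CS
    obtain ⟨e2, he2, h2⟩ := mono_mul_perm hσ empty_mem_CS hτ hd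
    rw [he, permAut, h1, h2] at hc
    exact (perm_unique hc).symm
  choose τ d hτ hd hg hcomm using hdec
  let S : Set (Equiv.Perm GolayPt) := {g | g ∈ M24 ∧ g * σ = σ * g}
  let f : ↥H → ↥S := fun g => ⟨τ g, hτ g, hcomm g⟩
  have hsec : ∀ x : ↥S, ∃ r : ↥H, (∃ g : ↥H, f g = x) → f r = x := by
    intro x
    by_cases h : ∃ g : ↥H, f g = x
    · obtain ⟨g, hg⟩ := h
      exact ⟨g, fun _ => hg⟩
    · exact ⟨1, fun h' => absurd h' h⟩
  choose r hr using hsec
  have hker : ∀ g : ↥H, ∃ (e : Finset GolayPt) (he : e ∈ CS), e ∈ (fixWords P).toFinset.image dec ∧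
      (r (f g) : ↥Co0)⁻¹ * (g : ↥Co0) = mono (one_mem M24) he := by
    intro g
    have hrt : τ (r (f g)) = τ g := congrArg Subtype.val (hr (f g) ⟨g, rfl⟩)
    set u := (r (f g) : ↥Co0)⁻¹ * (g : ↥Co0) with hu
    have huH : u ∈ H := mul_mem (inv_mem (r (f g)).2) g.2
    obtain ⟨hu1, hu2⟩ := Subgroup.mem_inf.1 huH
    obtain ⟨τ', e, hτ', he, hue⟩ := crossStab_eq_mono hu2
    have hτ1 : τ' = 1 := by
      have h := mul_inv_cancel_left (r (f g) : ↥Co0) (g : ↥Co0)
      rw [← hu, hue, hg (r (f g))] at h
      obtain ⟨e3, he3, h3⟩ := mono_mul_perm (hτ (r (f g))) (hd (r (f g))) hτ' he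
      rw [h3, hg g] at h
      have h4 := perm_unique h
      rw [hrt] at h4
      exact mul_eq_right.1 h4
    subst hτ1
    refine ⟨e, he, ?_, hue⟩
    have he' : σ⁻¹ • e ∈ CS := smul_mem_supports (inv_mem hσ) he
    have hc := Subgroup.mem_centralizer_singleton_iff.1 hu1
    rw [hue, permAut, mono_mul_sign hσ empty_mem_CS he he'] at hc
    have hfix : σ⁻¹ • e = e := ((mono_inj (mul_right_cancel hc)).2).symm
    obtain ⟨m, hm, rfl⟩ := mem_supports_codeList.1 he
    refine Finset.mem_image.2 ⟨m, List.mem_toFinset.2 (List.mem_filter.2 ⟨hm, ?_⟩), rfl⟩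
    rw [List.all_eq_true]
    intro i hi
    rw [beq_iff_eq]
    exact inv_bits (valid_of_inM24 hP) hfix i (List.mem_range.1 hi)
  choose e he hein heq using hker
  refine le_trans (Nat.card_le_card_of_injective (fun g => ((f g, ⟨e g, hein g⟩) :
    ↥S × ↥((fixWords P).toFinset.image dec))) fun a b h => ?_) ?_
  · simp only [Prod.mk.injEq, Subtype.mk.injEq] at h
    have h1 := heq a
    have h2 := heq b
    rw [h.1] at h1
    have : mono (one_mem M24) (he a) = mono (one_mem M24) (he b) := by
      have := h.2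
      congr 1
    exact Subtype.ext (mul_left_cancel (h1.trans (this.trans h2.symm)))
  · rw [Nat.card_prod, Nat.card_eq_finsetCard, Nat.card_coe_set_eq]
    exact Nat.mul_le_mul hN (le_trans Finset.card_image_le (List.toFinset_card_le _))

end CfsgLib.MonsterCent
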