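import Cfsg.Prelude.Def_MonsterType
import Cfsg.Agent.Lib.Extraspecial.Setting
import Cfsg.Agent.Lib.Layer.CommutatorSplit
import Cfsg.Agent.Lib.Layer.FStar

/-!
A group of large Fischer type inside a group in which it has index two.
-/

set_option autoImplicit false
set_option linter.style.haveILetI false
set_option linter.unusedSectionVars false

namespace CfsgLib.MonsterCent.LargeExt

open Cfsg

theorem gfs_map_le {A B : Type*} [Group A] [Finite A] [Group B] [Finite B] (e : A ≃* B) :
    (generalizedFittingSubgroup A).map e.toMonoidHom ≤ generalizedFittingSubgroup B := by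
  rw [generalizedFittingSubgroup, Subgroup.map_sup, generalizedFittingSubgroup]
  refine sup_le_sup ?_ (Layer.CommutatorSplit.fitting_map_le e)
  rw [Subgroup.map_le_iff_le_comap]
  exact sSup_le fun K hK => Subgroup.map_le_iff_le_comap.mp
    (Layer.isComponent_le_layer (Layer.isComponent_map_equiv e hK))

theorem gfs_map {A B : Type*} [Group A] [Finite A] [Group B] [Finite B] (e : A ≃* B) :
    (generalizedFittingSubgroup A).map e.toMonoidHom = generalizedFittingSubgroup B :=
  le_antisymm (gfs_map_le e) fun x hx =>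
    ⟨e.symm x, gfs_map_le e.symm ⟨x, hx, rfl⟩, e.apply_symm_apply x⟩

/-- the isomorphism of centralisers -/
def centIso {A B : Type*} [Group A] [Group B] (e : A ≃* B) (a : A) :
    ↥(Subgroup.centralizer ({a} : Set A)) ≃* ↥(Subgroup.centralizer ({e a} : Set B)) where
  toFun x := ⟨e x, Subgroup.mem_centralizer_singleton_iff.2 (by
    rw [← map_mul, ← map_mul, Subgroup.mem_centralizer_singleton_iff.1 x.2])⟩
  invFun y := ⟨e.symm y, Subgroup.mem_centralizer_singleton_iff.2 (e.injective (by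
    rw [map_mul, map_mul, e.apply_symm_apply, Subgroup.mem_centralizer_singleton_iff.1 y.2]))⟩
  left_inv x := Subtype.ext (e.symm_apply_apply _)
  right_inv y := Subtype.ext (e.apply_symm_apply _)
  map_mul' x y := Subtype.ext (map_mul e _ _)

/-- large Fischer type under an isomorphism -/
theorem largeFischerTypeAt_map {A B : Type*} [Group A] [Finite A] [Group B] [Finite B] (e : A ≃* B)
    {a : A} {R : Subgroup (Subgroup.centralizer ({a} : Set A))} [R.Normal]
    (h : IsOfLargeFischerTypeAt a R) :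
    ∃ (R' : Subgroup (Subgroup.centralizer ({e a} : Set B))) (_ : R'.Normal),
      IsOfLargeFischerTypeAt (e a) R' ∧
      R'.map (Subgroup.subtype _) = (R.map (Subgroup.subtype _)).map e.toMonoidHom := by
  obtain ⟨⟨ha, hF, hR, hcard, g, ⟨hq, hgR⟩, hne⟩, N, M, hN, hM, hRN, hNM, hNc, ⟨K, iF, iK, hK, ⟨eq⟩⟩, hMi⟩ := h
  haveI : Fact (Nat.Prime 2) := ⟨Nat.prime_two⟩
  set E := centIso e a
  have hsurj : Function.Surjective E.toMonoidHom := E.surjective
  haveI hR' : (R.map E.toMonoidHom).Normal := Subgroup.Normal.map inferInstance _ hsurj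
  have hcard' : ∀ H : Subgroup (Subgroup.centralizer ({a} : Set A)),
      Nat.card ↥(H.map E.toMonoidHom) = Nat.card H := fun H =>
    Subgroup.card_map_of_injective (f := E.toMonoidHom) E.injective
  refine ⟨R.map E.toMonoidHom, hR', ⟨⟨?_, ?_, ?_, ?_, e g, ⟨?_, ?_⟩, ?_⟩, N.map E.toMonoidHom,
    M.map E.toMonoidHom, hN.map _ hsurj, hM.map _ hsurj, Subgroup.map_mono hRN, Subgroup.map_mono hNM,
    ?_, ⟨K, iF, iK, hK, ?_⟩, ?_⟩, ?_⟩
  · rw [← ha]; exact orderOf_injective e.toMonoidHom e.injective a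
  · rw [← gfs_map E, hF]
  · exact Extraspecial.isExtraspecial_congr (R.equivMapOfInjective E.toMonoidHom E.injective) hR
  · rw [hcard', hcard]
  · rw [Subgroup.mem_centralizer_singleton_iff]
    simp only [← map_mul, ← map_inv]
    rw [Subgroup.mem_centralizer_singleton_iff.1 hq]
  · exact ⟨_, hgR, Subtype.ext (by simp [E, centIso])⟩
  · intro h
    refine hne (e.injective ?_)
    simpa using h
  · rw [hcard', hcard', hNc]
  · haveI := hN
    haveI := hN.map E.toMonoidHom hsurj
    haveI : ((N.map E.toMonoidHom).subgroupOf (M.map E.toMonoidHom)).Normal :=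
      Subgroup.Normal.subgroupOf inferInstance _
    exact ⟨(QuotientGroup.congr (N.subgroupOf M) ((N.map E.toMonoidHom).subgroupOf (M.map E.toMonoidHom))
      (E.subgroupMap M) (by
        ext y
        constructor
        · rintro ⟨x, hx, rfl⟩
          exact ⟨_, hx, rfl⟩
        · rintro ⟨x, hx, hxy⟩
          refine ⟨⟨x, hNM hx⟩, hx, Subtype.ext ?_⟩
          exact hxy)).symm.trans eq⟩
  · exact (Subgroup.index_map_equiv M E).trans hMi
  · rw [Subgroup.map_map, Subgroup.map_map]
    rfl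

/-- an involution with a large self-centralising normal subgroup is central in a Sylow two-subgroup -/
theorem central_of_setting {G : Type*} [Group G] [Finite G] {z : G}
    {Q : Subgroup (Subgroup.centralizer ({z} : Set G))} [Q.Normal] {w : ℕ}
    (h : IsExtraspecialCentralizerSetting z Q w) :
    ∃ P : Sylow 2 G, z ∈ (P : Subgroup G) ∧ ∀ x ∈ (P : Subgroup G), Commute x z := by
  obtain ⟨hz, hF, hQ, hcard, -⟩ := h
  haveI : Fact (Nat.Prime 2) := ⟨Nat.prime_two⟩
  let C := Subgroup.centralizer ({z} : Set G)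
  have h2c : Subgroup.centralizer (Q : Set C) ≤ Q := by
    have h := CfsgLib.Layer.centralizer_generalizedFitting_le (G := ↥C)
    rwa [hF] at h
  let zC : C := ⟨z, Subgroup.mem_centralizer_singleton_iff.2 rfl⟩
  have hzQ : zC ∈ Q := h2c (Subgroup.mem_centralizer_iff.2 fun q _ =>
    Subtype.ext (Subgroup.mem_centralizer_singleton_iff.1 q.2))
  have hcent : ∀ n : C, n ∈ Q → (∀ q ∈ Q, q * n = n * q) → n = 1 ∨ n = zC := by
    intro n hn hc
    obtain ⟨w', -, huniq⟩ := (Nat.card_eq_two_iff' (1 : Subgroup.center ↥Q)).1 hQ.2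
    have mk : ∀ m : C, ∀ hm : m ∈ Q, (∀ q ∈ Q, q * m = m * q) → (⟨m, hm⟩ : ↥Q) ∈ Subgroup.center ↥Q :=
      fun m hm hc => Subgroup.mem_center_iff.2 fun q => Subtype.ext (hc q q.2)
    by_cases h1 : n = 1
    · exact Or.inl h1
    refine Or.inr ?_
    have hzc : ∀ q ∈ Q, q * zC = zC * q := fun q _ =>
      Subtype.ext (Subgroup.mem_centralizer_singleton_iff.1 q.2)
    have ha := huniq ⟨_, mk n hn hc⟩ fun h => h1 (congrArg (fun x : Subgroup.center ↥Q => ((x : ↥Q) : C)) h)
    have hb := huniq ⟨_, mk zC hzQ hzc⟩ fun h => by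
      have := congrArg (fun x : Subgroup.center ↥Q => (((x : ↥Q) : C) : G)) h
      rw [show z = 1 from this, orderOf_one] at hz
      omega
    exact congrArg (fun x : Subgroup.center ↥Q => ((x : ↥Q) : C)) (ha.trans hb.symm)
  obtain ⟨P0, hQP⟩ := (IsPGroup.of_card hcard).exists_le_sylow
  set P1 := (P0 : Subgroup C).map C.subtype
  obtain ⟨T, hT⟩ := (P0.2.map C.subtype).exists_le_sylow
  refine ⟨T, hT ⟨zC, hQP hzQ, rfl⟩, ?_⟩
  suffices hTC : (T : Subgroup G) ≤ C from fun x hx => Subgroup.mem_centralizer_singleton_iff.1 (hTC hx)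
  have hmax : ∀ x ∈ (T : Subgroup G), x ∈ C → x ∈ P1 := by
    intro x hx hxC
    have h := P0.3 (T.2.comap_of_injective C.subtype C.subtype_injective) (fun y hy => hT ⟨y, hy, rfl⟩)
    exact ⟨⟨x, hxC⟩, h ▸ hx, rfl⟩
  by_contra hne
  have hlt : P1.subgroupOf (T : Subgroup G) < ⊤ := by
    refine lt_top_iff_ne_top.2 fun h => hne fun x hx => ?_
    obtain ⟨y, -, rfl⟩ := Subgroup.subgroupOf_eq_top.1 h hx
    exact y.2
  haveI := T.2.isNilpotent
  have hN := Group.normalizerCondition_of_isNilpotent (G := ↥(T : Subgroup G)) _ hlt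
  obtain ⟨n, hn, hnP⟩ := SetLike.exists_of_lt hN
  refine hnP (hmax n n.2 ?_)
  have hzP : (⟨z, hT ⟨zC, hQP hzQ, rfl⟩⟩ : ↥(T : Subgroup G)) ∈ P1.subgroupOf (T : Subgroup G) :=
    ⟨zC, hQP hzQ, rfl⟩
  have h1 := (Subgroup.mem_normalizer_iff.1 hn _).1 hzP
  obtain ⟨w', hw', hwe⟩ := h1
  have hwe' : (w' : G) = (n : G) * z * (n : G)⁻¹ := hwe
  have hwq : ∀ q ∈ Q, q * w' = w' * q := by
    intro q hq
    refine Subtype.ext ?_
    show (q : G) * w' = w' * q
    have hq' : (⟨q, hT ⟨q, hQP hq, rfl⟩⟩ : ↥(T : Subgroup G)) ∈ P1.subgroupOf (T : Subgroup G) :=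
      ⟨q, hQP hq, rfl⟩
    obtain ⟨y, -, hye⟩ := (Subgroup.mem_normalizer_iff''.1 hn _).1 hq'
    have hye' : (y : G) = (n : G)⁻¹ * q * (n : G) := hye
    have hcy : (y : G) * z = z * y := Subgroup.mem_centralizer_singleton_iff.1 y.2
    rw [show (q : G) = (n : G) * y * (n : G)⁻¹ by rw [hye']; group, hwe',
      show (n : G) * y * (n : G)⁻¹ * ((n : G) * z * (n : G)⁻¹) = n * (y * z) * (n : G)⁻¹ by group, hcy]
    group
  have hwQ : w' ∈ Q := h2c (Subgroup.mem_centralizer_iff.2 hwq)
  rcases hcent w' hwQ hwq with h | h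
  · rw [h] at hwe'
    have : z = 1 := conj_eq_one_iff.1 hwe'.symm
    rw [this, orderOf_one] at hz
    omega
  · rw [h] at hwe'
    exact Subgroup.mem_centralizer_singleton_iff.2 (mul_inv_eq_iff_eq_mul.1 hwe'.symm)

/-- The hypotheses on an overgroup of index two. -/
theorem exists_ext {C X : Type*} [Group C] [Finite C] [Group X] [Finite X] (f : C →* X)
    (hf : Function.Injective f) (hidx : f.range.index = 2) {a : C}
    {R : Subgroup (Subgroup.centralizer ({a} : Set C))} [R.Normal] (h : IsOfLargeFischerTypeAt a R)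
    (hx : ∀ x : X, x ∉ f.range → x * f a = f a * x → ∃ c : C, c * a = a * c ∧
      ∀ r ∈ R, x * f c * x⁻¹ * (f c)⁻¹ ≠ f (r : C)) :
    ∃ (z : ↥f.range) (Q : Subgroup (Subgroup.centralizer ({z} : Set ↥f.range))) (_ : Q.Normal),
      IsOfLargeFischerTypeAt z Q ∧
      (∃ P : Sylow 2 ↥f.range, z ∈ (P : Subgroup ↥f.range) ∧ ∀ x ∈ (P : Subgroup ↥f.range), Commute x z) ∧
      (generalizedFittingSubgroup ↥(Subgroup.centralizer ({(z : X)} : Set X))).map (Subgroup.subtype _) =
        (Q.map (Subgroup.subtype _)).map f.range.subtype := by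
  set e := MonoidHom.ofInjective hf
  obtain ⟨Q, hQn, hQ, hQR⟩ := largeFischerTypeAt_map e h
  refine ⟨e a, Q, hQn, hQ, central_of_setting hQ.1, ?_⟩
  haveI : f.range.Normal := Subgroup.normal_of_index_eq_two hidx
  rw [hQR, Subgroup.map_map, show f.range.subtype.comp e.toMonoidHom = f from MonoidHom.ext fun _ => rfl]
  show (generalizedFittingSubgroup ↥(Subgroup.centralizer ({f a} : Set X))).map _ = _
  set H := Subgroup.centralizer ({f a} : Set X)
  set H0 := f.range.subgroupOf H
  haveI hH0n : H0.Normal := Subgroup.Normal.subgroupOf inferInstance H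
  let g : ↥(Subgroup.centralizer ({a} : Set C)) →* ↥H := MonoidHom.codRestrict
    (f.comp (Subgroup.subtype _)) H fun c => Subgroup.mem_centralizer_singleton_iff.2 (by
      show f c * f a = f a * f c
      rw [← map_mul, ← map_mul, Subgroup.mem_centralizer_singleton_iff.1 c.2])
  have hg : Function.Injective g := fun c d hcd => Subtype.ext (hf (congrArg Subtype.val hcd))
  have hrange : g.range = H0 := by
    ext y
    constructor
    · rintro ⟨c, rfl⟩
      exact ⟨(c : C), rfl⟩
    · rintro ⟨c, hc⟩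
      have hc' : f c = (y : X) := hc
      refine ⟨⟨c, Subgroup.mem_centralizer_singleton_iff.2 (hf ?_)⟩, Subtype.ext hc'⟩
      rw [map_mul, map_mul, hc', Subgroup.mem_centralizer_singleton_iff.1 y.2]
  have hin : generalizedFittingSubgroup ↥H ⊓ H0 = R.map g := by
    rw [← Layer.map_generalizedFittingSubgroup hH0n.isSubnormal,
      ← gfs_map ((MonoidHom.ofInjective hg).trans (MulEquiv.subgroupCongr hrange)), h.1.2.1,
      Subgroup.map_map]
    congr 1
  have hle : generalizedFittingSubgroup ↥H ≤ H0 := by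
    intro x hxF
    by_contra hx0
    obtain ⟨c, hca, hcR⟩ := hx x hx0 (Subgroup.mem_centralizer_singleton_iff.1 x.2)
    set c' := g ⟨c, Subgroup.mem_centralizer_singleton_iff.2 hca⟩
    have hc0 : c' ∈ H0 := hrange ▸ ⟨_, rfl⟩
    have hm : x * c' * x⁻¹ * c'⁻¹ ∈ generalizedFittingSubgroup ↥H ⊓ H0 := by
      refine Subgroup.mem_inf.2 ⟨?_, mul_mem (hH0n.conj_mem _ hc0 x) (inv_mem hc0)⟩
      rw [show x * c' * x⁻¹ * c'⁻¹ = x * (c' * x⁻¹ * c'⁻¹) by group]
      exact mul_mem hxF (Layer.generalizedFitting_normal.conj_mem _ (inv_mem hxF) _)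
    rw [hin] at hm
    obtain ⟨r, hr, hre⟩ := hm
    exact hcR r hr (congrArg Subtype.val hre).symm
  rw [← inf_eq_left.2 hle, hin]
  rw [Subgroup.map_map (g := f) (f := Subgroup.subtype _)]
  exact (Subgroup.map_map _ _ _).trans rfl

end CfsgLib.MonsterCent.LargeExt
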