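import Cfsg.Agent.Lib.MonsterCent.PkgSeven
import Cfsg.Agent.Lib.MonsterCent.Classes

/-!
The conjugates of the central involution in the fixed part of an element of order seven.
-/

set_option autoImplicit false
set_option maxRecDepth 100000
set_option linter.style.haveILetI false

namespace CfsgLib.MonsterCent.Seven

open Cfsg CfsgLib.Golay CfsgLib.Golay.SylowTwo CfsgLib.Leech CfsgLib.Leech.OutOne CfsgLib.Monster
  CfsgLib.MonsterCent

attribute [local irreducible] dL bL key keyL coord packB linL bits autOK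

/-- a permutation conjugating to the square -/
def squarer : ℕ := 776955782742406190616652240959226176

theorem squarer_ok : inM24 squarer = true ∧
    eqP (mulP squarer perm) (mulP (powP perm 2) squarer) = true := by decide +kernel

theorem exists_squarer : ∃ n ∈ crossStab, n * b * n⁻¹ = b ^ 2 := by
  obtain ⟨h1, h2⟩ := squarer_ok
  have hv := valid_of_inM24 h1
  have hvp := valid_of_inM24 perm_ok
  have he := toPerm_eq_of_eqP (validP_mulP hv hvp) (validP_mulP (toPerm_powP hvp 2).1 hv) h2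
  rw [toPerm_mulP hv hvp, toPerm_mulP (toPerm_powP hvp 2).1 hv, (toPerm_powP hvp 2).2] at he
  let x : ↥M24 := ⟨toPerm squarer, toPerm_mem_M24 h1⟩
  let y : ↥M24 := ⟨toPerm perm, toPerm_mem_M24 perm_ok⟩
  have hxy : x * y * x⁻¹ = y ^ 2 := Subtype.ext (mul_inv_eq_iff_eq_mul.2 he)
  have hb : b = permHom y⁻¹ := by
    simp only [b, permAut, permHom, MonoidHom.mk'_apply, InvMemClass.coe_inv, inv_inv, y]
  refine ⟨permHom x, mono_mem_crossStab _ _, ?_⟩
  rw [hb, ← map_inv permHom x, ← map_mul, ← map_mul, ← map_pow]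
  congr 1
  rw [inv_pow, ← hxy]
  group

theorem frame_vec_checks : frames.length = 14 ∧ frames.Nodup ∧ frameVecs.length = 14 ∧
    ((frames.zip frameVecs).all fun e => inL e.2 && dotL e.2 e.2 == 64 && keyL e.2 == e.1 &&
      comb (monoTab perm 0) e.1 == e.1) = true := by decide +kernel

variable {G : Type*} [Group G] [Finite G]
variable {z : G} {Q : Subgroup (CZ z)} [Q.Normal] {e : (CZ z) ⧸ Q ≃* Spor.Co1}
  {ψ : ↥leechLattice → Q ⧸ Subgroup.center Q}

theorem seven_arith (a : ℕ) (ha : a < 7) (h0 : 0 < a) :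
    ∃ i j : ℕ, i < 7 ∧ j < 7 ∧ a ^ (1 + 3 * i) * 2 ^ j % 7 = 1 % 7 := by
  interval_cases a
  · exact ⟨0, 0, by norm_num⟩
  · exact ⟨0, 2, by norm_num⟩
  · exact ⟨1, 1, by norm_num⟩
  · exact ⟨0, 1, by norm_num⟩
  · exact ⟨1, 2, by norm_num⟩
  · exact ⟨1, 0, by norm_num⟩

/-- Two commuting conjugates in `Q` of the central involution are fused in the centraliser of an
element of order seven centralising both. -/
theorem fuse_seven (S : Setup z Q e ψ) {x β : G} (hx : x ∈ QG Q) (hc : IsConj z x) (hne : x ≠ z)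
    (hβ : orderOf β = 7) (hβz : β * z = z * β) (hβx : β * x = x * β) :
    ∃ g : G, g * β = β * g ∧ g * z * g⁻¹ = x := by
  have hzz : z * z = 1 := S.z_mul_z
  have hx2 := (S.conj_sq hc).1
  set y := z * x with hy
  have hyQ : y ∈ QG Q := mul_mem S.z_mem hx
  have hxz : x * z = z * x := mem_CZ.1 (QG_le hx)
  have hyne : y ≠ z := fun h => (S.conj_sq hc).2 (mul_eq_left.1 h)
  obtain ⟨w, hw, hn⟩ := S.conj_type hx hc hne
  have hyc : IsConj z y := (S.conj_of_64 hn (by simpa using S.rep_mul S.rep_z hw)).1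
  obtain ⟨k, hk⟩ := isConj_iff.1 hyc
  obtain ⟨e1, ψ1, S1, hr⟩ := S.exists_coords hyQ hk hyne
  set B := Subgroup.zpowers β
  have hBle : B ≤ Subgroup.centralizer ({z, y} : Set G) := Subgroup.zpowers_le.2
    (mem_centralizer_pair.2 ⟨hβz, by rw [hy, ← mul_assoc, hβz, mul_assoc, hβx, ← mul_assoc]⟩)
  haveI : (B.subgroupOf (Subgroup.centralizer (B : Set G))).Normal := ⟨fun a ha c => by
    rw [Subgroup.mem_subgroupOf] at ha ⊢
    simp only [Subgroup.coe_mul, Subgroup.coe_inv]
    rw [← Subgroup.mem_centralizer_iff.1 c.2 _ ha, mul_inv_cancel_right]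
    exact ha⟩
  obtain ⟨e', ψ', β', -, -, hB, -, -, ⟨g, hgβ, hgz⟩, -⟩ :=
    S1.local_main (r := 2) pkg hr hk hyne (permAut_cross _) hBle (by rw [Nat.card_zpowers, hβ])
      (fun _ => True)
      (fun g hg hgo _ => cross_conj_pow (by norm_num) (by norm_num) hg hgo (permAut_cross _) order_b)
      (fun _ _ _ _ _ _ _ _ => trivial) exists_squarer (by norm_num) seven_arith
  refine ⟨g, ?_, ?_⟩
  · obtain ⟨i, hi⟩ := Subgroup.mem_zpowers_iff.1 (hB ▸ Subgroup.mem_zpowers β : β ∈ Subgroup.zpowers β')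
    rw [← hi]
    exact ((show Commute g β' from hgβ).zpow_right i).eq
  · rw [hgz, hy, ← mul_assoc, hzz, one_mul]

/-- the fixed part contains twenty-nine conjugates of the central involution -/
theorem count_conj (S : Setup z Q e ψ) {β : G} (hβ : orderOf β = 7) (hov : Over e β b) :
    {x : G | x ∈ QG Q ∧ x * β = β * x ∧ IsConj z x}.ncard = 29 := by
  classical
  obtain ⟨hlen, hnd, hvl, hall⟩ := frame_vec_checks
  rw [List.all_eq_true] at hall
  have hb7 : b ^ 7 = 1 := by rw [← order_b, pow_orderOf_eq_one]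
  have hβ7 : β ^ 7 = 1 := by rw [← hβ, pow_orderOf_eq_one]
  have hodd : Odd 7 := by decide
  have hzβ : z * β = β * z := (mem_CZ.1 hov.mem_CZ).symm
  have hdata : ∀ i : Fin 14, ∃ (v : ↥leechLattice) (x : G), sqNorm (v : GolayPt → ℤ) = 64 ∧
      key (v : GolayPt → ℤ) = frames.getD i 0 ∧ Rep ψ x v ∧ x * β = β * x := by
    intro i
    have hi : (i : ℕ) < frames.length := by rw [hlen]; exact i.2
    have hi' : (i : ℕ) < frameVecs.length := by rw [hvl]; exact i.2
    have h := hall (frames[(i : ℕ)], frameVecs[(i : ℕ)]) (by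
      rw [List.mem_iff_getElem]
      exact ⟨i, by rw [List.length_zip]; omega, List.getElem_zip⟩)
    simp only [Bool.and_eq_true, beq_iff_eq] at h
    obtain ⟨⟨⟨h1, h2⟩, h3⟩, h4⟩ := h
    have hk : key (vec frameVecs[(i : ℕ)]) = frames.getD i 0 := by
      rw [keyL_eq (inL_length h1), h3]
      exact (List.getD_eq_getElem _ _ hi).symm
    obtain ⟨x, hx⟩ := S.exists_rep ⟨_, vec_mem h1⟩
    refine ⟨_, x, by rw [sqNorm_vec (inL_length h1)]; exact h2, hk, hx,
      (S.commute_iff_fixCls hodd hβ7 hov hx).2 ((fixCls_iff_act _ _).2 ?_)⟩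
    show act b (key (vec frameVecs[(i : ℕ)])) = key (vec frameVecs[(i : ℕ)])
    rw [hk, List.getD_eq_getElem _ _ hi]
    refine Eq.trans ?_ h4
    refine rep_permAut perm_ok _ ?_
    rw [← List.getD_eq_getElem _ 0 hi, ← hk]
    exact key_lt _
  choose v x hvn hvk hxv hxβ using hdata
  let f : Fin 14 × Bool → G := fun u => if u.2 then x u.1 * z else x u.1
  have hfrep : ∀ u, Rep ψ (f u) (v u.1) := by
    rintro ⟨i, _ | _⟩
    exacts [hxv i, S.rep_mul_z (hxv i)]
  have hfcomm : ∀ u, f u * β = β * f u := by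
    rintro ⟨i, _ | _⟩
    · exact hxβ i
    · show x i * z * β = β * (x i * z)
      rw [mul_assoc, hzβ, ← mul_assoc, hxβ, mul_assoc]
  have hfinj : Function.Injective f := by
    rintro ⟨i, a⟩ ⟨j, c⟩ he
    have h1 := hfrep (j, c)
    rw [← he] at h1
    have h2 := (isDbl_sub_iff _ _).1 (S.rep_unique (hfrep (i, a)) h1)
    have hi : (i : ℕ) < frames.length := by rw [hlen]; exact i.2
    have hj : (j : ℕ) < frames.length := by rw [hlen]; exact j.2
    rw [hvk, hvk, List.getD_eq_getElem _ _ hi, List.getD_eq_getElem _ _ hj,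
      hnd.getElem_inj_iff] at h2
    obtain rfl : i = j := Fin.ext h2
    refine Prod.ext rfl ?_
    cases a <;> cases c
    · rfl
    · exact absurd (mul_eq_left.1 (show x i * z = x i from he.symm)) S.z_ne_one
    · exact absurd (mul_eq_left.1 (show x i * z = x i from he)) S.z_ne_one
    · rfl
  have hset : {x : G | x ∈ QG Q ∧ x * β = β * x ∧ IsConj z x} = insert z (Set.range f) := by
    ext y
    constructor
    · rintro ⟨hy, hyβ, hyc⟩
      by_cases hyz : y = z
      · exact Or.inl hyz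
      refine Or.inr ?_
      obtain ⟨w, hw, hwn⟩ := S.conj_type hy hyc hyz
      have hfix := (S.commute_iff_fixCls hodd hβ7 hov hw).1 hyβ
      obtain ⟨g, hg⟩ := transitive_64 (v := v8) (sqNorm_eight none) hwn
      have hmem := frame_mem perm_ok fix_ok cls_ok (g := g) (by
        show FixCls b (g • v8)
        rw [show g • v8 = w from hg]
        exact hfix)
      rw [mainK_three none, show eight none = ((v8 : ↥leechLattice) : GolayPt → ℤ) from rfl, act_key,
        show g • v8 = w from hg] at hmem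
      obtain ⟨i, hi, hik⟩ := List.getElem_of_mem hmem
      set i' : Fin 14 := ⟨i, hlen ▸ hi⟩
      have hk : key (v i' : GolayPt → ℤ) = key (w : GolayPt → ℤ) := by
        rw [hvk, List.getD_eq_getElem _ _ hi, hik]
      have hy' : Rep ψ y (v i') := S.rep_congr hw ((isDbl_sub_iff _ _).2 hk)
      rcases S.rep_coset (hxv i') hy' with h | h
      · exact ⟨(i', false), h.symm⟩
      · exact ⟨(i', true), h.symm⟩
    · rintro (rfl | ⟨u, rfl⟩)
      · exact ⟨S.z_mem, hzβ, IsConj.refl _⟩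
      · exact ⟨(hfrep u).mem, hfcomm u, (S.conj_of_64 (hvn u.1) (hfrep u)).1⟩
  have hz : z ∉ Set.range f := by
    rintro ⟨u, hu⟩
    exact (S.conj_of_64 (hvn u.1) (hfrep u)).2 hu
  rw [hset, Set.ncard_insert_of_notMem hz (Set.toFinite _), ← Set.image_univ,
    Set.ncard_image_of_injective _ hfinj, Set.ncard_univ, Nat.card_prod, Nat.card_fin,
    Nat.card_eq_fintype_card, Fintype.card_bool]

/-- the number of conjugates in the quotient -/
theorem count_quot (S : Setup z Q e ψ) {β : G} (hβ : orderOf β = 7) (hov : Over e β b)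
    {B : Subgroup G} [hn : (B.subgroupOf (Subgroup.centralizer (B : Set G))).Normal]
    (hB : B = Subgroup.zpowers β)
    {zb : ↥(Subgroup.centralizer (B : Set G)) ⧸ B.subgroupOf (Subgroup.centralizer (B : Set G))}
    {hzC : z ∈ Subgroup.centralizer (B : Set G)}
    {R : Subgroup (Subgroup.centralizer ({zb} :
      Set (↥(Subgroup.centralizer (B : Set G)) ⧸ B.subgroupOf (Subgroup.centralizer (B : Set G)))))}
    (hzb : zb = QuotientGroup.mk ⟨z, hzC⟩)
    (hR : ∀ y, (y ∈ R ↔ ∃ x : ↥(Subgroup.centralizer (B : Set G)), (x : G) ∈ QG Q ∧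
      QuotientGroup.mk x = (y : ↥(Subgroup.centralizer (B : Set G)) ⧸
        B.subgroupOf (Subgroup.centralizer (B : Set G))))) :
    {y : Subgroup.centralizer ({zb} : Set (↥(Subgroup.centralizer (B : Set G)) ⧸
      B.subgroupOf (Subgroup.centralizer (B : Set G)))) | y ∈ R ∧ IsConj zb (y : _)}.ncard = 29 := by
  classical
  rw [← count_conj S hβ hov]
  have memC : ∀ x : G, x ∈ Subgroup.centralizer (B : Set G) ↔ x * β = β * x := by
    intro x
    rw [Subgroup.mem_centralizer_iff]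
    refine ⟨fun h => (h β (hB ▸ Subgroup.mem_zpowers β)).symm, fun h y hy => ?_⟩
    rw [SetLike.mem_coe, hB] at hy
    obtain ⟨n, rfl⟩ := Subgroup.mem_zpowers_iff.1 hy
    exact ((Commute.zpow_right (show Commute x β from h) n).eq).symm
  have hBQ : ∀ a ∈ B, ∀ m : ℕ, a ^ 2 ^ m = 1 → a = 1 := by
    intro a ha m h
    have h1 : orderOf a ∣ 7 := by
      have h := orderOf_dvd_natCard (⟨a, hB ▸ ha⟩ : ↥(Subgroup.zpowers β))
      rwa [Subgroup.orderOf_mk, Nat.card_zpowers, hβ] at h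
    exact orderOf_eq_one_iff.1 (Nat.eq_one_of_dvd_coprimes
      ((by norm_num : Nat.Coprime 2 7).pow_left m) (orderOf_dvd_of_pow_eq_one h) h1)
  have hkeyex : ∀ y : {y : Subgroup.centralizer ({zb} : Set (↥(Subgroup.centralizer (B : Set G)) ⧸
      B.subgroupOf (Subgroup.centralizer (B : Set G)))) | y ∈ R ∧ IsConj zb (y : _)},
      ∃ x : ↥(Subgroup.centralizer (B : Set G)),
        (x : G) ∈ {x : G | x ∈ QG Q ∧ x * β = β * x ∧ IsConj z x} ∧
        QuotientGroup.mk x = ((y : Subgroup.centralizer ({zb} : Set _)) : ↥(Subgroup.centralizer (B : Set G)) ⧸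
          B.subgroupOf (Subgroup.centralizer (B : Set G))) := by
    rintro ⟨y, hyR, hyc⟩
    obtain ⟨x, hxQ, hxy⟩ := (hR y).1 hyR
    refine ⟨x, ⟨hxQ, (memC _).1 x.2, ?_⟩, hxy⟩
    obtain ⟨c, hc⟩ := isConj_iff.1 hyc
    obtain ⟨d, rfl⟩ := QuotientGroup.mk_surjective c
    rw [← hxy, hzb] at hc
    have hmem := QuotientGroup.eq.1 hc.symm
    rw [Subgroup.mem_subgroupOf] at hmem
    simp only [Subgroup.coe_mul, Subgroup.coe_inv] at hmem
    set u : G := (x : G)⁻¹ * ((d : G) * z * (d : G)⁻¹)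
    have hxu : Commute (x : G) u := by
      rw [hB] at hmem
      obtain ⟨n, hn⟩ := Subgroup.mem_zpowers_iff.1 hmem
      rw [← hn]
      exact (show Commute (x : G) β from (memC _).1 x.2).zpow_right n
    have hu4 : u ^ 2 ^ 25 = 1 := by
      have hx1 : (x : G) ^ 2 ^ 25 = 1 := by
        rw [← S.card_QG]
        exact congrArg Subtype.val (pow_card_eq_one' (x := (⟨(x : G), hxQ⟩ : ↥(QG Q))))
      have hd1 : ((d : G) * z * (d : G)⁻¹) ^ 2 ^ 25 = 1 := by
        rw [conj_pow, show z ^ 2 ^ 25 = (z * z) ^ 2 ^ 24 by rw [← pow_two, ← pow_mul]; norm_num,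
          S.z_mul_z, one_pow, mul_one, mul_inv_cancel]
      have h2 : (x : G) * u = (d : G) * z * (d : G)⁻¹ := mul_inv_cancel_left _ _
      rw [← h2, hxu.mul_pow, hx1, one_mul] at hd1
      exact hd1
    have hu1 := hBQ u hmem 25 hu4
    exact isConj_iff.2 ⟨d, (inv_mul_eq_one.1 hu1).symm⟩
  choose F hF1 hF2 using hkeyex
  rw [← Nat.card_coe_set_eq, ← Nat.card_coe_set_eq]
  refine Nat.card_congr (Equiv.ofBijective (fun y => ⟨(F y : G), hF1 y⟩) ⟨fun y y' h => ?_, ?_⟩)
  · have h' : F y = F y' := Subtype.ext (congrArg Subtype.val h :)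
    exact Subtype.ext (Subtype.ext (by rw [← hF2 y, ← hF2 y', h']))
  · rintro ⟨x, hxQ, hxβ, hxc⟩
    set x' : ↥(Subgroup.centralizer (B : Set G)) := ⟨x, (memC x).2 hxβ⟩
    have hzβ : z * β = β * z := (mem_CZ.1 hov.mem_CZ).symm
    have hyC : (QuotientGroup.mk x' : ↥(Subgroup.centralizer (B : Set G)) ⧸
        B.subgroupOf (Subgroup.centralizer (B : Set G))) ∈ Subgroup.centralizer ({zb} : Set _) := by
      rw [Subgroup.mem_centralizer_singleton_iff, hzb, ← QuotientGroup.mk_mul, ← QuotientGroup.mk_mul]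
      congr 1
      exact Subtype.ext (mem_CZ.1 (QG_le hxQ))
    have hconj : IsConj zb (QuotientGroup.mk x') := by
      by_cases hxz : x = z
      · rw [hzb]
        subst hxz
        exact IsConj.refl _
      · obtain ⟨g, hgβ, hgz⟩ := fuse_seven S hxQ hxc hxz hβ hzβ.symm hxβ.symm
        refine isConj_iff.2 ⟨QuotientGroup.mk ⟨g, (memC g).2 hgβ⟩, ?_⟩
        rw [hzb, ← QuotientGroup.mk_mul, ← QuotientGroup.mk_inv, ← QuotientGroup.mk_mul]
        congr 1
        exact Subtype.ext hgz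
    refine ⟨⟨⟨_, hyC⟩, (hR _).2 ⟨x', hxQ, rfl⟩, hconj⟩, Subtype.ext ?_⟩
    have h := QuotientGroup.eq.1 (hF2 ⟨⟨_, hyC⟩, (hR _).2 ⟨x', hxQ, rfl⟩, hconj⟩).symm
    rw [Subgroup.mem_subgroupOf] at h
    have hmemQ := mul_mem (inv_mem hxQ) (hF1 ⟨⟨_, hyC⟩, (hR _).2 ⟨x', hxQ, rfl⟩, hconj⟩).1
    have h25 : ((x : G)⁻¹ * (F ⟨⟨_, hyC⟩, (hR _).2 ⟨x', hxQ, rfl⟩, hconj⟩ : G)) ^ 2 ^ 25 = 1 := by
      rw [← S.card_QG]
      exact congrArg Subtype.val (pow_card_eq_one' (x := (⟨_, hmemQ⟩ : ↥(QG Q))))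
    exact (inv_mul_eq_one.1 (hBQ _ h 25 h25)).symm

end CfsgLib.MonsterCent.Seven
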