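import Cfsg.Agent.Lib.MonsterCent.Action
import Cfsg.Agent.Lib.Monster.CrossStab
import Cfsg.Agent.Lib.Golay.SylowTwoCert
import Cfsg.Agent.Lib.Golay.Commute

/-!
From the checked data of a permutation to its package, and homomorphisms to the permutations of
families of sets of classes.
-/

set_option autoImplicit false
set_option maxRecDepth 10000

namespace CfsgLib.MonsterCent

open Cfsg CfsgLib.Golay CfsgLib.Golay.SylowTwo CfsgLib.Leech CfsgLib.Leech.OutOne CfsgLib.Monster CfsgLib.LeechIso
  CfsgLib.M24.PackChain CfsgLib.CosetEnum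

attribute [local irreducible] dL bL key keyL coord packB linL bits autOK

variable {P : ℕ} (hP : inM24 P = true)

theorem permHom_injective : Function.Injective permHom :=
  Function.Injective.of_comp (f := toCo1) co1_cross_structure.2.2.2.2.2.2.2

include hP in
theorem orderOf_permAut : orderOf (permAut hP) = orderOf (toPerm P) := by
  have h : permAut hP = permHom (⟨toPerm P, toPerm_mem_M24 hP⟩⁻¹ : ↥M24) := by
    simp only [permHom, MonoidHom.mk'_apply, permAut, InvMemClass.coe_inv, inv_inv]
  rw [h, orderOf_injective _ permHom_injective, orderOf_inv, Subgroup.orderOf_mk]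

theorem orderOf_of_powP {p : ℕ} [Fact p.Prime] (hP : inM24 P = true) (h1 : eqP (powP P p) idP = true)
    (h2 : eqP P idP = false) : orderOf (toPerm P) = p := by
  have hv := valid_of_inM24 hP
  refine orderOf_eq_prime ?_ fun e => ?_
  · rw [← (toPerm_powP hv p).2, toPerm_eq_of_eqP (toPerm_powP hv p).1 validP_idP h1, toPerm_idP]
  · have := eqP_of_toPerm_eq hv validP_idP (e.trans toPerm_idP.symm)
    rw [h2] at this
    exact Bool.false_ne_true this

variable {ker R coef L frames : List ℕ} {vs : List (List ℤ)} {wit : List (List ℤ)}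
  {form : List (Bool × List Bool)}

include hP in
/-- The centraliser is bounded by the frames, the permutations and the code words. -/
theorem centralizer_bound (hfix : fixOK (monoTab P 0) ker R coef L = true)
    (hcls : clsOK vs form ker frames wit = true) {N F : ℕ}
    (hN : {g : Equiv.Perm GolayPt | g ∈ M24 ∧ g * toPerm P = toPerm P * g}.ncard ≤ N)
    (hF : (fixWords P).length = F) :
    (∀ g ∈ Subgroup.centralizer ({permAut hP} : Set ↥Co0), act g (mainK 3) ∈ frames) ∧
    Nat.card ↥(Subgroup.centralizer ({permAut hP} : Set ↥Co0) ⊓ crossStab) ≤ N * F ∧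
    Nat.card ↥(Subgroup.centralizer ({permAut hP} : Set ↥Co0)) ≤ frames.length * (N * F) := by
  have hmem : ∀ g ∈ Subgroup.centralizer ({permAut hP} : Set ↥Co0), act g (mainK 3) ∈ frames := by
    intro g hg
    refine frame_mem hP hfix hcls ?_
    show IsDbl _
    rw [← mul_smul, ← Subgroup.mem_centralizer_singleton_iff.1 hg, mul_smul, ← smul_sub']
    exact (mem_crossStab_iff_dbl.1 (permAut_cross hP)).smul g
  have hc := hF ▸ card_cross_le hP hN
  exact ⟨hmem, hc, le_trans (card_le_frames _ _ hmem) (Nat.mul_le_mul_left _ hc)⟩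

variable {n N p w : ℕ} {keys Pim : List ℕ} {r : ℕ}

include hP in
/-- The package of a permutation. -/
theorem ActData.centPkg (D : ActData keys Pim n N p r (permAut hP)) {T : Type*} [Group T] [Finite T]
    (hp : p.Prime) (hodd : Odd p) (hb : orderOf (permAut hP) = p)
    (hfix : fixOK (monoTab P 0) ker R coef L = true) (hw : ker.length = 2 * w)
    (Θ : ↥D.φ.range ≃* T) (hcore : pCore 2 ↥D.φ.range = ⊥) : CentPkg p (permAut hP) T w where
  prime := hp
  odd := hodd
  order := hb
  surj := ⟨Θ.toMonoidHom.comp D.φ.rangeRestrict, Θ.surjective.comp D.φ.rangeRestrict_surjective,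
    fun g => by
      rw [← D.ker_iff g, MonoidHom.comp_apply]
      show Θ (D.φ.rangeRestrict g) = 1 ↔ _
      rw [Θ.map_eq_one_iff]
      exact Subtype.ext_iff⟩
  fixed := by rw [kap_image_card hP hfix, hw]
  faith := fun g hg h => D.faith hP hg h
  core := by
    haveI : Fact (Nat.Prime 2) := ⟨Nat.prime_two⟩
    haveI := Fitting.pCore_normal (G := T) 2
    have h := Fitting.le_pCore (Subgroup.Normal.map inferInstance Θ.symm.toMonoidHom Θ.symm.surjective)
      ((Fitting.pCore_isPGroup (G := T) 2).map Θ.symm.toMonoidHom)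
    rw [hcore, le_bot_iff, Subgroup.map_eq_bot_iff_of_injective _ Θ.symm.injective] at h
    exact h

/-- the checks of a permuted family of sets -/
noncomputable def setsOK (n m : ℕ) (sets : List (List ℕ)) (Pim qim : List ℕ) : Bool :=
  Nat.beq qim.length Pim.length && Nat.beq sets.length m && (sets.all fun s => s.all fun x => Nat.blt x n) &&
    decide (sets.map maskOf).Nodup &&
    (List.range Pim.length).all fun k => strict (nth Pim k 0) fun A => strict (nth qim k 0) fun B =>
      (List.range m).all fun i => Nat.blt (pk B i) m &&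
        Nat.beq (maskOf ((sets.getD i []).map (pk A))) (maskOf (sets.getD (pk B i) []))

/-- A permutation group permuting a family of sets maps to the permutations of the family. -/
theorem exists_setHom {T : Subgroup (Equiv.Perm (Fin n))} {a : Fin r → ↥T}
    (hP' : Packed T.subtype a Pim) (hgen : Subgroup.closure (Set.range a) = ⊤) {m : ℕ}
    {sets : List (List ℕ)} {qim : List ℕ} (h : setsOK n m sets Pim qim = true) :
    ∃ θ : ↥T →* Equiv.Perm (Fin m), Packed θ a qim := by
  classical
  simp only [setsOK, Bool.and_eq_true, Nat.beq_eq, decide_eq_true_eq, List.all_eq_true, Nat.blt_eq,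
    List.mem_range, strict_eq] at h
  obtain ⟨⟨⟨⟨hql, hsl⟩, hlt⟩, hnd⟩, himg⟩ := h
  let f : Fin m → Finset (Fin n) := fun i =>
    Finset.univ.filter fun x : Fin n => (x : ℕ) ∈ sets.getD i []
  have hmem : ∀ i : Fin m, sets.getD i [] ∈ sets := fun i => by
    rw [List.getD_eq_getElem _ _ (hsl.symm ▸ i.2)]; exact List.getElem_mem _
  have hf : Function.Injective f := by
    intro i j e
    have hi : (i : ℕ) < (sets.map maskOf).length := by rw [List.length_map, hsl]; exact i.2
    have hj : (j : ℕ) < (sets.map maskOf).length := by rw [List.length_map, hsl]; exact j.2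
    refine Fin.ext ((hnd.getElem_inj_iff (hi := hi) (hj := hj)).1 ?_)
    rw [List.getElem_map, List.getElem_map, ← List.getD_eq_getElem _ [], ← List.getD_eq_getElem _ []]
    refine Nat.eq_of_testBit_eq fun x => Bool.eq_iff_iff.2 ?_
    rw [testBit_maskOf, testBit_maskOf]
    constructor
    · intro hx
      have hxn := hlt _ (hmem i) x hx
      have : (⟨x, hxn⟩ : Fin n) ∈ f i := Finset.mem_filter.2 ⟨Finset.mem_univ _, hx⟩
      rw [e] at this
      exact (Finset.mem_filter.1 this).2
    · intro hx
      have hxn := hlt _ (hmem j) x hx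
      have : (⟨x, hxn⟩ : Fin n) ∈ f j := Finset.mem_filter.2 ⟨Finset.mem_univ _, hx⟩
      rw [← e] at this
      exact (Finset.mem_filter.1 this).2
  have himg' : ∀ (k : Fin r) (i : Fin m), ∃ hq : pk (nth qim k 0) i < m,
      (f i).image (fun x => (a k : Equiv.Perm (Fin n)) x) = f ⟨pk (nth qim k 0) i, hq⟩ := by
    intro k i
    obtain ⟨h1, h2⟩ := himg k (hP'.1.symm ▸ k.2) i i.2
    refine ⟨h1, Finset.ext fun y => ?_⟩
    have hy : (y : ℕ) ∈ (sets.getD i []).map (pk (nth Pim k 0)) ↔ (y : ℕ) ∈ sets.getD (pk (nth qim k 0) i) [] := by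
      rw [← testBit_maskOf, ← testBit_maskOf, h2]
    simp only [f, Finset.mem_image, Finset.mem_filter, Finset.mem_univ, true_and]
    rw [← hy, List.mem_map]
    constructor
    · rintro ⟨x, hx, rfl⟩
      exact ⟨(x : ℕ), hx, (hP'.2 k x).symm⟩
    · rintro ⟨x, hx, hxy⟩
      exact ⟨⟨x, hlt _ (hmem i) x hx⟩, hx, Fin.ext ((hP'.2 k _).trans hxy)⟩
  haveI : Finite ↥T := inferInstance
  obtain ⟨θ, hθ⟩ := CfsgLib.Schur.exists_familyHom
    (fun (g : ↥T) (A : Finset (Fin n)) => A.image fun x => (g : Equiv.Perm (Fin n)) x) f hf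
    (fun i => by simp) (fun x y i => by
      rw [Finset.image_image]; rfl) hgen (by
      rintro _ ⟨k, rfl⟩ i
      obtain ⟨h1, h2⟩ := himg' k i
      exact ⟨_, h2⟩)
  refine ⟨θ, hql.trans hP'.1, fun k i => ?_⟩
  obtain ⟨h1, h2⟩ := himg' k i
  have := hf ((hθ (a k) i).trans h2)
  rw [this]

/-- A homomorphism from a finite group, with image at least as large as the group, is injective. -/
theorem injective_of_card {H M : Type*} [Group H] [Group M] [Finite H] (θ : H →* M)
    (h : Nat.card H ≤ Nat.card θ.range) : Function.Injective θ := by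
  have hb : Function.Bijective θ.rangeRestrict :=
    θ.rangeRestrict_surjective.bijective_of_nat_card_le h
  exact fun x y e => hb.1 (Subtype.ext e)

end CfsgLib.MonsterCent
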