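import Cfsg.Agent.Lib.MonsterCent.ChkThreeFree
import Cfsg.Agent.Lib.MonsterCent.Pkg
import Cfsg.Agent.Lib.Golay.Classes.Three

/-!
The centraliser of a fixed-point-free permutation of order three: it is of order three times the
alternating group of degree nine, up to sign.
-/

set_option autoImplicit false
set_option maxRecDepth 100000
set_option linter.style.haveILetI false

namespace CfsgLib.MonsterCent.ThreeFree

open Cfsg CfsgLib.Golay CfsgLib.Golay.SylowTwo CfsgLib.Leech CfsgLib.Leech.OutOne CfsgLib.Monster
  CfsgLib.LeechIso CfsgLib.M24.PackChain CfsgLib.MonsterCent CfsgLib.CosetEnum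

attribute [local irreducible] dL bL key keyL coord packB linL bits autOK

/-- the automorphism of the permutation -/
noncomputable def b : ↥Co0 := permAut perm_ok

theorem order_check : eqP (powP perm 3) idP = true ∧ eqP perm idP = false := by decide +kernel

theorem order_b : orderOf b = 3 := by
  haveI : Fact (Nat.Prime 3) := ⟨by norm_num⟩
  rw [b, orderOf_permAut, orderOf_of_powP perm_ok order_check.1 order_check.2]

theorem sets_ok : setsOK 135 9 sets images qim = true := by decide +kernel

theorem qchain_ok : chainOK 9 181440 qim qprog qlev = true := by decide +kernel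

/-- the images of the generators -/
def imageOf (k : ℕ) : Equiv.Perm (Fin 9) :=
  if k = 0 then Equiv.swap 0 7 * Equiv.swap 0 3 * Equiv.swap 0 6 * Equiv.swap 0 2 * Equiv.swap 0 4 * Equiv.swap 1 8 else Equiv.swap 0 8 * Equiv.swap 0 4 * Equiv.swap 1 6 * Equiv.swap 1 5

theorem image_facts : qim.length = 2 ∧ ∀ k : Fin 2, Equiv.Perm.sign (imageOf k) = 1 ∧
    ∀ x : Fin 9, ((imageOf k x : Fin 9) : ℕ) = pk (nth qim k 0) x := by
  decide +kernel

theorem exists_model (D : ActData pts images 135 181440 3 gens.length b) :
    Nonempty (↥D.φ.range ≃* ↥(alternatingGroup (Fin 9))) := by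
  obtain ⟨θ, hθ⟩ := exists_setHom D.packed D.gen sets_ok
  have hle : θ.range ≤ alternatingGroup (Fin 9) := by
    rw [MonoidHom.range_eq_map, ← D.gen, MonoidHom.map_closure, Subgroup.closure_le]
    rintro _ ⟨_, ⟨k, rfl⟩, rfl⟩
    have hk : (k : ℕ) < 2 := by
      have h := hθ.1
      rw [image_facts.1] at h
      have := k.2
      omega
    suffices h : θ (D.a k) = imageOf k from
      Equiv.Perm.mem_alternatingGroup.2 (h ▸ (image_facts.2 ⟨k, hk⟩).1)
    exact Equiv.ext fun x => Fin.ext ((hθ.2 k x).trans ((image_facts.2 ⟨k, hk⟩).2 x).symm)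
  have hrange : 181440 ≤ Nat.card θ.range :=
    (chain_le (φ := θ.range.subtype) (a := fun k => (⟨θ (D.a k), ⟨_, rfl⟩⟩ : ↥θ.range))
      ⟨hθ.1, hθ.2⟩ qchain_ok).trans (Subgroup.card_le_card_group _)
  have hinj : Function.Injective θ := injective_of_card θ (by rw [D.card_range]; exact hrange)
  have hA : Nat.card ↥(alternatingGroup (Fin 9)) = 181440 := by
    rw [nat_card_alternatingGroup, Nat.card_fin]; decide
  have heq : θ.range = alternatingGroup (Fin 9) := Subgroup.eq_of_le_of_card_ge hle (hA.le.trans hrange)
  exact ⟨(MonoidHom.ofInjective hinj).trans (MulEquiv.subgroupCongr heq)⟩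

theorem frames_length : frames.length = 135 := by decide +kernel

/-- the package of the fixed-point-free element of order three -/
theorem pkg : CentPkg 3 b ↥(alternatingGroup (Fin 9)) 4 := by
  obtain ⟨hmem, hcross, hC⟩ := centralizer_bound perm_ok fix_ok cls_ok (ncard_commute_le tree_ok) words_count
  rw [frames_length] at hC
  obtain ⟨D⟩ := exists_actData perm_ok (by norm_num : Nat.Prime 3) (by decide) order_b act_ok chain_ok
    (by norm_num) (le_trans hC (by norm_num))
  obtain ⟨Θ⟩ := exists_model D
  refine D.centPkg perm_ok (by norm_num) (by decide) order_b fix_ok (by decide +kernel) Θ ?_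
  exact D.core_bot perm_ok fix_ok (fun k hk => List.contains_iff_mem.1 (List.all_eq_true.1 ker_sub k hk))
    (by rw [frames_length]; decide) hmem hcross (by rw [frames_length])

/-- the order of the monomial part of the centraliser -/
theorem cross_card : Nat.card ↥(crossStab ⊓ Subgroup.centralizer ({b} : Set ↥Co0)) = 504 * 16 := by
  obtain ⟨hmem, hcross, hC⟩ := centralizer_bound perm_ok fix_ok cls_ok (ncard_commute_le tree_ok) words_count
  rw [frames_length] at hC
  obtain ⟨D⟩ := exists_actData perm_ok (by norm_num : Nat.Prime 3) (by decide) order_b act_ok chain_ok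
    (by norm_num) (le_trans hC (by norm_num))
  have h := card_le_frames _ _ hmem
  rw [frames_length, D.card_eq] at h
  rw [inf_comm]
  change _ ≤ _ at hcross
  show Nat.card ↥(Subgroup.centralizer ({permAut perm_ok} : Set ↥Co0) ⊓ crossStab) = _
  omega

end CfsgLib.MonsterCent.ThreeFree
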