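import Cfsg.Agent.Lib.MonsterCent.ChkThreeSix
import Cfsg.Agent.Lib.MonsterCent.Pkg
import Cfsg.Agent.Lib.LeechIso.Models

/-!
The centraliser of a permutation of order three with six fixed points: modulo that element and sign it
has a normal series with factors of order three, the unitary group of dimension four over nine
elements, and two.
-/

set_option autoImplicit false
set_option maxRecDepth 100000
set_option linter.style.haveILetI false

namespace CfsgLib.MonsterCent.ThreeSix

open Cfsg CfsgLib.Golay CfsgLib.Golay.SylowTwo CfsgLib.Leech CfsgLib.Leech.OutOne CfsgLib.Monster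
  CfsgLib.LeechIso CfsgLib.M24.PackChain CfsgLib.MonsterCent CfsgLib.CosetEnum

attribute [local irreducible] dL bL key keyL coord packB linL bits autOK

/-- the automorphism of the permutation -/
noncomputable def b : ↥Co0 := permAut perm_ok

theorem order_check : eqP (powP perm 3) idP = true ∧ eqP perm idP = false := by decide +kernel

theorem order_b : orderOf b = 3 := by
  haveI : Fact (Nat.Prime 3) := ⟨by norm_num⟩
  rw [b, orderOf_permAut, orderOf_of_powP perm_ok order_check.1 order_check.2]

theorem sets_ok : setsOK 378 126 sets images qim = true := by decide +kernel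

theorem qchain_ok : chainOK 126 6531840 qim qprog qlev = true := by decide +kernel

theorem words_ok : wordsIn 126 qim wprog widx U4.Q0 = true := by decide +kernel

theorem mchain_ok : chainOK 126 3265920 U4.Q0 mprog mlev = true := by decide +kernel

theorem widx_length : widx.length = 2 := by decide +kernel

/-- the last generator moves a point and fixes every block -/
theorem kernel_elt : gens.length = 3 ∧ pk (nth images 2 0) 0 ≠ 0 ∧
    (List.range 126).all (fun i => Nat.beq (pk (nth qim 2 0) i) i) = true ∧
    (List.range 378).all (fun i => Nat.beq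
      (pk (nth images 2 0) (pk (nth images 2 0) (pk (nth images 2 0) i))) i) = true := by decide +kernel

/-- a group with the series of the centraliser -/
def HasSeries (T : Type) [Group T] : Prop :=
  ∃ (N M : Subgroup T) (_ : N.Normal) (_ : M.Normal), N ≤ M ∧ Nat.card N = 3 ∧ M.index = 2 ∧
    ∃ (K : Type) (_ : Field K) (_ : Fintype K), Fintype.card K = 9 ∧
      Nonempty (↥M ⧸ N.subgroupOf M ≃* PSU 4 K 3)

theorem exists_model (D : ActData pts images 378 19595520 3 gens.length b) :
    HasSeries ↥D.φ.range := by
  classical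
  haveI : Fact (Nat.Prime 3) := ⟨Nat.prime_three⟩
  let K := GaloisField 3 2
  letI : Fintype K := Fintype.ofFinite K
  have hK : Fintype.card K = 9 := by
    rw [← Nat.card_eq_fintype_card, GaloisField.card 3 2 two_ne_zero]; norm_num
  obtain ⟨hcard, hsimple, ψ, X, hX⟩ := model_u4 hK
  haveI : Finite (PSU 4 K 3) := Nat.finite_of_card_ne_zero (by rw [hcard]; norm_num)
  obtain ⟨θ, hθ⟩ := exists_setHom D.packed D.gen sets_ok
  -- the model inside the image
  obtain ⟨c, hc⟩ := exists_words hθ widx_length words_ok
  have hc' : ∀ k : Fin 2, θ (c k) = ψ (X k) := fun k =>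
    Equiv.ext fun x => Fin.ext ((hc.2 k x).trans (hX.2 k x).symm)
  set S0 : Subgroup (PSU 4 K 3) := Subgroup.closure (Set.range X)
  let A : Subgroup (Equiv.Perm (Fin 126)) := S0.map ψ
  have hA : A ≤ θ.range := by
    rw [show A = Subgroup.closure (ψ '' Set.range X) from MonoidHom.map_closure ψ _, Subgroup.closure_le]
    rintro _ ⟨_, ⟨k, rfl⟩, rfl⟩
    exact ⟨c k, hc' k⟩
  -- the generated part is everything
  have hSfull : S0 = ⊤ := Subgroup.eq_top_of_le_card _ (by
    rw [hcard]; exact chain_le hX mchain_ok)
  have hψinj : Function.Injective ψ := by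
    rcases hsimple.eq_bot_or_eq_top_of_normal ψ.ker inferInstance with h | h
    · exact (MonoidHom.ker_eq_bot_iff ψ).1 h
    · exfalso
      have h1 := (chain_le (φ := ψ.range.subtype) (a := fun k => (⟨ψ (X k), ⟨_, rfl⟩⟩ : ↥ψ.range))
        ⟨hX.1, hX.2⟩ mchain_ok).trans (Subgroup.card_le_card_group _)
      rw [MonoidHom.range_eq_map, (Subgroup.map_eq_bot_iff (f := ψ) ⊤).2 (by rw [h]),
        Subgroup.card_bot] at h1
      omega
  have hAcard : Nat.card A = 3265920 := by
    rw [show A = S0.map ψ from rfl, Subgroup.card_map_of_injective (f := ψ) hψinj, hSfull,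
      Subgroup.card_top, hcard]
  -- the orders
  have hrange : 6531840 ≤ Nat.card θ.range :=
    (chain_le (φ := θ.range.subtype) (a := fun k => (⟨θ (D.a k), ⟨_, rfl⟩⟩ : ↥θ.range))
      ⟨hθ.1, hθ.2⟩ qchain_ok).trans (Subgroup.card_le_card_group _)
  have hker : 3 ≤ Nat.card θ.ker := by
    obtain ⟨hl, hmove, hfixb, hcube⟩ := kernel_elt
    let k2 : Fin gens.length := ⟨2, by omega⟩
    have h1 : θ (D.a k2) = 1 := Equiv.ext fun i => Fin.ext ((hθ.2 k2 i).trans
      (Nat.eq_of_beq_eq_true (List.all_eq_true.1 hfixb i (List.mem_range.2 i.2))))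
    have hne : D.a k2 ≠ 1 := fun e => hmove (by
      have h := D.packed.2 k2 (0 : Fin 378)
      rw [e] at h
      exact h.symm)
    have h3 : D.a k2 ^ 3 = 1 := by
      refine Subtype.ext (Equiv.ext fun i => Fin.ext ?_)
      have hp : ∀ j : Fin 378, (((D.a k2 : Equiv.Perm (Fin 378)) j : Fin 378) : ℕ) = pk (nth images 2 0) j :=
        fun j => D.packed.2 k2 j
      rw [SubmonoidClass.coe_pow, pow_succ, pow_two, Equiv.Perm.mul_apply, Equiv.Perm.mul_apply, hp, hp, hp]
      exact Nat.eq_of_beq_eq_true (List.all_eq_true.1 hcube i (List.mem_range.2 i.2))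
    have ho : orderOf (D.a k2) = 3 := orderOf_eq_prime h3 hne
    refine Nat.le_of_dvd Nat.card_pos ?_
    have h4 := orderOf_dvd_natCard (⟨D.a k2, h1⟩ : ↥θ.ker)
    rw [← orderOf_injective θ.ker.subtype θ.ker.subtype_injective ⟨D.a k2, h1⟩] at h4
    exact (dvd_of_eq ho.symm).trans h4
  have hprod := Subgroup.card_mul_index θ.ker
  rw [Subgroup.index_ker, D.card_range] at hprod
  have hk3 : Nat.card θ.ker = 3 := by
    have := Nat.mul_le_mul_left (Nat.card θ.ker) hrange
    omega
  rw [hk3] at hprod
  have hr : Nat.card θ.range = 6531840 := by omega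
  let θ' := θ.rangeRestrict
  let M : Subgroup ↥D.φ.range := A.comap θ
  have hMidx : M.index = 2 := by
    show (A.comap θ).index = 2
    rw [Subgroup.index_comap]
    have h := Subgroup.relIndex_mul_index hA
    have h2 := Subgroup.card_mul_index (A.subgroupOf θ.range)
    rw [Nat.card_congr (Subgroup.subgroupOfEquivOfLe hA).toEquiv, hAcard, hr] at h2
    show (A.subgroupOf θ.range).index = 2
    omega
  haveI hMn : M.Normal := Subgroup.normal_of_index_eq_two hMidx
  have hNM : θ.ker ≤ M := fun x hx => by
    show θ x ∈ A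
    rw [MonoidHom.mem_ker.1 hx]; exact one_mem _
  refine ⟨θ.ker, M, inferInstance, hMn, hNM, hk3, hMidx, K, inferInstance, inferInstance, hK, ?_⟩
  let χ : ↥M →* ↥A := (θ.comp M.subtype).codRestrict A fun x => x.2
  have hχs : Function.Surjective χ := by
    rintro ⟨y, hy⟩
    obtain ⟨x, rfl⟩ := hA hy
    exact ⟨⟨x, hy⟩, rfl⟩
  have hχk : χ.ker = θ.ker.subgroupOf M := by
    ext x
    rw [MonoidHom.mem_ker, Subgroup.mem_subgroupOf, MonoidHom.mem_ker, Subtype.ext_iff]
    rfl
  exact ⟨(QuotientGroup.quotientMulEquivOfEq hχk.symm).trans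
    ((QuotientGroup.quotientKerEquivOfSurjective χ hχs).trans
      ((MulEquiv.subgroupCongr (by rw [show A = S0.map ψ from rfl, hSfull])).trans
        (Subgroup.equivMapOfInjective ⊤ ψ hψinj).symm |>.trans Subgroup.topEquiv))⟩

theorem frames_length : frames.length = 1701 := by decide +kernel

/-- the package of the element of order three with six fixed points -/
theorem pkg : ∃ (T : Type) (_ : Group T), CentPkg 3 b T 6 ∧ HasSeries T := by
  obtain ⟨hmem, hcross, hC⟩ := centralizer_bound perm_ok fix_ok cls_ok (ncard_commute_le tree_ok) words_count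
  rw [frames_length] at hC
  obtain ⟨D⟩ := exists_actData perm_ok (by norm_num : Nat.Prime 3) (by decide) order_b act_ok chain_ok
    (by norm_num) (le_trans hC (by norm_num))
  refine ⟨↥D.φ.range, inferInstance, D.centPkg perm_ok (by norm_num) (by decide) order_b fix_ok
    (by decide +kernel) (MulEquiv.refl _) ?_, exists_model D⟩
  exact D.core_bot perm_ok fix_ok (fun k hk => List.contains_iff_mem.1 (List.all_eq_true.1 ker_sub k hk))
    (by rw [frames_length]; decide) hmem hcross (by rw [frames_length])

/-- the order of the monomial part of the centraliser -/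
theorem cross_card : Nat.card ↥(crossStab ⊓ Subgroup.centralizer ({b} : Set ↥Co0)) = 1080 * 64 := by
  obtain ⟨hmem, hcross, hC⟩ := centralizer_bound perm_ok fix_ok cls_ok (ncard_commute_le tree_ok) words_count
  rw [frames_length] at hC
  obtain ⟨D⟩ := exists_actData perm_ok (by norm_num : Nat.Prime 3) (by decide) order_b act_ok chain_ok
    (by norm_num) (le_trans hC (by norm_num))
  have h := card_le_frames _ _ hmem
  rw [frames_length, D.card_eq] at h
  rw [inf_comm]
  change _ ≤ _ at hcross
  show Nat.card ↥(Subgroup.centralizer ({permAut perm_ok} : Set ↥Co0) ⊓ crossStab) = _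
  omega

end CfsgLib.MonsterCent.ThreeSix
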