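import Cfsg.Agent.Lib.MonsterCent.Classes
import Cfsg.Agent.Lib.MonsterCent.PkgThreeFree
import Cfsg.Agent.Lib.MonsterCent.PkgThreeSix

/-!
Centrality in a Sylow three-subgroup of the joint centraliser, and the two kinds of elements of order
three in it.
-/

set_option autoImplicit false
set_option maxRecDepth 10000
set_option linter.style.haveILetI false

namespace CfsgLib.MonsterCent

open Cfsg CfsgLib.Leech CfsgLib.Monster

attribute [local irreducible] dL bL key keyL coord packB linL bits autOK

variable {G : Type*} [Group G] [Finite G]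

/-- A subgroup of order `p` is central in some Sylow subgroup exactly when the centraliser of its
generator contains a Sylow subgroup. -/
theorem central_in_sylow_iff {p k : ℕ} [Fact p.Prime] {z s : G} {Y : Subgroup G}
    (hY : Y ≤ Subgroup.centralizer ({z, s} : Set G)) {δ : G} (hδ : δ ∈ Y)
    (hgen : Y = Subgroup.zpowers δ) (hδp : orderOf δ = p)
    (hf : (Nat.card ↥(Subgroup.centralizer ({z, s} : Set G))).factorization p = k) :
    (∃ P : Sylow p ↥(Subgroup.centralizer ({z, s} : Set G)),
      Y.subgroupOf (Subgroup.centralizer ({z, s} : Set G)) ≤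
        (Subgroup.center ↥(P : Subgroup ↥(Subgroup.centralizer ({z, s} : Set G)))).map
          (P : Subgroup ↥(Subgroup.centralizer ({z, s} : Set G))).subtype) ↔
      p ^ k ∣ Nat.card ↥(CZ z ⊓ CZ s ⊓ CZ δ) := by
  set C := Subgroup.centralizer ({z, s} : Set G) with hC
  set δ' : ↥C := ⟨δ, hY hδ⟩
  set H := Subgroup.centralizer ({δ'} : Set ↥C) with hH
  have hcard : Nat.card ↥H = Nat.card ↥(CZ z ⊓ CZ s ⊓ CZ δ) := by
    rw [← Subgroup.card_map_of_injective (f := C.subtype) C.subtype_injective]
    congr 2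
    ext x
    rw [Subgroup.mem_inf, ← centralizer_pair_eq, mem_CZ]
    constructor
    · rintro ⟨y, hy, rfl⟩
      exact ⟨y.2, congrArg Subtype.val (Subgroup.mem_centralizer_singleton_iff.1 hy)⟩
    · rintro ⟨h1, h2⟩
      exact ⟨⟨x, h1⟩, Subgroup.mem_centralizer_singleton_iff.2 (Subtype.ext h2), rfl⟩
  rw [← hcard]
  constructor
  · rintro ⟨P, hP⟩
    have hle : (P : Subgroup ↥C) ≤ H := by
      intro x hx
      obtain ⟨d, hd, hde⟩ := hP (show δ' ∈ Y.subgroupOf C from hδ)
      refine Subgroup.mem_centralizer_singleton_iff.2 ?_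
      rw [← hde]
      exact congrArg Subtype.val (Subgroup.mem_center_iff.1 hd ⟨x, hx⟩)
    have h := Subgroup.card_dvd_of_le hle
    rwa [P.card_eq_multiplicity, hf] at h
  · intro hd
    obtain ⟨K, hK⟩ := Sylow.exists_subgroup_card_pow_prime (G := ↥H) p hd
    let P : Sylow p ↥C := Sylow.ofCard (K.map H.subtype) (by
      rw [Subgroup.card_map_of_injective H.subtype_injective, hK, hf])
    have hPH : (P : Subgroup ↥C) ≤ H := by
      rintro x ⟨y, -, rfl⟩
      exact y.2
    have hcomm : ∀ x ∈ (P : Subgroup ↥C), x * δ' = δ' * x := fun x hx =>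
      Subgroup.mem_centralizer_singleton_iff.1 (hPH hx)
    have hδn : δ' ∈ Subgroup.normalizer ((P : Subgroup ↥C) : Set ↥C) := by
      refine Subgroup.mem_normalizer_iff.2 fun x => ⟨fun hx => ?_, fun hx => ?_⟩
      · rw [← hcomm x hx, mul_inv_cancel_right]; exact hx
      · have h := hcomm _ hx
        rw [inv_mul_cancel_right] at h
        rw [mul_left_cancel h]
        exact hx
    have hδo : orderOf δ' = p := by rw [← hδp, ← orderOf_injective C.subtype C.subtype_injective δ']; rfl
    have hδP : δ' ∈ (P : Subgroup ↥C) := by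
      have hz : IsPGroup p (Subgroup.zpowers δ') := IsPGroup.of_card (n := 1) (by
        rw [Nat.card_zpowers, hδo, pow_one])
      have h := hz.inf_normalizer_sylow P
      exact (Subgroup.mem_inf.1 (h ▸ Subgroup.mem_inf.2 ⟨Subgroup.mem_zpowers δ', hδn⟩)).2
    refine ⟨P, fun y hy => ?_⟩
    have hy' : (y : G) ∈ Subgroup.zpowers δ := hgen ▸ hy
    obtain ⟨i, hi⟩ := Subgroup.mem_zpowers_iff.1 hy'
    have hyd : y = δ' ^ i := Subtype.ext (by rw [← hi]; rfl)
    subst hyd
    refine ⟨⟨δ' ^ i, zpow_mem hδP i⟩, Subgroup.mem_center_iff.2 fun x => Subtype.ext ?_, rfl⟩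
    exact ((show Commute (x : ↥C) δ' from hcomm x x.2).zpow_right i).eq

theorem six_eq : ThreeSix.perm = CfsgLib.Golay.Classes.threeSix := by decide +kernel

theorem free_eq : ThreeFree.perm = CfsgLib.Golay.Classes.threeFree := by decide +kernel

/-- An element of order three whose monomial centraliser has order not divisible by twenty-seven. -/
theorem class_free {g : ↥Co0} (hg : g ∈ crossStab) (hgo : orderOf g = 3)
    (h : ¬ 27 ∣ Nat.card ↥(crossStab ⊓ Subgroup.centralizer ({g} : Set ↥Co0))) :
    ∃ m ∈ crossStab, ∃ j : ℕ, Nat.Coprime 3 j ∧ m * g * m⁻¹ = ThreeFree.b ^ j := by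
  rcases cross_conj_three ThreeSix.perm_ok ThreeFree.perm_ok six_eq free_eq ThreeSix.order_b
    ThreeFree.order_b hg hgo with ⟨m, hm, he⟩ | ⟨m, hm, he⟩
  · exfalso
    refine h ?_
    rw [← card_cross_cent_conj hm, he, show permAut ThreeSix.perm_ok = ThreeSix.b from rfl,
      ThreeSix.cross_card]
    norm_num
  · exact ⟨m, hm, 1, by norm_num, by rw [pow_one]; exact he⟩

/-- An element of order three whose monomial centraliser has order divisible by twenty-seven. -/
theorem class_six {g : ↥Co0} (hg : g ∈ crossStab) (hgo : orderOf g = 3)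
    (h : 27 ∣ Nat.card ↥(crossStab ⊓ Subgroup.centralizer ({g} : Set ↥Co0))) :
    ∃ m ∈ crossStab, ∃ j : ℕ, Nat.Coprime 3 j ∧ m * g * m⁻¹ = ThreeSix.b ^ j := by
  rcases cross_conj_three ThreeSix.perm_ok ThreeFree.perm_ok six_eq free_eq ThreeSix.order_b
    ThreeFree.order_b hg hgo with ⟨m, hm, he⟩ | ⟨m, hm, he⟩
  · exact ⟨m, hm, 1, by norm_num, by rw [pow_one]; exact he⟩
  · exfalso
    rw [← card_cross_cent_conj hm, he, show permAut ThreeFree.perm_ok = ThreeFree.b from rfl,
      ThreeFree.cross_card] at h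
    norm_num at h

/-- A normal series of a quotient lifts. -/
theorem series_lift {C : Type*} [Group C] [Finite C] {T : Type} [Group T] {R : Subgroup C} [R.Normal]
    (ei : C ⧸ R ≃* T) (hT : ThreeSix.HasSeries T) :
    ∃ (N M : Subgroup C) (_ : N.Normal) (_ : M.Normal), R ≤ N ∧ N ≤ M ∧ Nat.card N = 3 * Nat.card R ∧
      (∃ (K : Type) (_ : Field K) (_ : Fintype K), Fintype.card K = 9 ∧
        Nonempty (↥M ⧸ N.subgroupOf M ≃* PSU 4 K 3)) ∧ M.index = 2 := by
  obtain ⟨N, M, hN, hM, hNM, hN3, hMi, K, iF, iK, hK, ⟨eq⟩⟩ := hT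
  haveI := hN
  haveI := hM
  let k : C →* T := ei.toMonoidHom.comp (QuotientGroup.mk' R)
  have hk : Function.Surjective k := ei.surjective.comp (QuotientGroup.mk'_surjective R)
  have hker : k.ker = R := by
    ext x
    rw [MonoidHom.mem_ker]
    exact ei.map_eq_one_iff.trans (QuotientGroup.eq_one_iff x)
  refine ⟨N.comap k, M.comap k, hN.comap k, hM.comap k, ?_, Subgroup.comap_mono hNM, ?_,
    ⟨K, iF, iK, hK, ?_⟩, ?_⟩
  · intro x hx
    rw [← hker] at hx
    rw [Subgroup.mem_comap, MonoidHom.mem_ker.1 hx]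
    exact one_mem _
  · have h1 := Subgroup.card_mul_index (N.comap k)
    have h2 := Subgroup.card_mul_index N
    have h3 := Subgroup.card_mul_index k.ker
    rw [Subgroup.index_comap_of_surjective N hk] at h1
    rw [Subgroup.index_ker, MonoidHom.range_eq_top.2 hk, Subgroup.card_top, hker] at h3
    rw [← h3, ← h2, hN3] at h1
    haveI : Finite T := Finite.of_surjective k hk
    refine Nat.eq_of_mul_eq_mul_right (Nat.pos_of_ne_zero (Subgroup.index_ne_zero_of_finite (H := N))) ?_
    rw [h1]; ring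
  · let χ : ↥(M.comap k) →* ↥M ⧸ N.subgroupOf M :=
      (QuotientGroup.mk' _).comp ((k.comp (M.comap k).subtype).codRestrict M fun x => x.2)
    have hχ : Function.Surjective χ := by
      refine (QuotientGroup.mk'_surjective _).comp ?_
      rintro ⟨y, hy⟩
      obtain ⟨x, rfl⟩ := hk y
      exact ⟨⟨x, hy⟩, rfl⟩
    have hχk : χ.ker = (N.comap k).subgroupOf (M.comap k) := by
      ext x
      exact (QuotientGroup.eq_one_iff _).trans Iff.rfl
    exact ⟨(QuotientGroup.quotientMulEquivOfEq hχk.symm).trans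
      ((QuotientGroup.quotientKerEquivOfSurjective χ hχ).trans eq)⟩
  · rw [Subgroup.index_comap_of_surjective M hk, hMi]

end CfsgLib.MonsterCent
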