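import Cfsg.Agent.Lib.MonsterCent.ChkFive
import Cfsg.Agent.Lib.MonsterCent.Pkg
import Cfsg.Prelude.Def_MonsterType

/-!
The centraliser of a permutation of order five: it is of order five times the wreath product of the
alternating group of degree five by two, up to sign.
-/

set_option autoImplicit false
set_option maxRecDepth 100000
set_option linter.style.haveILetI false

namespace CfsgLib.MonsterCent.Five

open Cfsg CfsgLib.Golay CfsgLib.Golay.SylowTwo CfsgLib.Leech CfsgLib.Leech.OutOne CfsgLib.Monster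
  CfsgLib.LeechIso CfsgLib.M24.PackChain CfsgLib.MonsterCent CfsgLib.CosetEnum

attribute [local irreducible] dL bL key keyL coord packB linL bits autOK

/-- the automorphism of the permutation -/
noncomputable def b : ↥Co0 := permAut perm_ok

theorem order_check : eqP (powP perm 5) idP = true ∧ eqP perm idP = false := by decide +kernel

theorem order_b : orderOf b = 5 := by
  haveI : Fact (Nat.Prime 5) := ⟨by norm_num⟩
  rw [b, orderOf_permAut, orderOf_of_powP perm_ok order_check.1 order_check.2]

theorem sets_ok : setsOK 75 10 sets images qim = true := by decide +kernel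

theorem qchain_ok : chainOK 10 7200 qim qprog qlev = true := by decide +kernel

/-- the even permutations on the left and on the right in the images of the generators -/
def leftOf (k : ℕ) : Equiv.Perm (Fin 5) :=
  if k = 0 then Equiv.swap 0 1 * Equiv.swap 0 2 else Equiv.swap 1 3 * Equiv.swap 1 4

/-- the even permutations on the right -/
def rightOf (k : ℕ) : Equiv.Perm (Fin 5) :=
  if k = 0 then Equiv.swap 0 4 * Equiv.swap 0 1 * (Equiv.swap 0 2 * Equiv.swap 0 3) else
    Equiv.swap 1 3 * Equiv.swap 1 4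

/-- the images of the generators -/
def imageOf (k : ℕ) : Equiv.Perm (Fin 5 ⊕ Fin 5) :=
  if k = 0 then Equiv.Perm.sumCongr (leftOf k) (rightOf k) * Equiv.sumComm (Fin 5) (Fin 5)
  else Equiv.Perm.sumCongr (leftOf k) (rightOf k)

theorem image_facts : qim.length = 2 ∧ ∀ k : Fin 2, Equiv.Perm.sign (leftOf k) = 1 ∧
    Equiv.Perm.sign (rightOf k) = 1 ∧ ∀ x : Fin 10,
      ((finSumFinEquiv (imageOf k (finSumFinEquiv.symm x)) : Fin (5 + 5)) : ℕ) = pk (nth qim k 0) x := by
  decide +kernel

theorem imageOf_mem (k : Fin 2) : imageOf k ∈ alternatingFiveWreathTwo := by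
  obtain ⟨hs, ht, -⟩ := image_facts.2 k
  have h1 : Equiv.Perm.sumCongr (leftOf k) (rightOf k) ∈ alternatingFiveWreathTwo :=
    Subgroup.subset_closure (Or.inl ⟨⟨_, Equiv.Perm.mem_alternatingGroup.2 hs⟩,
      ⟨_, Equiv.Perm.mem_alternatingGroup.2 ht⟩, rfl⟩)
  rw [imageOf]
  split
  · exact mul_mem h1 (Subgroup.subset_closure (Or.inr rfl))
  · exact h1

theorem card_wreath_le : Nat.card ↥alternatingFiveWreathTwo ≤ 7200 := by
  classical
  let c : Equiv.Perm (Fin 5 ⊕ Fin 5) := Equiv.sumComm (Fin 5) (Fin 5)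
  have hc2 : c * c = 1 := Equiv.ext fun x => by cases x <;> rfl
  have hswap : ∀ σ τ : Equiv.Perm (Fin 5), c * Equiv.Perm.sumCongr σ τ = Equiv.Perm.sumCongr τ σ * c :=
    fun σ τ => Equiv.ext fun x => by cases x <;> rfl
  let X : Set (Equiv.Perm (Fin 5 ⊕ Fin 5)) := Set.range fun u : alternatingGroup (Fin 5) × alternatingGroup (Fin 5) × Bool =>
    Equiv.Perm.sumCongr (u.1 : Equiv.Perm (Fin 5)) (u.2.1 : Equiv.Perm (Fin 5)) * if u.2.2 then c else 1
  have hmul : ∀ x ∈ X, ∀ y ∈ X, x * y ∈ X := by
    rintro _ ⟨⟨σ, τ, e⟩, rfl⟩ _ ⟨⟨σ', τ', e'⟩, rfl⟩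
    cases e
    · refine ⟨(σ * σ', τ * τ', e'), ?_⟩
      simp only [Subgroup.coe_mul, Bool.false_eq_true, if_false, mul_one, ← Equiv.Perm.sumCongr_mul,
        mul_assoc]
    · refine ⟨(σ * τ', τ * σ', !e'), ?_⟩
      simp only [Subgroup.coe_mul, if_true, ← Equiv.Perm.sumCongr_mul]
      rw [mul_assoc _ c, ← mul_assoc c, hswap, mul_assoc _ c, mul_assoc]
      cases e' <;> simp [hc2]
  have hsub : (alternatingFiveWreathTwo : Set (Equiv.Perm (Fin 5 ⊕ Fin 5))) ⊆ X := by
    intro x hx
    have hx' : x ∈ Submonoid.closure ({g | ∃ σ τ : alternatingGroup (Fin 5),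
        g = Equiv.Perm.sumCongr (σ : Equiv.Perm (Fin 5)) (τ : Equiv.Perm (Fin 5))} ∪
        {Equiv.sumComm (Fin 5) (Fin 5)}) := by
      rw [← Subgroup.closure_toSubmonoid_of_finite]; exact hx
    induction hx' using Submonoid.closure_induction with
    | mem y hy =>
      rcases hy with ⟨σ, τ, rfl⟩ | rfl
      · exact ⟨(σ, τ, false), by simp⟩
      · exact ⟨(1, 1, true), by simp [c]⟩
    | one => exact ⟨(1, 1, false), by simp⟩
    | mul a b _ _ ha hb => exact hmul a (ha (by
        rw [SetLike.mem_coe, alternatingFiveWreathTwo, ← Subgroup.mem_toSubmonoid,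
          Subgroup.closure_toSubmonoid_of_finite]; assumption)) b (hb (by
        rw [SetLike.mem_coe, alternatingFiveWreathTwo, ← Subgroup.mem_toSubmonoid,
          Subgroup.closure_toSubmonoid_of_finite]; assumption))
  rw [← SetLike.coe_sort_coe, Nat.card_coe_set_eq]
  refine le_trans (Set.ncard_le_ncard hsub (Set.toFinite _)) ?_
  refine le_trans (?_ : X.ncard ≤ (Set.univ : Set (alternatingGroup (Fin 5) × alternatingGroup (Fin 5) × Bool)).ncard) ?_
  · simp only [X, ← Set.image_univ]; exact Set.ncard_image_le (Set.toFinite _)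
  rw [Set.ncard_univ, Nat.card_prod, Nat.card_prod, nat_card_alternatingGroup, Nat.card_fin,
    Nat.card_eq_fintype_card (α := Bool), Fintype.card_bool]
  decide

theorem exists_model (D : ActData pts images 75 7200 5 gens.length b) :
    Nonempty (↥D.φ.range ≃* ↥alternatingFiveWreathTwo) := by
  obtain ⟨θ, hθ⟩ := exists_setHom D.packed D.gen sets_ok
  let ι : Equiv.Perm (Fin 10) ≃* Equiv.Perm (Fin 5 ⊕ Fin 5) := (finSumFinEquiv (m := 5) (n := 5)).symm.permCongrHom
  let Θ : ↥D.φ.range →* Equiv.Perm (Fin 5 ⊕ Fin 5) := ι.toMonoidHom.comp θ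
  have hle : Θ.range ≤ alternatingFiveWreathTwo := by
    rw [MonoidHom.range_eq_map, ← D.gen, MonoidHom.map_closure, Subgroup.closure_le]
    rintro _ ⟨_, ⟨k, rfl⟩, rfl⟩
    have hk : (k : ℕ) < 2 := by
      have h := hθ.1
      rw [image_facts.1] at h
      have := k.2
      omega
    suffices h : Θ (D.a k) = imageOf k from h ▸ imageOf_mem ⟨k, hk⟩
    refine Equiv.ext fun x => (finSumFinEquiv (m := 5) (n := 5)).injective (Fin.ext ?_)
    have h1 := (image_facts.2 ⟨k, hk⟩).2.2 (finSumFinEquiv x)
    rw [Equiv.symm_apply_apply] at h1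
    refine Eq.trans ?_ h1.symm
    show ((finSumFinEquiv (m := 5) (n := 5) ((finSumFinEquiv (m := 5) (n := 5)).symm
      (θ (D.a k) (finSumFinEquiv x))) : Fin (5 + 5)) : ℕ) = _
    rw [Equiv.apply_symm_apply]
    exact hθ.2 k _
  have hrange : 7200 ≤ Nat.card Θ.range := by
    have h2 : 7200 ≤ Nat.card θ.range := by
      have h3 := chain_le (φ := θ.range.subtype) (a := fun k => (⟨θ (D.a k), ⟨_, rfl⟩⟩ : ↥θ.range))
        ⟨hθ.1, hθ.2⟩ qchain_ok
      exact h3.trans (Subgroup.card_le_card_group _)
    refine h2.trans (le_of_eq ?_)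
    rw [show Θ.range = θ.range.map ι.toMonoidHom from (MonoidHom.map_range ι.toMonoidHom θ).symm,
      Subgroup.card_map_of_injective (f := ι.toMonoidHom) ι.injective]
  have hinj : Function.Injective Θ := injective_of_card Θ (by rw [D.card_range]; exact hrange)
  have heq : Θ.range = alternatingFiveWreathTwo :=
    Subgroup.eq_of_le_of_card_ge hle (card_wreath_le.trans hrange)
  exact ⟨(MonoidHom.ofInjective hinj).trans (MulEquiv.subgroupCongr heq)⟩

theorem frames_length : frames.length = 75 := by decide +kernel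

/-- the package of the element of order five -/
theorem pkg : CentPkg 5 b ↥alternatingFiveWreathTwo 4 := by
  obtain ⟨hmem, hcross, hC⟩ := centralizer_bound perm_ok fix_ok cls_ok (ncard_commute_le tree_ok) words_count
  rw [frames_length] at hC
  obtain ⟨D⟩ := exists_actData perm_ok (by norm_num : Nat.Prime 5) (by decide) order_b act_ok chain_ok
    (by norm_num) (le_trans hC (by norm_num))
  obtain ⟨Θ⟩ := exists_model D
  refine D.centPkg perm_ok (by norm_num) (by decide) order_b fix_ok (by decide +kernel) Θ ?_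
  exact D.core_bot perm_ok fix_ok (fun k hk => List.contains_iff_mem.1 (List.all_eq_true.1 ker_sub k hk))
    (by rw [frames_length]; decide) hmem hcross (by rw [frames_length])

end CfsgLib.MonsterCent.Five
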