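import Cfsg.Agent.Lib.MonsterCent.ChkSeven
import Cfsg.Agent.Lib.MonsterCent.Pkg
import Cfsg.Agent.Lib.Golay.Classes.Seven
import Cfsg.Agent.Lib.Classical.UThreeThree.Hom

/-!
The centraliser of a permutation of order seven: it is of order seven times the linear group of
dimension three over the field with two elements, up to sign.
-/

set_option autoImplicit false
set_option maxRecDepth 100000
set_option linter.style.haveILetI false

namespace CfsgLib.MonsterCent.Seven

open Cfsg CfsgLib.Golay CfsgLib.Golay.Classes.Seven CfsgLib.Leech CfsgLib.Leech.OutStab CfsgLib.Leech.OutOne CfsgLib.Monster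
  CfsgLib.LeechIso CfsgLib.M24.PackChain CfsgLib.MonsterCent CfsgLib.CosetEnum

attribute [local irreducible] dL bL key keyL coord packB linL bits autOK

/-- the automorphism of the permutation -/
noncomputable def b : ↥Co0 := permAut perm_ok

theorem perm_eq : perm = sevX := by decide +kernel

theorem order_b : orderOf b = 7 := by
  rw [b, orderOf_permAut, perm_eq, orderOf_sev]

theorem inverter_ok : autOK inverter = true ∧
    (mulC (inverter.map keyL) (monoTab perm 0) ==
      mulC (powC (monoTab perm 0) 6) (inverter.map keyL)) = true := by decide +kernel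

/-- the elements sending the automorphism to itself or to its inverse -/
noncomputable def extended : Subgroup ↥Co0 where
  carrier := {g | g * b * g⁻¹ = b ∨ g * b * g⁻¹ = b⁻¹}
  one_mem' := Or.inl (by simp)
  mul_mem' {g h} hg hh := by
    have e : g * h * b * (g * h)⁻¹ = g * (h * b * h⁻¹) * g⁻¹ := by group
    show g * h * b * (g * h)⁻¹ = b ∨ g * h * b * (g * h)⁻¹ = b⁻¹
    rcases hh with hh | hh <;> rcases hg with hg | hg <;> rw [e, hh]
    · exact Or.inl hg
    · exact Or.inr hg
    · refine Or.inr ?_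
      rw [show g * b⁻¹ * g⁻¹ = (g * b * g⁻¹)⁻¹ by group, hg]
    · refine Or.inl ?_
      rw [show g * b⁻¹ * g⁻¹ = (g * b * g⁻¹)⁻¹ by group, hg, inv_inv]
  inv_mem' {g} hg := by
    show g⁻¹ * b * g⁻¹⁻¹ = b ∨ g⁻¹ * b * g⁻¹⁻¹ = b⁻¹
    rcases hg with h | h
    · left
      conv_lhs => rw [← h]
      group
    · right
      rw [show g⁻¹ * b * g⁻¹⁻¹ = (g⁻¹ * b⁻¹ * g)⁻¹ by group]
      congr 1
      conv_lhs => rw [← h]
      group

theorem mem_extended {g : ↥Co0} : g ∈ extended ↔ g * b * g⁻¹ = b ∨ g * b * g⁻¹ = b⁻¹ := Iff.rfl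

/-- no monomial automorphism inverts the automorphism -/
theorem cross_not_invert {g : ↥Co0} (hg2 : g ∈ crossStab) : g * b * g⁻¹ ≠ b⁻¹ := by
  intro h
  obtain ⟨τ, d, hτ, hd, rfl⟩ := crossStab_eq_mono hg2
  have hσ : toPerm perm ∈ M24 := toPerm_mem_M24 perm_ok
  have h' : mono hτ hd * b = b⁻¹ * mono hτ hd := mul_inv_eq_iff_eq_mul.1 h
  obtain ⟨e1, he1, h1⟩ := mono_mul_perm hτ hd hσ empty_mem_CS
  obtain ⟨e0, he0, h0⟩ := inv_mono_perm hσ empty_mem_CS
  obtain ⟨e2, he2, h2⟩ := mono_mul_perm (inv_mem hσ) he0 hτ hd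
  rw [b, permAut, h1, h0, h2] at h'
  have hperm : toPerm perm * τ = τ * (toPerm perm)⁻¹ := perm_unique h'
  rw [perm_eq] at hperm
  have hk : τ * toPerm sevX = toPerm sevX ^ 6 * τ := by
    have e6 : toPerm sevX ^ 6 = (toPerm sevX)⁻¹ := eq_inv_of_mul_eq_one_left (by
      rw [← pow_succ, show 6 + 1 = 7 from rfl, ← orderOf_sev, pow_orderOf_eq_one])
    rw [e6, eq_inv_mul_iff_mul_eq, ← mul_assoc, hperm, inv_mul_cancel_right]
  obtain ⟨k, hk', hkk⟩ := (norm_iff hτ).2 ⟨6, by norm_num, hk⟩
  rw [hk, mul_left_inj] at hkk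
  simp only [List.mem_cons, List.not_mem_nil, or_false] at hk'
  have := pow_injOn_Iio_orderOf (x := toPerm sevX) (by rw [Set.mem_Iio, orderOf_sev]; norm_num)
    (by rw [Set.mem_Iio, orderOf_sev]; omega) hkk
  omega

theorem bound : Nat.card ↥(Subgroup.centralizer ({b} : Set ↥Co0)) ≤ 168 * (2 * 7) := by
  haveI := finite_Co0
  set C := Subgroup.centralizer ({b} : Set ↥Co0)
  have hb7 : b ^ 7 = 1 := by rw [← order_b, pow_orderOf_eq_one]
  -- an element inverting
  obtain ⟨haut, htab⟩ := inverter_ok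
  set t := (linIso haut).aut
  have ht : t * b * t⁻¹ = b⁻¹ := by
    have hrt : Rep0 t (inverter.map keyL) := fun k hk => act_lin haut hk
    have h1 := hrt.mul (rep_permAut perm_ok)
    have h2 := ((rep_permAut perm_ok).pow 6).mul hrt
    rw [beq_iff_eq.1 htab] at h1
    have h3 : pr (t * b) = pr (b ^ 6 * t) := pr_eq_of_rep h1 h2
    refine eq_of_center_of_odd (p := 7) (by decide) ?_ ?_ ?_
    · rw [conj_pow, hb7, mul_one, mul_inv_cancel]
    · rw [inv_pow, hb7, inv_one]
    · refine QuotientGroup.eq.1 ?_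
      show pr (t * b * t⁻¹) = pr b⁻¹
      rw [map_mul _ (t * b), h3, ← map_mul, mul_inv_cancel_right,
        show b ^ 6 = b⁻¹ from eq_inv_of_mul_eq_one_left (by rw [← pow_succ, hb7])]
  have hlt : C ≤ extended := fun g hg => Or.inl (by
    rw [Subgroup.mem_centralizer_singleton_iff.1 hg, mul_inv_cancel_right])
  have htC : t ∉ C := fun h => by
    have e : b = b⁻¹ := by
      rw [← ht, Subgroup.mem_centralizer_singleton_iff.1 h, mul_inv_cancel_right]
    have h2 : b ^ 2 = 1 := by rw [pow_two]; nth_rw 1 [e]; exact inv_mul_cancel b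
    have := orderOf_dvd_of_pow_eq_one h2
    rw [order_b] at this
    norm_num at this
  have h2C : 2 * Nat.card C ≤ Nat.card extended := by
    obtain ⟨m, hm⟩ := Subgroup.card_dvd_of_le hlt
    rw [hm, mul_comm 2]
    refine Nat.mul_le_mul_left _ ?_
    by_contra hlt2
    have hpos : 0 < m := Nat.pos_of_ne_zero fun h0 => by
      rw [h0, mul_zero] at hm; exact Nat.card_pos.ne' hm
    have : m = 1 := by omega
    rw [this, mul_one] at hm
    exact htC ((Subgroup.eq_of_le_of_card_ge hlt hm.le).symm ▸ (mem_extended.2 (Or.inr ht)))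
  -- the stabiliser of the frame
  have hcross : extended ⊓ crossStab ≤ C ⊓ crossStab := by
    rintro g hg
    obtain ⟨hg1, hg2⟩ := Subgroup.mem_inf.1 hg
    refine Subgroup.mem_inf.2 ⟨?_, hg2⟩
    rcases hg1 with h | h
    · exact Subgroup.mem_centralizer_singleton_iff.2 (mul_inv_eq_iff_eq_mul.1 h)
    · exact absurd h (cross_not_invert hg2)
  have hmem : ∀ g ∈ extended, act g (mainK 3) ∈ frames := by
    intro g hg
    refine frame_mem perm_ok fix_ok cls_ok ?_
    have hb8 : IsDbl (b • v8 - v8) := mem_crossStab_iff_dbl.1 (permAut_cross perm_ok)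
    have hbi : IsDbl (b⁻¹ • v8 - v8) := mem_crossStab_iff_dbl.1 (inv_mem (permAut_cross perm_ok))
    show IsDbl (b • g • v8 - g • v8)
    rcases hg with h | h
    · rw [← mul_smul, show b * g = g * b from (mul_inv_eq_iff_eq_mul.1 h).symm, mul_smul, ← smul_sub']
      exact hb8.smul g
    · have e : b * g = g * b⁻¹ := by
        have h' : g * b⁻¹ * g⁻¹ = b := by
          rw [show g * b⁻¹ * g⁻¹ = (g * b * g⁻¹)⁻¹ by group, h, inv_inv]
        exact (mul_inv_eq_iff_eq_mul.1 h').symm
      rw [← mul_smul, e, mul_smul, ← smul_sub']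
      exact hbi.smul g
  have hN : {g : Equiv.Perm GolayPt | g ∈ M24 ∧ g * toPerm perm = toPerm perm * g}.ncard ≤ 42 := by
    rw [perm_eq, cent_card]
  have hC := card_cross_le perm_ok hN
  rw [words_count] at hC
  have h1 := card_le_frames extended frames hmem
  have h2 : Nat.card ↥(extended ⊓ crossStab) ≤ 42 * 8 := le_trans (Subgroup.card_le_of_le hcross) hC
  have h3 : frames.length = 14 := by decide +kernel
  rw [h3] at h1
  have := Nat.mul_le_mul_left 14 h2
  omega

/-- coordinates as vectors -/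
def vecOfBits (c : ℕ) : Fin 3 → ZMod 2 := fun j => if c.testBit j then 1 else 0

/-- a matrix of the listed entries -/
def matOf (m : List (List ℕ)) : Matrix (Fin 3) (Fin 3) (ZMod 2) :=
  fun i j => ((m.getD i []).getD j 0 : ℕ)

/-- the points as vectors -/
def pointVec (i : Fin 7) : Fin 3 → ZMod 2 := vecOfBits (coords.getD i 0)

theorem model_checks : mats.length = gens.length ∧ images.length = gens.length ∧
    (∀ k : Fin gens.length, (matOf (mats.getD k [])).det = 1) ∧
    (∀ (k : Fin gens.length) (i : Fin 7), ∃ j : Fin 7,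
      (Matrix.mulVec (matOf (mats.getD k [])) (pointVec i) = pointVec j) ∧
        (j : ℕ) = pk (nth images k 0) i) ∧
    (∀ i j : Fin 7, pointVec i = pointVec j → i = j) ∧
    (∀ v : Fin 3 → ZMod 2, v ≠ 0 → ∃ i, pointVec i = v) ∧ (∀ i, pointVec i ≠ 0) := by
  decide +kernel

open Matrix in
theorem exists_model (D : ActData pts images 7 168 7 gens.length b) :
    Nonempty (↥D.φ.range ≃* Matrix.SpecialLinearGroup (Fin 3) (ZMod 2)) := by
  obtain ⟨hml, -, hdet, himg, hinj, hsurj, hne⟩ := model_checks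
  let SL := Matrix.SpecialLinearGroup (Fin 3) (ZMod 2)
  haveI : Finite SL := inferInstance
  have hnz : ∀ (g : SL) (i : Fin 7), (g : Matrix (Fin 3) (Fin 3) (ZMod 2)) *ᵥ pointVec i ≠ 0 := by
    intro g i h
    apply hne i
    have h2 := congrArg (fun v => ((g⁻¹ : SL) : Matrix (Fin 3) (Fin 3) (ZMod 2)) *ᵥ v) h
    simp only [mulVec_mulVec, mulVec_zero, ← Matrix.SpecialLinearGroup.coe_mul, inv_mul_cancel,
      Matrix.SpecialLinearGroup.coe_one, one_mulVec] at h2
    exact h2
  obtain ⟨μ, hμ⟩ := CfsgLib.Schur.exists_familyHom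
    (fun (g : SL) v => (g : Matrix (Fin 3) (Fin 3) (ZMod 2)) *ᵥ v) pointVec (fun i j h => hinj i j h)
    (fun i => by simp) (fun g h i => by
      show ((g : Matrix (Fin 3) (Fin 3) (ZMod 2)) * (h : Matrix (Fin 3) (Fin 3) (ZMod 2))) *ᵥ pointVec i = _
      rw [mulVec_mulVec]) (S := Set.univ)
    (by simp) (fun g _ i => by obtain ⟨j, hj⟩ := hsurj _ (hnz g i); exact ⟨j, hj.symm⟩)
  have hμinj : Function.Injective μ := by
    refine (injective_iff_map_eq_one μ).2 fun g hg => ?_
    refine Subtype.ext (Matrix.ext_iff_mulVec.2 fun v => ?_)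
    rw [Matrix.SpecialLinearGroup.coe_one, one_mulVec]
    by_cases hv : v = 0
    · rw [hv, mulVec_zero]
    · obtain ⟨i, rfl⟩ := hsurj v hv
      have := hμ g i
      rw [hg] at this
      exact this.symm
  have hle : D.φ.range ≤ μ.range := by
    have h : (⊤ : Subgroup ↥D.φ.range).map D.φ.range.subtype ≤ μ.range := by
      rw [← D.gen, MonoidHom.map_closure, Subgroup.closure_le]
      rintro _ ⟨_, ⟨k, rfl⟩, rfl⟩
      refine ⟨⟨matOf (mats.getD k []), hdet k⟩, Equiv.ext fun i => Fin.ext ?_⟩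
      obtain ⟨j, hj, hjk⟩ := himg k i
      have h1 : pointVec (μ ⟨matOf (mats.getD k []), hdet k⟩ i) = pointVec j := (hμ _ i).trans hj
      rw [hinj _ _ h1, hjk]
      exact (D.packed.2 k i).symm
    rwa [← MonoidHom.range_eq_map, Subgroup.range_subtype] at h
  have hcard : Nat.card μ.range = 168 := by
    rw [← Nat.card_congr (MonoidHom.ofInjective hμinj).toEquiv,
      (CfsgLib.UThreeThree.isSimpleGroup_SL32).2]
  have heq : D.φ.range = μ.range := Subgroup.eq_of_le_of_card_ge hle (by rw [hcard, D.card_range])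
  exact ⟨(MulEquiv.subgroupCongr heq).trans (MonoidHom.ofInjective hμinj).symm⟩

/-- the package of the element of order seven -/
theorem pkg : CentPkg 7 b (Matrix.SpecialLinearGroup (Fin 3) (ZMod 2)) 3 := by
  haveI : Fact (Nat.Prime 2) := ⟨Nat.prime_two⟩
  obtain ⟨D⟩ := exists_actData perm_ok (by norm_num : Nat.Prime 7) (by decide) order_b act_ok chain_ok
    (by norm_num) bound
  obtain ⟨Θ⟩ := exists_model D
  refine D.centPkg perm_ok (by norm_num) (by decide) order_b fix_ok (by decide +kernel) Θ ?_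
  haveI := (CfsgLib.UThreeThree.isSimpleGroup_SL32).1
  haveI : IsSimpleGroup ↥D.φ.range := Θ.isSimpleGroup
  haveI := Fitting.pCore_normal (G := ↥D.φ.range) 2
  refine (Subgroup.Normal.eq_bot_or_eq_top inferInstance).resolve_right fun h => ?_
  obtain ⟨m, hm⟩ := IsPGroup.iff_card.1 (Fitting.pCore_isPGroup (G := ↥D.φ.range) (p := 2))
  rw [h, Subgroup.card_top, D.card_range] at hm
  rcases lt_or_ge m 8 with h8 | h8
  · interval_cases m <;> omega
  · have := Nat.pow_le_pow_right (show 1 ≤ 2 by norm_num) h8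
    omega

end CfsgLib.MonsterCent.Seven
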