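import Cfsg.Agent.Lib.MonsterCent.LocalSeven
import Cfsg.Agent.Lib.Layer.FStar
import Cfsg.Agent.Lib.Layer.FrattiniQuot

/-!
The central involution lies in the layer of the centraliser of an element of order seven.
-/

set_option autoImplicit false
set_option maxRecDepth 100000
set_option linter.style.haveILetI false

namespace CfsgLib.MonsterCent.Seven

open Cfsg CfsgLib.Golay CfsgLib.Leech CfsgLib.Monster CfsgLib.MonsterCent

attribute [local irreducible] dL bL key keyL coord packB linL bits autOK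

theorem ker_checks : ker.all (fun k => frames.contains k) = true := by decide +kernel

variable {G : Type*} [Group G] [Finite G]
variable {z : G} {Q : Subgroup (CZ z)} [Q.Normal] {e : (CZ z) ⧸ Q ≃* Spor.Co1}
  {ψ : ↥leechLattice → Q ⧸ Subgroup.center Q}

/-- an element of `Q` which is also a power of the element of order seven is trivial -/
theorem QG_inf_zpowers (S : Setup z Q e ψ) {β x : G} (hβ : orderOf β = 7) (hx : x ∈ QG Q)
    (hx' : x ∈ Subgroup.zpowers β) : x = 1 := by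
  have h1 : orderOf x ∣ 7 := hβ ▸ orderOf_dvd_of_mem_zpowers hx'
  have h2 : orderOf x ∣ 2 ^ 25 := by
    rw [← S.card_QG, ← Subgroup.orderOf_mk (a := x) hx]
    exact orderOf_dvd_natCard _
  exact orderOf_eq_one_iff.1 (Nat.eq_one_of_dvd_coprimes
    ((by norm_num : Nat.Coprime 2 7).pow_left 25) h2 h1)

/-- an element of `Q` commuting with all of the fixed part -/
theorem fixed_center (S : Setup z Q e ψ) {β x : G} (hβ : orderOf β = 7) (hov : Over e β b)
    (hx : x ∈ QG Q) (hxβ : x * β = β * x)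
    (hall : ∀ y ∈ QG Q, y * β = β * y → x * y = y * x) : x = 1 ∨ x = z := by
  have hodd : Odd 7 := by decide
  have hβ7 : β ^ 7 = 1 := by rw [← hβ, pow_orderOf_eq_one]
  obtain ⟨v, hv⟩ := S.rep_exists hx
  refine (S.rep_zero_iff hv).1 ?_
  by_contra hnd
  obtain ⟨u, hu, hbil⟩ := S.exists_fixCls_bil hodd (by rw [← order_b, pow_orderOf_eq_one])
    ((S.commute_iff_fixCls hodd hβ7 hov hv).1 hxβ) hnd
  obtain ⟨y, hy⟩ := S.exists_rep u
  have h := hall y hy.mem ((S.commute_iff_fixCls hodd hβ7 hov hy).2 hu)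
  rw [(S.comm_eq hv hy).1.1 h] at hbil
  exact absurd hbil (by decide)

/-- what centralises the fixed part of `Q` -/
theorem cent_fixed (S : Setup z Q e ψ) {β h : G} (hβ : orderOf β = 7) (hov : Over e β b)
    (hz : h * z = z * h) (hc : h * β = β * h)
    (hall : ∀ x ∈ QG Q, x * β = β * x → h * x = x * h) :
    h ∈ Subgroup.zpowers β ∨ z * h ∈ Subgroup.zpowers β := by
  have hodd : Odd 7 := by decide
  have hb7 : b ^ 7 = 1 := by rw [← order_b, pow_orderOf_eq_one]
  have hβ7 : β ^ 7 = 1 := by rw [← hβ, pow_orderOf_eq_one]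
  obtain ⟨g, hg⟩ := exists_over (e := e) (mem_CZ.2 hz)
  obtain ⟨i, hi⟩ := pkg.faith g (S.comm_lift hodd hb7 hov hg hc) fun v hv => by
    obtain ⟨x, hx⟩ := S.exists_rep v
    refine S.stab_of_comm hg hx ?_
    exact hall x hx.mem ((S.commute_iff_fixCls hodd hβ7 hov hx).2 hv)
  set q := (β ^ i)⁻¹ * h with hq
  have hqQ : q ∈ QG Q := ((hov.pow i).inv.mul hg).mem_QG_iff.2 hi
  have hqβ : q * β = β * q :=
    ((Commute.pow_left (Commute.refl β) i).inv_left.mul_left (show Commute h β from hc)).eq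
  have hh : h = β ^ i * q := by rw [hq, mul_inv_cancel_left]
  rcases fixed_center S hβ hov hqQ hqβ fun y hy hyβ =>
    (((show Commute y β from hyβ).symm.pow_left i).inv_left.mul_left
      (show Commute h y from hall y hy hyβ)).eq with h1 | h1
  · exact Or.inl (by rw [hh, h1, mul_one]; exact pow_mem (Subgroup.mem_zpowers β) i)
  · refine Or.inr ?_
    rw [hh, h1, show z * (β ^ i * z) = β ^ i * (z * z) by
      rw [← mul_assoc, ((show Commute z β from (mem_CZ.1 hov.mem_CZ).symm).pow_right i).eq, mul_assoc],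
      S.z_mul_z, mul_one]
    exact pow_mem (Subgroup.mem_zpowers β) i

/-- the fixed part of `Q` lies in a subgroup containing its conjugates of the central involution -/
theorem fixed_le (S : Setup z Q e ψ) {β : G} (hβ : orderOf β = 7) (hov : Over e β b) {W : Subgroup G}
    (hz : z ∈ W) (hconj : ∀ x ∈ QG Q, x * β = β * x → IsConj z x → x ≠ z → x ∈ W)
    {x : G} (hx : x ∈ QG Q) (hxβ : x * β = β * x) : x ∈ W := by
  have hodd : Odd 7 := by decide
  have hβ7 : β ^ 7 = 1 := by rw [← hβ, pow_orderOf_eq_one]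
  obtain ⟨hlen, -, hvl, hall⟩ := frame_vec_checks
  rw [List.all_eq_true] at hall
  have hker := ker_checks
  rw [List.all_eq_true] at hker
  have hmk : ∀ k ∈ ker, ∃ v ∈ S.classes W, key ((v : ↥leechLattice) : GolayPt → ℤ) = k := by
    intro k hk
    have hk' := hker k hk
    rw [List.contains_eq_mem, decide_eq_true_eq] at hk'
    obtain ⟨i, hi, rfl⟩ := List.getElem_of_mem hk'
    have hi' : i < frameVecs.length := by omega
    have h := hall (frames[i], frameVecs[i]) (by
      rw [List.mem_iff_getElem]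
      exact ⟨i, by rw [List.length_zip]; omega, List.getElem_zip⟩)
    simp only [Bool.and_eq_true, beq_iff_eq] at h
    obtain ⟨⟨⟨h1, h2⟩, h3⟩, h4⟩ := h
    have hkey : key (vec frameVecs[i]) = frames[i] := by rw [keyL_eq (inL_length h1), h3]
    obtain ⟨y, hy⟩ := S.exists_rep ⟨_, vec_mem h1⟩
    have hyβ : y * β = β * y := (S.commute_iff_fixCls hodd hβ7 hov hy).2 ((fixCls_iff_act _ _).2 (by
      show act b (key (vec frameVecs[i])) = key (vec frameVecs[i])
      rw [hkey]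
      refine Eq.trans ?_ h4
      refine rep_permAut perm_ok _ ?_
      rw [← hkey]
      exact key_lt _))
    obtain ⟨hc, hne⟩ := S.conj_of_64 (by rw [sqNorm_vec (inL_length h1)]; exact h2) hy
    exact ⟨_, ⟨y, hconj y hy.mem hyβ hc hne, hy⟩, hkey⟩
  have hcomb : ∀ l : List ℕ, (∀ k ∈ l, k ∈ ker) → ∀ m, ∃ v ∈ S.classes W,
      key ((v : ↥leechLattice) : GolayPt → ℤ) = comb l m := by
    intro l
    induction l with
    | nil => exact fun _ m => ⟨0, zero_mem _, by simp [comb, key_zero]⟩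
    | cons k l ih =>
      intro hl m
      obtain ⟨v, hv, hvk⟩ := ih (fun a ha => hl a (List.mem_cons_of_mem _ ha)) (m / 2)
      obtain ⟨u, hu, huk⟩ := hmk k (hl k List.mem_cons_self)
      rw [comb]
      by_cases hm : m % 2 = 1
      · refine ⟨u + v, add_mem hu hv, ?_⟩
        rw [AddSubgroup.coe_add, key_add u.2 v.2, huk, hvk]
        simp [hm, Nat.xor_comm]
      · exact ⟨v, hv, by rw [hvk]; simp [hm]⟩
  obtain ⟨v, hv⟩ := S.rep_exists hx
  obtain ⟨m, -, hm⟩ := (fix_iff perm_ok fix_ok v).1 ((S.commute_iff_fixCls hodd hβ7 hov hv).1 hxβ)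
  obtain ⟨w, ⟨y, hyW, hy⟩, hwk⟩ := hcomb ker (fun _ h => h) m
  rcases S.rep_coset (S.rep_congr hy ((isDbl_sub_iff _ _).2 (hm.trans hwk.symm))) hv with h | h
  · exact h ▸ hyW
  · exact h ▸ mul_mem hyW hz

/-- the data of the centraliser -/
structure CentData (S : Setup z Q e ψ) (B : Subgroup G) (β s : G) : Prop where
  ord : orderOf β = 7
  ov : Over e β b
  gen : B = Subgroup.zpowers β
  inQ : s ∈ QG Q
  conj : IsConj z s
  ne : s ≠ z
  comm : s * β = β * s
  fuse : ∃ g : G, g * β = β * g ∧ g * z * g⁻¹ = z * s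

variable {S : Setup z Q e ψ} {B : Subgroup G} {β s : G}

theorem CentData.mem_iff (D : CentData S B β s) {x : G} :
    x ∈ Subgroup.centralizer (B : Set G) ↔ x * β = β * x := by
  rw [Subgroup.mem_centralizer_iff]
  refine ⟨fun h => (h β (D.gen ▸ Subgroup.mem_zpowers β)).symm, fun h y hy => ?_⟩
  rw [SetLike.mem_coe, D.gen] at hy
  obtain ⟨n, rfl⟩ := Subgroup.mem_zpowers_iff.1 hy
  exact ((Commute.zpow_right (show Commute x β from h) n).eq).symm

theorem CentData.zβ (D : CentData S B β s) : z * β = β * z := (mem_CZ.1 D.ov.mem_CZ).symm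

theorem CentData.z_not_mem (D : CentData S B β s) : z ∉ B := fun h =>
  S.z_ne_one (QG_inf_zpowers S D.ord S.z_mem (D.gen ▸ h))

/-- a normal subgroup of the centraliser avoiding `z` meets its centraliser in the element -/
theorem CentData.meet (D : CentData S B β s) {N : Subgroup G}
    (hle : N ≤ Subgroup.centralizer (B : Set G))
    (hnorm : ∀ c ∈ Subgroup.centralizer (B : Set G), ∀ n ∈ N, c * n * c⁻¹ ∈ N) (hz : z ∉ N)
    {n : G} (hn : n ∈ N) (hnz : n * z = z * n) : n ∈ B := by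
  have hnβ := D.mem_iff.1 (hle hn)
  have hcomm : ∀ x ∈ QG Q, x * β = β * x → n * x = x * n := by
    intro x hx hxβ
    have hdN : n * x * n⁻¹ * x⁻¹ ∈ N := by
      rw [show n * x * n⁻¹ * x⁻¹ = n * (x * n⁻¹ * x⁻¹) by group]
      exact mul_mem hn (hnorm x (D.mem_iff.2 hxβ) _ (inv_mem hn))
    have hdQ : n * x * n⁻¹ * x⁻¹ ∈ QG Q :=
      mul_mem (QG_normalized (mem_CZ.2 hnz) hx) (inv_mem hx)
    set d := n * x * n⁻¹ * x⁻¹ with hd
    have hdβ : d * β = β * d := D.mem_iff.1 (hle hdN)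
    have key : ∀ y ∈ QG Q, y * β = β * y → d * y = y * d := by
      intro y hy hyβ
      obtain ⟨v, hv⟩ := S.rep_exists hdQ
      obtain ⟨w, hw⟩ := S.rep_exists hy
      by_cases h0 : bil v w = 0
      · exact (S.comm_eq hv hw).1.2 h0
      · have h1 := (S.comm_eq hv hw).2 (Fin.eq_one_of_ne_zero _ h0)
        refine absurd ?_ hz
        have h3 : z = d⁻¹ * (y⁻¹ * d * y⁻¹⁻¹) := by
          rw [inv_inv, mul_assoc y⁻¹, h1]; group
        rw [h3]
        exact mul_mem (inv_mem hdN) (hnorm _ (D.mem_iff.2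
          ((show Commute y β from hyβ).inv_left).eq) d hdN)
    rcases fixed_center S D.ord D.ov hdQ hdβ key with h | h
    · exact mul_inv_eq_iff_eq_mul.1 (mul_inv_eq_one.1 h)
    · exact absurd (h ▸ hdN) hz
  rcases cent_fixed S D.ord D.ov hnz hnβ hcomm with h | h
  · exact D.gen ▸ h
  · refine absurd ?_ hz
    have h7 : (z * n) ^ 7 = 1 := by
      have h1 := orderOf_dvd_of_mem_zpowers h
      rw [D.ord] at h1
      exact orderOf_dvd_iff_pow_eq_one.1 h1
    rw [(show Commute z n from hnz.symm).mul_pow, show z ^ 7 = z by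
      rw [show (7 : ℕ) = 2 * 3 + 1 from rfl, pow_succ, pow_mul, pow_two, S.z_mul_z, one_pow,
        one_mul]] at h7
    rw [eq_inv_of_mul_eq_one_left h7]
    exact inv_mem (pow_mem hn 7)

/-- the image of a normal subgroup avoiding `z` in the quotient is inverted by the image of `z` -/
theorem CentData.inverted (D : CentData S B β s)
    [hn : (B.subgroupOf (Subgroup.centralizer (B : Set G))).Normal]
    (hzC : z ∈ Subgroup.centralizer (B : Set G)) (N : Subgroup ↥(Subgroup.centralizer (B : Set G)))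
    [N.Normal] (hz : (⟨z, hzC⟩ : ↥(Subgroup.centralizer (B : Set G))) ∉ N) :
    ∀ k ∈ N.map (QuotientGroup.mk' (B.subgroupOf (Subgroup.centralizer (B : Set G)))),
      (∀ l ∈ N.map (QuotientGroup.mk' (B.subgroupOf (Subgroup.centralizer (B : Set G)))),
        k * l = l * k) ∧
      QuotientGroup.mk ⟨z, hzC⟩ * k * QuotientGroup.mk ⟨z, hzC⟩ = k⁻¹ ∧ Odd (orderOf k) := by
  set π := QuotientGroup.mk' (B.subgroupOf (Subgroup.centralizer (B : Set G)))
  set K := N.map π
  haveI : K.Normal := Subgroup.Normal.map inferInstance π (QuotientGroup.mk'_surjective _)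
  set zb : ↥(Subgroup.centralizer (B : Set G)) ⧸ B.subgroupOf (Subgroup.centralizer (B : Set G)) := QuotientGroup.mk ⟨z, hzC⟩
  have hzb : zb * zb = 1 := by
    rw [← QuotientGroup.mk_mul, show (⟨z, hzC⟩ : ↥(Subgroup.centralizer (B : Set G))) * ⟨z, hzC⟩ = 1 from Subtype.ext S.z_mul_z,
      QuotientGroup.mk_one]
  have hzi : zb⁻¹ = zb := inv_eq_of_mul_eq_one_right hzb
  let φ : ↥K →* ↥K := (MulAut.conjNormal (H := K) zb).toMonoidHom
  have hφ : ∀ k : ↥K, ((φ k : ↥K) : ↥(Subgroup.centralizer (B : Set G)) ⧸ B.subgroupOf (Subgroup.centralizer (B : Set G))) = zb * k * zb := fun k => by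
    show ((MulAut.conjNormal zb k : ↥K) : ↥(Subgroup.centralizer (B : Set G)) ⧸ B.subgroupOf (Subgroup.centralizer (B : Set G))) = _
    rw [MulAut.conjNormal_apply, hzi]
  have hinv : Function.Involutive φ := fun k => Subtype.ext (by
    rw [hφ, hφ, show zb * (zb * (k : ↥(Subgroup.centralizer (B : Set G)) ⧸ B.subgroupOf (Subgroup.centralizer (B : Set G))) * zb) * zb =
      (zb * zb) * k * (zb * zb) by group, hzb, one_mul, mul_one])
  have hfree : MonoidHom.FixedPointFree φ := by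
    intro k hk
    have h1 : zb * (k : ↥(Subgroup.centralizer (B : Set G)) ⧸ B.subgroupOf (Subgroup.centralizer (B : Set G))) * zb = k := by rw [← hφ, hk]
    obtain ⟨n, hnN, hnk⟩ := k.2
    refine Subtype.ext ?_
    rw [← hnk] at h1 ⊢
    change zb * QuotientGroup.mk n * zb = QuotientGroup.mk n at h1
    rw [← QuotientGroup.mk_mul, ← QuotientGroup.mk_mul] at h1
    have hmem := QuotientGroup.eq.1 h1
    rw [Subgroup.mem_subgroupOf] at hmem
    simp only [Subgroup.coe_mul, Subgroup.coe_inv, mul_inv_rev] at hmem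
    set c : G := z⁻¹ * ((n : G)⁻¹ * z⁻¹) * (n : G) with hc
    have hzi' : z⁻¹ = z := inv_eq_of_mul_eq_one_right S.z_mul_z
    have hcz : Commute c z := by
      have h2 := hmem
      rw [D.gen] at h2
      obtain ⟨i, hi⟩ := Subgroup.mem_zpowers_iff.1 h2
      rw [← hi]
      exact (show Commute β z from D.zβ.symm).zpow_left i
    have hnzn : (n : G)⁻¹ * z * n = z * c := by
      rw [hc, ← mul_assoc z, ← mul_assoc z, mul_inv_cancel, one_mul, hzi']
    have hc2 : c * c = 1 := by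
      have h2 : z * c * (z * c) = 1 := by
        rw [← hnzn, show (n : G)⁻¹ * z * n * ((n : G)⁻¹ * z * n) = (n : G)⁻¹ * (z * z) * n by group,
          S.z_mul_z, mul_one, inv_mul_cancel]
      rwa [show z * c * (z * c) = z * (c * z) * c by group, hcz.eq,
        show z * (z * c) * c = (z * z) * (c * c) by group, S.z_mul_z, one_mul] at h2
    have hc1 : c = 1 := by
      have h1 := orderOf_dvd_of_mem_zpowers (D.gen ▸ hmem : c ∈ Subgroup.zpowers β)
      rw [D.ord] at h1
      exact orderOf_eq_one_iff.1 (Nat.eq_one_of_dvd_coprimes (by norm_num : Nat.Coprime 2 7)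
        (orderOf_dvd_of_pow_eq_one (by rw [pow_two, hc2])) h1)
    rw [hc1, mul_one, mul_assoc, inv_mul_eq_iff_eq_mul] at hnzn
    refine (QuotientGroup.eq_one_iff n).2 (Subgroup.mem_subgroupOf.2 ?_)
    exact D.meet (N := N.map (Subgroup.centralizer (B : Set G)).subtype) (Subgroup.map_subtype_le N)
      (fun c hc m hm => by
        obtain ⟨m', hm', rfl⟩ := hm
        exact ⟨⟨c, hc⟩ * m' * ⟨c, hc⟩⁻¹, (inferInstance : N.Normal).conj_mem m' hm' _, rfl⟩)
      (fun ⟨m, hm, he⟩ => hz (by rwa [show m = ⟨z, hzC⟩ from Subtype.ext he] at hm))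
      ⟨n, hnN, rfl⟩ hnzn.symm
  intro k hk
  refine ⟨fun l hl => congrArg Subtype.val (hfree.commute_all_of_involutive hinv ⟨k, hk⟩ ⟨l, hl⟩).eq,
    ?_, ?_⟩
  · have h := congrFun (hfree.coe_eq_inv_of_involutive hinv) ⟨k, hk⟩
    have h' := congrArg Subtype.val h
    rw [hφ] at h'
    exact h'
  · rw [← Subgroup.orderOf_mk (a := k) hk]
    exact hfree.odd_orderOf_of_involutive hinv _

/-- the central involution is not in the Fitting subgroup -/
theorem CentData.not_mem_fitting (D : CentData S B β s)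
    (hzC : z ∈ Subgroup.centralizer (B : Set G)) :
    (⟨z, hzC⟩ : ↥(Subgroup.centralizer (B : Set G))) ∉
      fittingSubgroup ↥(Subgroup.centralizer (B : Set G)) := by
  classical
  haveI : Fact (Nat.Prime 2) := ⟨Nat.prime_two⟩
  set C := Subgroup.centralizer (B : Set G)
  intro hzF
  haveI := Fitting.fittingSubgroup_isNilpotent (G := ↥C)
  -- a normal two-subgroup containing `z`
  have hp : IsPGroup 2 (Subgroup.zpowers (⟨⟨z, hzC⟩, hzF⟩ : ↥(fittingSubgroup ↥C))) :=
    IsPGroup.of_card (n := 1) (by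
      rw [Nat.card_zpowers, Subgroup.orderOf_mk, Subgroup.orderOf_mk, S.orderOf_z, pow_one])
  obtain ⟨P, hP⟩ := hp.exists_le_sylow
  haveI : (P : Subgroup ↥(fittingSubgroup ↥C)).Normal :=
    Layer.sylow_normal_of_nilpotent inferInstance P
  haveI := P.characteristic_of_normal inferInstance
  set U0 := (P : Subgroup ↥(fittingSubgroup ↥C)).map (fittingSubgroup ↥C).subtype
  haveI : U0.Normal := ConjAct.normal_of_characteristic_of_normal
  set U := U0.map C.subtype
  have hU2 : IsPGroup 2 ↥U := (P.isPGroup'.map _).map _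
  have hzU : z ∈ U := ⟨_, ⟨_, hP (Subgroup.mem_zpowers _), rfl⟩, rfl⟩
  have hUle : U ≤ C := Subgroup.map_subtype_le U0
  have hnorm : ∀ c ∈ C, ∀ m ∈ U, c * m * c⁻¹ ∈ U := by
    rintro c hc _ ⟨m, hm, rfl⟩
    exact ⟨⟨c, hc⟩ * m * ⟨c, hc⟩⁻¹, (inferInstance : U0.Normal).conj_mem m hm _, rfl⟩
  have hfix : ∀ x ∈ QG Q, x * β = β * x → x ∈ U := by
    refine fun x hx hxβ => fixed_le S D.ord D.ov hzU (fun y hy hyβ hyc hyne => ?_) hx hxβ
    obtain ⟨g, hgβ, hgz⟩ := fuse_seven S hy hyc hyne D.ord D.zβ.symm hyβ.symm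
    exact hgz ▸ hnorm g (D.mem_iff.2 hgβ) z hzU
  -- its part centralising `z` lies in `Q`
  set M := U ⊓ CZ z
  have hb7 : b ^ 7 = 1 := by rw [← order_b, pow_orderOf_eq_one]
  have hβ7 : β ^ 7 = 1 := by rw [← D.ord, pow_orderOf_eq_one]
  have hM2 : IsPGroup 2 ↥M := hU2.to_le inf_le_left
  have hMQ : M ≤ QG Q := by
    obtain ⟨π, hπs, hπk⟩ := pkg.surj
    set H := ((overImage e M).subgroupOf (Subgroup.centralizer ({b} : Set ↥Co0))).map π
    have hH2 : IsPGroup 2 ↥H := ((over_isPGroup' hM2).comap_subtype).map π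
    haveI : H.Normal := ⟨by
      rintro _ ⟨g, hg, rfl⟩ t
      obtain ⟨c, rfl⟩ := hπs t
      refine ⟨c * g * c⁻¹, ?_, by simp only [map_mul, map_inv]⟩
      obtain ⟨m, hm, hmo⟩ := hg
      obtain ⟨h, hh, hhβ⟩ := S.exists_lift_comm (by norm_num) (by decide) order_b D.ord D.ov c.2
      refine ⟨h * m * h⁻¹, Subgroup.mem_inf.2 ⟨hnorm h (D.mem_iff.2 hhβ) m hm.1,
        mul_mem (mul_mem hh.mem_CZ hm.2) (inv_mem hh.mem_CZ)⟩, (hh.mul hmo).mul hh.inv⟩⟩
    have hH1 : H = ⊥ := by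
      have h : H ≤ pCore 2 _ := le_sSup ⟨inferInstance, hH2⟩
      rwa [pkg.core, le_bot_iff] at h
    intro m hm
    have hmβ := D.mem_iff.1 (hUle hm.1)
    obtain ⟨g, hg⟩ := exists_over (e := e) hm.2
    have hgc := S.comm_lift (by decide) hb7 D.ov hg hmβ
    have h1 : π ⟨g, hgc⟩ = 1 := by
      rw [← Subgroup.mem_bot, ← hH1]
      exact ⟨⟨g, hgc⟩, ⟨m, hm, hg⟩, rfl⟩
    obtain ⟨i, hi⟩ := (hπk _).1 h1
    have hq : (β ^ i)⁻¹ * m ∈ QG Q := ((D.ov.pow i).inv.mul hg).mem_QG_iff.2 hi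
    have hcm : Commute (β ^ i)⁻¹ m := ((show Commute β m from hmβ.symm).pow_left i).inv_left
    obtain ⟨k, hk⟩ := hU2 ⟨m, hm.1⟩
    have hk' : m ^ 2 ^ k = 1 := congrArg Subtype.val hk
    have h2 : ((β ^ i)⁻¹ * m) ^ 2 ^ k ∈ Subgroup.zpowers β := by
      rw [hcm.mul_pow, hk', mul_one]
      exact pow_mem (inv_mem (pow_mem (Subgroup.mem_zpowers β) i)) _
    have h3 := QG_inf_zpowers S D.ord (pow_mem hq _) h2
    rw [hcm.mul_pow, hk', mul_one, inv_pow, inv_eq_one] at h3
    have h4 : β ^ i = 1 := orderOf_eq_one_iff.1 (Nat.eq_one_of_dvd_coprimes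
      ((by norm_num : Nat.Coprime 2 7).pow_left k) (orderOf_dvd_of_pow_eq_one h3)
      (D.ord ▸ orderOf_dvd_of_mem_zpowers (pow_mem (Subgroup.mem_zpowers β) i)))
    rwa [h4, inv_one, one_mul] at hq
  -- the centre of that part
  have hctr : ∀ a : G, a ∈ Subgroup.normalizer (M : Set G) → a ∈ C → a * z = z * a := by
    intro a ha haC
    have hzM : z ∈ M := Subgroup.mem_inf.2 ⟨hzU, z_mem_CZ z⟩
    have h1 : a * z * a⁻¹ ∈ M := (Subgroup.mem_normalizer_iff.1 ha z).1 hzM
    rcases fixed_center S D.ord D.ov (hMQ h1)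
      (D.mem_iff.1 (hUle h1.1)) (fun y hy hyβ => by
        have hyM : y ∈ M := Subgroup.mem_inf.2 ⟨hfix y hy hyβ, QG_le hy⟩
        have h2 : a⁻¹ * y * a ∈ M := by
          have := (Subgroup.mem_normalizer_iff.1 (inv_mem ha) y).1 hyM
          rwa [inv_inv] at this
        have h3 : a⁻¹ * y * a * z = z * (a⁻¹ * y * a) := mem_CZ.1 h2.2
        calc a * z * a⁻¹ * y = a * (z * (a⁻¹ * y * a)) * a⁻¹ := by group
          _ = a * (a⁻¹ * y * a * z) * a⁻¹ := by rw [h3]
          _ = _ := by group) with h | h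
    · rw [conj_eq_one_iff] at h; exact absurd h S.z_ne_one
    · exact mul_inv_eq_iff_eq_mul.1 h
  have hUM : U ≤ CZ z := by
    haveI := hU2.isNilpotent
    by_contra hne
    have hlt : M.subgroupOf U < ⊤ := lt_top_iff_ne_top.2 fun h =>
      hne fun u hu => ((Subgroup.subgroupOf_eq_top).1 h hu).2
    have h := normalizerCondition_of_isNilpotent _ hlt
    obtain ⟨a, ha1, ha2⟩ := SetLike.exists_of_lt h
    refine ha2 (Subgroup.mem_subgroupOf.2 (Subgroup.mem_inf.2 ⟨a.2, mem_CZ.2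
      (hctr a ?_ (hUle a.2))⟩))
    refine Subgroup.mem_normalizer_iff.2 fun x => ⟨fun hx => ?_, fun hx => ?_⟩
    · exact (Subgroup.mem_normalizer_iff.1 ha1 ⟨x, hx.1⟩).1 hx
    · have hxU : x ∈ U := by
        have h1 := mul_mem (mul_mem (inv_mem a.2) hx.1) a.2
        rwa [show (a : G)⁻¹ * ((a : G) * x * (a : G)⁻¹) * (a : G) = x by group] at h1
      exact (Subgroup.mem_normalizer_iff.1 ha1 ⟨x, hxU⟩).2 hx
  obtain ⟨g, hgβ, hgz⟩ := D.fuse
  have hgM : g ∈ Subgroup.normalizer (M : Set G) := by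
    have hMU : M = U := inf_eq_left.2 hUM
    rw [hMU]
    have hgC := D.mem_iff.2 hgβ
    refine Subgroup.mem_normalizer_iff.2 fun x => ⟨fun hx => hnorm g hgC x hx, fun hx => ?_⟩
    have h1 := hnorm g⁻¹ (inv_mem hgC) _ hx
    rwa [show g⁻¹ * (g * x * g⁻¹) * g⁻¹⁻¹ = x by group] at h1
  rw [hctr g hgM (D.mem_iff.2 hgβ), mul_inv_cancel_right] at hgz
  have hs1 : s = 1 := mul_eq_left.1 hgz.symm
  exact (S.conj_sq D.conj).2 hs1

/-- the central involution lies in the layer -/
theorem CentData.mem_layer (D : CentData S B β s)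
    [hn : (B.subgroupOf (Subgroup.centralizer (B : Set G))).Normal]
    (hzC : z ∈ Subgroup.centralizer (B : Set G)) :
    (⟨z, hzC⟩ : ↥(Subgroup.centralizer (B : Set G))) ∈
      layer ↥(Subgroup.centralizer (B : Set G)) := by
  set C := Subgroup.centralizer (B : Set G)
  have hBcent : ∀ n : ↥C, n ∈ B.subgroupOf C → ∀ c : ↥C, c * n = n * c := by
    intro n hn c
    exact Subtype.ext (Subgroup.mem_centralizer_iff.1 c.2 _ (Subgroup.mem_subgroupOf.1 hn)).symm
  by_contra hz
  haveI : (layer ↥C).Normal := Layer.layer_normal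
  have hbot : layer ↥C = ⊥ := by
    have hE := D.inverted hzC (layer ↥C) hz
    have hle : layer ↥C ≤ B.subgroupOf C := by
      rw [← Layer.commutator_layer_self, Subgroup.commutator_le]
      intro a ha c hc
      rw [← QuotientGroup.eq_one_iff, ← QuotientGroup.mk'_apply, map_commutatorElement,
        commutatorElement_eq_one_iff_mul_comm]
      exact (hE _ ⟨a, ha, rfl⟩).1 _ ⟨c, hc, rfl⟩
    rw [← Layer.commutator_layer_self, eq_bot_iff, Subgroup.commutator_le]
    intro a ha c hc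
    rw [Subgroup.mem_bot, commutatorElement_eq_one_iff_mul_comm]
    exact (hBcent a (hle ha) c).symm
  haveI : (fittingSubgroup ↥C).Normal := Fitting.fittingSubgroup_normal
  have hF := D.inverted hzC (fittingSubgroup ↥C) (D.not_mem_fitting hzC)
  set π := QuotientGroup.mk' (B.subgroupOf C)
  haveI : ((fittingSubgroup ↥C).map π).Normal :=
    Subgroup.Normal.map inferInstance π (QuotientGroup.mk'_surjective _)
  set zb : ↥C ⧸ B.subgroupOf C := QuotientGroup.mk ⟨z, hzC⟩ with hzb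
  have hzb2 : zb * zb = 1 := by
    rw [hzb, ← QuotientGroup.mk_mul, show (⟨z, hzC⟩ : ↥C) * ⟨z, hzC⟩ = 1 from Subtype.ext S.z_mul_z,
      QuotientGroup.mk_one]
  obtain ⟨g, hgβ, hgz⟩ := D.fuse
  obtain ⟨g', hg'β, hg'z⟩ := fuse_seven S D.inQ D.conj D.ne D.ord D.zβ.symm D.comm.symm
  have hsC : s ∈ C := D.mem_iff.2 D.comm
  set sb : ↥C ⧸ B.subgroupOf C := QuotientGroup.mk ⟨s, hsC⟩
  set gb : ↥C ⧸ B.subgroupOf C := QuotientGroup.mk ⟨g, D.mem_iff.2 hgβ⟩
  set gb' : ↥C ⧸ B.subgroupOf C := QuotientGroup.mk ⟨g', D.mem_iff.2 hg'β⟩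
  have e1 : gb * zb * gb⁻¹ = zb * sb := by
    rw [hzb, ← QuotientGroup.mk_inv, ← QuotientGroup.mk_mul, ← QuotientGroup.mk_mul,
      ← QuotientGroup.mk_mul]
    exact congrArg _ (Subtype.ext hgz)
  have e2 : gb' * zb * gb'⁻¹ = sb := by
    rw [hzb, ← QuotientGroup.mk_inv, ← QuotientGroup.mk_mul, ← QuotientGroup.mk_mul]
    exact congrArg _ (Subtype.ext hg'z)
  have hzi : zb⁻¹ = zb := inv_eq_of_mul_eq_one_right hzb2
  set K := (fittingSubgroup ↥C).map π
  have hzinv : ∀ k ∈ K, zb * k * zb = k⁻¹ := fun k hk => (hF k hk).2.1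
  have hs_cent : ∀ k ∈ K, sb * k * sb⁻¹ = k := by
    intro k hk
    have h1 := hzinv _ ((inferInstance : K.Normal).conj_mem k hk gb⁻¹)
    have h2 : (gb * zb * gb⁻¹) * k * (gb * zb * gb⁻¹)⁻¹ = k⁻¹ := by
      calc (gb * zb * gb⁻¹) * k * (gb * zb * gb⁻¹)⁻¹
          = gb * (zb * (gb⁻¹ * k * gb⁻¹⁻¹) * zb⁻¹) * gb⁻¹ := by group
        _ = k⁻¹ := by rw [hzi, h1]; group
    rw [e1] at h2
    have h3 : zb * (zb * sb * k * (zb * sb)⁻¹) * zb = zb * k⁻¹ * zb := by rw [h2]
    rw [hzinv _ (inv_mem hk), inv_inv] at h3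
    conv_rhs => rw [← h3]
    rw [show zb * (zb * sb * k * (zb * sb)⁻¹) * zb = (zb * zb) * (sb * k * sb⁻¹) * (zb⁻¹ * zb) by
      group, hzb2, one_mul, inv_mul_cancel, mul_one]
  have hK : ∀ k ∈ K, k = 1 := by
    intro k hk
    have h1 := hs_cent _ ((inferInstance : K.Normal).conj_mem k hk gb')
    rw [← e2] at h1
    have h2 : zb * k * zb⁻¹ = k := by
      have h3 : gb'⁻¹ * (gb' * zb * gb'⁻¹ * (gb' * k * gb'⁻¹) * (gb' * zb * gb'⁻¹)⁻¹) * gb' =
          gb'⁻¹ * (gb' * k * gb'⁻¹) * gb' := by rw [h1]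
      calc zb * k * zb⁻¹ = gb'⁻¹ * (gb' * zb * gb'⁻¹ * (gb' * k * gb'⁻¹) *
            (gb' * zb * gb'⁻¹)⁻¹) * gb' := by group
        _ = k := by rw [h3]; group
    rw [hzi, hzinv k hk] at h2
    have h4 : k ^ 2 = 1 := by rw [pow_two]; nth_rw 1 [← h2]; exact inv_mul_cancel k
    have h5 := orderOf_dvd_of_pow_eq_one h4
    rcases (Nat.dvd_prime Nat.prime_two).1 h5 with h6 | h6
    · exact orderOf_eq_one_iff.1 h6
    · have h7 := (hF k hk).2.2
      rw [h6] at h7
      exact absurd h7 (by decide)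
  have hFB : fittingSubgroup ↥C ≤ B.subgroupOf C := fun a ha =>
    (QuotientGroup.eq_one_iff a).1 (hK _ ⟨a, ha, rfl⟩)
  have h := Layer.centralizer_fittingSubgroup_le hbot (x := ⟨z, hzC⟩)
    (Subgroup.mem_centralizer_iff.2 fun a ha => (hBcent a (hFB ha) _).symm)
  exact D.z_not_mem (Subgroup.mem_subgroupOf.1 (hFB h))

end CfsgLib.MonsterCent.Seven
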