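import Cfsg.Agent.Lib.MonsterCent.DataSevenOut
import Cfsg.Agent.Lib.MonsterCent.LocalSeven

/-!
An involution inverting an element of order seven in the centraliser of the central involution.
-/

set_option autoImplicit false
set_option maxRecDepth 100000
set_option linter.style.haveILetI false

namespace CfsgLib.MonsterCent.Seven

open Cfsg CfsgLib.Golay CfsgLib.Leech CfsgLib.Leech.OutStab CfsgLib.Leech.OutOne CfsgLib.Monster
  CfsgLib.MonsterCent

attribute [local irreducible] dL bL key keyL coord packB linL bits autOK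

theorem out_checks : autOK outInvol = true ∧ autOK outFrame = true ∧ inC outMask = true ∧
    inC outMaskTwo = true ∧ inL outVec = true ∧
    mulC (outInvol.map keyL) (monoTab perm 0) =
      mulC (powC (monoTab perm 0) 6) (outInvol.map keyL) ∧
    mulC (monoTab OutOne.idQ outMask) (outFrame.map keyL) =
      mulC (outFrame.map keyL) (outInvol.map keyL) ∧
    (comb (monoTab OutOne.idQ outMaskTwo) (keyL outVec) ^^^ keyL outVec) ^^^
      comb (monoTab OutOne.idQ outMask) (comb (monoTab OutOne.idQ outMaskTwo) (keyL outVec) ^^^ keyL outVec) =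
        keyL e8L ∧
    outVec.getD (Golay.idx none) 0 % 2 = 0 := by decide +kernel

theorem dec_mem {m : ℕ} (h : inC m = true) : dec m ∈ CS := ⟨wd _, wd_mem_of_inC h, support_wd _⟩

variable {G : Type*} [Group G] [Finite G]
variable {z : G} {Q : Subgroup (CZ z)} [Q.Normal] {e : (CZ z) ⧸ Q ≃* Spor.Co1}
  {ψ : ↥leechLattice → Q ⧸ Subgroup.center Q}

/-- an involution of the centraliser of the central involution over an inverting automorphism -/
theorem exists_out_lift (S : Setup z Q e ψ) {s k : G} (hk : k * z * k⁻¹ = s) (hs : Rep ψ s v8) :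
    ∃ (t : G) (n : ↥Co0), t * t = 1 ∧ Over e t n ∧ n * b * n⁻¹ = b⁻¹ := by
  obtain ⟨haut, hfr, hm, hm2, hv, hinv, hconj, hkey, heven⟩ := out_checks
  have hd := dec_mem hm
  have hd2 := dec_mem hm2
  set dd := mono (one_mem M24) hd
  set d2 := mono (one_mem M24) hd2
  have hsign := (S.cross_facts hk hs).2
  obtain ⟨r, ⟨hr1, hr2⟩, hr⟩ :=
    (show dd ∈ overImage e (QS Q k ⊓ CZ z) by rw [hsign]; exact ⟨_, hd, rfl⟩)
  obtain ⟨r', ⟨hr'1, hr'2⟩, hr'⟩ :=
    (show d2 ∈ overImage e (QS Q k ⊓ CZ z) by rw [hsign]; exact ⟨_, hd2, rfl⟩)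
  -- an element of the intersection moved by `r`
  let v : ↥leechLattice := ⟨vec outVec, vec_mem hv⟩
  obtain ⟨p, hp⟩ := S.exists_rep v
  have hbil : bil v v8 = 0 := by
    rw [bil_v8]
    show ((outVec.getD (idx none) 0 : ℤ) : ZMod 2) = 0
    rw [ZMod.intCast_zmod_eq_zero_iff_dvd]
    exact Int.dvd_of_emod_eq_zero heven
  have hps : p * s = s * p := (S.comm_eq hp hs).1.2 hbil
  have hc := S.rep_mul (S.rep_smul hr' hp) (S.rep_inv hp)
  set c := r' * p * r'⁻¹ * p⁻¹
  have hcQS : c ∈ QS Q k := by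
    have := mul_mem hr'1 (QS_normalized hk hps (inv_mem hr'1))
    rwa [show r' * (p * r'⁻¹ * p⁻¹) = c by simp [c, mul_assoc]] at this
  have hcc : c * c = 1 := (S.inter_elementary hk (fun h => by
    have h2 := S.rep_unique (h ▸ hs) S.rep_z
    rw [sub_zero] at h2
    exact not_isDbl_of_norm (sqNorm_eight none) (by norm_num) le_rfl h2) hc.mem hcQS hc.mem hcQS).1
  have hne : r * c ≠ c * r := by
    intro h
    have h1 := S.rep_mul (S.rep_smul hr hc) (S.rep_inv hc)
    rw [show r * c * r⁻¹ * c⁻¹ = 1 by rw [h]; group] at h1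
    have h2 := (S.rep_zero_iff h1).2 (Or.inl rfl)
    have h3 := (isDbl_sub_iff _ 0).1 (by rwa [sub_zero])
    rw [AddSubgroup.coe_add, key_add (Subtype.coe_prop _) (Subtype.coe_prop _), AddSubgroup.coe_add,
      key_add (Subtype.coe_prop _) (Subtype.coe_prop _), ← act_key d2, ← act_key dd,
      rep_sign hm _ _ (key_lt _), rep_sign hm2 _ _ (key_lt _), AddSubgroup.coe_add,
      key_add (Subtype.coe_prop _) (Subtype.coe_prop _), ← act_key d2, rep_sign hm2 _ _ (key_lt _),
      AddSubgroup.coe_zero, key_zero, show key (v : GolayPt → ℤ) = keyL outVec from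
        keyL_eq (inL_length hv)] at h3
    rw [Nat.xor_comm, hkey] at h3
    revert h3
    decide +kernel
  have hss : s * s = 1 := (S.conj_sq (isConj_iff.2 ⟨k, hk⟩)).1
  obtain ⟨t1, ht1, ht1o⟩ : ∃ t : G, t * t = 1 ∧ Over e t dd := by
    rcases S.QS_sq hk hr1 with h | h
    · exact ⟨r, h, hr⟩
    · refine ⟨r * c, ?_, by simpa using hr.mul (over_of_mem_QG hc.mem)⟩
      have h1 : c * r = r * c * s := (S.QS_swap hk hcQS hr1).resolve_left fun h' => hne h'.symm
      have hsc : c * s = s * c := QS_comm hk hcQS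
      calc r * c * (r * c) = r * (c * r) * c := by group
        _ = r * r * (c * s) * c := by rw [h1]; group
        _ = (s * s) * (c * c) := by rw [h, hsc]; group
        _ = 1 := by rw [hss, hcc, one_mul]
  -- transport
  set g0 := (linIso hfr).aut
  set nn := (linIso haut).aut
  have hg0 : Rep0 g0 (outFrame.map keyL) := fun k hk => act_lin hfr hk
  have hnn : Rep0 nn (outInvol.map keyL) := fun k hk => act_lin haut hk
  have e1 : pr (dd * g0) = pr (g0 * nn) :=
    pr_eq_of_rep ((rep_sign hm _).mul hg0) (by rw [hconj]; exact hg0.mul hnn)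
  have e2 : pr (nn * b) = pr (b ^ 6 * nn) :=
    pr_eq_of_rep (hnn.mul (rep_permAut perm_ok))
      (by rw [hinv]; exact ((rep_permAut perm_ok).pow 6).mul hnn)
  obtain ⟨h, hh⟩ := exists_lift (e := e) g0
  refine ⟨h⁻¹ * t1 * h, g0⁻¹ * dd * g0, ?_, (hh.inv.mul ht1o).mul hh, ?_⟩
  · calc h⁻¹ * t1 * h * (h⁻¹ * t1 * h) = h⁻¹ * (t1 * t1) * h := by group
      _ = 1 := by rw [ht1, mul_one, inv_mul_cancel]
  · have hb7 : b ^ 7 = 1 := by rw [← order_b, pow_orderOf_eq_one]
    refine eq_of_center_of_odd (p := 7) (by decide)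
      (by rw [conj_pow, hb7, mul_one, mul_inv_cancel]) (by rw [inv_pow, hb7, inv_one]) ?_
    refine QuotientGroup.eq.1 ?_
    show pr (g0⁻¹ * dd * g0 * b * (g0⁻¹ * dd * g0)⁻¹) = pr b⁻¹
    have e3 : pr (g0⁻¹ * dd * g0) = pr nn := by
      rw [mul_assoc, map_mul, e1, map_mul, ← mul_assoc, ← map_mul, inv_mul_cancel, map_one, one_mul]
    rw [map_mul, map_mul, map_inv, e3, ← map_inv, ← map_mul, ← map_mul, map_mul _ (nn * b), e2,
      ← map_mul, mul_inv_cancel_right,
      show b ^ 6 = b⁻¹ from eq_inv_of_mul_eq_one_left (by rw [← pow_succ, hb7])]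

/-- an element over a power of the automorphism is conjugate to that power of the lift -/
theorem exists_conj_pow_lift (S : Setup z Q e ψ) {β γ : G} (hβ : orderOf β = 7)
    (hov : Over e β b) {j : ℕ} (hj : ¬ 7 ∣ j) (hγ : γ ^ 7 = 1) (hγo : Over e γ (b ^ j)) :
    ∃ q ∈ QG Q, q * γ * q⁻¹ = β ^ j := by
  have hcop : Nat.Coprime 7 j := (Nat.Prime.coprime_iff_not_dvd (by norm_num)).2 hj
  refine exists_conj_of_coset (p := 7) ?_ ?_ ?_ ?_ hγ
  · refine Subgroup.mem_normalizer_iff.2 fun x => ⟨fun hx => QG_normalized (hov.pow j).mem_CZ hx,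
      fun hx => ?_⟩
    have h2 := QG_normalized (inv_mem (hov.pow j).mem_CZ) hx
    simpa [mul_assoc] using h2
  · rw [Nat.Coprime.orderOf_pow (by rwa [hβ]), hβ]
  · rw [S.card_QG]; exact (by norm_num : Nat.Coprime 2 7).pow_left 25
  · refine (hγo.mul (hov.pow j).inv).mem_QG_iff.2 ?_
    rw [mul_inv_cancel]
    exact one_mem _

/-- an element squaring the lift -/
theorem exists_square_conj (S : Setup z Q e ψ) {β : G} (hβ : orderOf β = 7) (hov : Over e β b) :
    ∃ h : G, h * β * h⁻¹ = β ^ 2 := by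
  obtain ⟨n, -, hn⟩ := exists_squarer
  obtain ⟨h, hh⟩ := exists_lift (e := e) n
  have ho := (hh.mul hov).mul hh.inv
  rw [hn] at ho
  obtain ⟨q, -, hq⟩ := exists_conj_pow_lift S hβ hov (j := 2) (by norm_num)
    (by rw [conj_pow, ← hβ, pow_orderOf_eq_one, mul_one, mul_inv_cancel]) ho
  exact ⟨q * h, by rw [← hq]; group⟩

/-- an involution centralising the central involution and inverting the lift -/
theorem exists_inverting (S : Setup z Q e ψ) {s k β : G} (hk : k * z * k⁻¹ = s) (hs : Rep ψ s v8)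
    (hβ : orderOf β = 7) (hov : Over e β b) :
    ∃ t : G, orderOf t = 2 ∧ t * z = z * t ∧ t * β * t⁻¹ = β⁻¹ := by
  obtain ⟨t, n, htt, hto, hn⟩ := exists_out_lift S hk hs
  have hti : t⁻¹ = t := inv_eq_of_mul_eq_one_right htt
  set a := t * (β * t * β⁻¹) with ha
  have hcent : n * n ∈ Subgroup.center ↥Co0 := by
    have h1 := hto.mul hto
    rw [htt] at h1
    simpa using Over.unique (over_of_mem_QG (e := e) (one_mem (QG Q))) h1
  have hao : Over e a (b⁻¹ * (n * n) * b⁻¹) := by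
    have h1 := hto.mul ((hov.mul hto).mul hov.inv)
    rwa [show n * (b * n * b⁻¹) = b⁻¹ * (n * n) * b⁻¹ by rw [← hn]; group] at h1
  set c0 := n * n
  have hbc : Commute (b⁻¹) c0 := Subgroup.mem_center_iff.1 hcent _
  have hb7 : b ^ 7 = 1 := by rw [← order_b, pow_orderOf_eq_one]
  have hbase : b⁻¹ * c0 * b⁻¹ = b ^ 5 * c0 := by
    rw [mul_assoc, ← hbc.eq, ← mul_assoc, show b ^ 5 = b⁻¹ * b⁻¹ from ?_]
    rw [eq_comm, ← mul_inv_rev, inv_eq_iff_mul_eq_one, ← pow_two, ← pow_add, hb7]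
  rw [hbase] at hao
  have hcomm : Commute (b ^ 5) c0 := Subgroup.mem_center_iff.1 hcent _
  have hc2 : c0 ^ 2 = 1 := by rw [pow_two]; exact center_sq hcent
  have h7 : a ^ 7 ∈ QG Q := by
    refine (hao.pow 7).mem_QG_iff.2 ?_
    rw [hcomm.mul_pow, ← pow_mul, pow_mul', hb7, one_pow, one_mul]
    exact pow_mem hcent 7
  set c := a ^ (2 ^ 25) with hc
  have hc7 : c ^ 7 = 1 := by
    rw [hc, ← pow_mul, pow_mul', ← S.card_QG]
    exact congrArg Subtype.val (pow_card_eq_one' (x := (⟨a ^ 7, h7⟩ : ↥(QG Q))))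
  have hco : Over e c (b ^ 3) := by
    have h1 := hao.pow (2 ^ 25)
    rwa [hcomm.mul_pow, show c0 ^ (2 ^ 25) = (c0 ^ 2) ^ (2 ^ 24) by rw [← pow_mul]; norm_num, hc2,
      one_pow, mul_one, ← pow_mul,
      show b ^ (5 * 2 ^ 25) = b ^ 3 by rw [← pow_mod_orderOf, order_b]; norm_num] at h1
  have hinva : t * a * t⁻¹ = a⁻¹ := by
    rw [ha, mul_inv_rev, mul_inv_rev, mul_inv_rev, inv_inv, hti,
      show t * (t * (β * t * β⁻¹)) * t = (t * t) * (β * t * β⁻¹) * t by group, htt, one_mul]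
    group
  obtain ⟨q, hq, hqe⟩ := exists_conj_pow_lift S hβ hov (j := 3) (by norm_num) hc7 hco
  have hinvc : t * c * t⁻¹ = c⁻¹ := by rw [hc, ← conj_pow, hinva, inv_pow]
  have h3 : q * t * q⁻¹ * β ^ 3 * (q * t * q⁻¹)⁻¹ = (β ^ 3)⁻¹ := by
    rw [← hqe, show q * t * q⁻¹ * (q * c * q⁻¹) * (q * t * q⁻¹)⁻¹ = q * (t * c * t⁻¹) * q⁻¹ by group,
      hinvc]
    group
  have hβ7 : β ^ 7 = 1 := by rw [← hβ, pow_orderOf_eq_one]
  have hβ15 : (β ^ 3) ^ 5 = β := by
    rw [← pow_mul, show 3 * 5 = 7 * 2 + 1 by norm_num, pow_succ, pow_mul, hβ7, one_pow, one_mul]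
  have hβt : q * t * q⁻¹ * β * (q * t * q⁻¹)⁻¹ = β⁻¹ := by
    conv_lhs => rw [← hβ15, ← conj_pow, h3, inv_pow, hβ15]
  refine ⟨q * t * q⁻¹, ?_, ?_, hβt⟩
  · refine orderOf_eq_prime (by rw [pow_two, show q * t * q⁻¹ * (q * t * q⁻¹) = q * (t * t) * q⁻¹ by
      group, htt, mul_one, mul_inv_cancel]) fun h => ?_
    rw [h, one_mul, inv_one, mul_one] at hβt
    have h2 : β ^ 2 = 1 := by rw [pow_two]; nth_rw 1 [hβt]; exact inv_mul_cancel β
    have := orderOf_dvd_of_pow_eq_one h2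
    rw [hβ] at this
    norm_num at this
  · have h1 : q * z = z * q := mem_CZ.1 (QG_le hq)
    have h2 : t * z = z * t := mem_CZ.1 hto.mem_CZ
    exact ((Commute.mul_left h1 h2).mul_left (Commute.inv_left h1)).eq

end CfsgLib.MonsterCent.Seven
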