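import Cfsg.Agent.Lib.MonsterCent.DataSevenMeet
import Cfsg.Agent.Lib.MonsterCent.SevenOut
import Cfsg.Agent.Lib.MonsterCent.SevenLayer

/-!
The conjugates of the central involution in the intersection of the fixed parts of two extraspecial
subgroups.
-/

set_option autoImplicit false
set_option maxRecDepth 100000
set_option linter.style.haveILetI false
set_option linter.unusedSectionVars false

namespace CfsgLib.MonsterCent.Seven

open Cfsg CfsgLib.Golay CfsgLib.Leech CfsgLib.Leech.OutStab CfsgLib.Leech.OutOne CfsgLib.Monster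
  CfsgLib.MonsterCent

attribute [local irreducible] dL bL key keyL coord packB linL bits autOK

theorem move_checks : gens.length = 2 ∧
    (∀ j : Fin 2, autOK (gens.getD j []) = true ∧
      mulC ((gens.getD j []).map keyL) (monoTab perm 0) =
        mulC (monoTab perm 0) ((gens.getD j []).map keyL)) ∧
    steps.length = 13 ∧
    (∀ m : Fin 13, (steps.getD m (0, 0, 0)).2.1 < 14 ∧ (steps.getD m (0, 0, 0)).2.2 < 3 ∧
      ((steps.getD m (0, 0, 0)).2.1 = 10 ∨
        ∃ m' : Fin 13, (m' : ℕ) < (m : ℕ) ∧ (steps.getD m' (0, 0, 0)).1 = (steps.getD m (0, 0, 0)).2.1) ∧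
      comb (((if (steps.getD m (0, 0, 0)).2.2 < 2 then gens.getD (steps.getD m (0, 0, 0)).2.2 []
        else inverter)).map keyL) (frames.getD (steps.getD m (0, 0, 0)).2.1 0) =
          frames.getD (steps.getD m (0, 0, 0)).1 0) ∧
    (∀ i : Fin 14, (i : ℕ) = 10 ∨ ∃ m : Fin 13, (steps.getD m (0, 0, 0)).1 = (i : ℕ)) ∧
    keyL e8L = frames.getD 10 0 := by decide +kernel

theorem meet_checks : ∀ i : Fin 14, (i : ℕ) = 10 ∨
    (inC (meetWit.getD i (0, [])).1 = true ∧ inL (meetWit.getD i (0, [])).2 = true ∧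
      inL (frameVecs.getD i []) = true ∧ keyL (frameVecs.getD i []) = frames.getD i 0 ∧
      (meetWit.getD i (0, [])).2.getD (Golay.idx none) 0 % 2 = 0 ∧
      inL (monoL OutOne.idQ (meetWit.getD i (0, [])).1 (meetWit.getD i (0, [])).2) = true ∧
      (dotL (frameVecs.getD i []) (monoL OutOne.idQ (meetWit.getD i (0, [])).1
        (meetWit.getD i (0, [])).2) / 8 + dotL (frameVecs.getD i []) (meetWit.getD i (0, [])).2 / 8) % 2 = 1 ∧
      comb (monoTab OutOne.idQ (meetWit.getD i (0, [])).1) (keyL (meetWit.getD i (0, [])).2) =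
        keyL (monoL OutOne.idQ (meetWit.getD i (0, [])).1 (meetWit.getD i (0, [])).2)) := by
  decide +kernel

theorem key_v8 : key ((v8 : ↥leechLattice) : GolayPt → ℤ) = keyL e8L := by
  rw [← keyL_eq (by decide : e8L.length = 24)]
  congr 1
  show eight none = _
  funext i
  revert i
  decide +kernel

/-- each fixed frame is the image of the standard one under an element normalising the subgroup -/
theorem exists_move (i : Fin 14) : ∃ g ∈ extended,
    key ((g • v8 : ↥leechLattice) : GolayPt → ℤ) = frames.getD i 0 := by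
  obtain ⟨hgl, hgen, -, hsteps, hcover, hstd⟩ := move_checks
  have hb7 : b ^ 7 = 1 := by rw [← order_b, pow_orderOf_eq_one]
  have hbase : ∃ g ∈ extended, key ((g • v8 : ↥leechLattice) : GolayPt → ℤ) = frames.getD 10 0 :=
    ⟨1, one_mem _, by rw [one_smul, key_v8, hstd]⟩
  have hmain : ∀ n : ℕ, ∀ m : Fin 13, (m : ℕ) < n → ∃ g ∈ extended,
      key ((g • v8 : ↥leechLattice) : GolayPt → ℤ) = frames.getD (steps.getD m (0, 0, 0)).1 0 := by
    intro n
    induction n with
    | zero => exact fun m h => absurd h (Nat.not_lt_zero _)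
    | succ n ih =>
      intro m hm
      obtain ⟨-, hj, hpar, himg⟩ := hsteps m
      obtain ⟨g0, hg0, hk0⟩ : ∃ g ∈ extended, key ((g • v8 : ↥leechLattice) : GolayPt → ℤ) =
          frames.getD (steps.getD m (0, 0, 0)).2.1 0 := by
        rcases hpar with h | ⟨m', hm', he⟩
        · rw [h]; exact hbase
        · rw [← he]; exact ih m' (by omega)
      obtain ⟨c, hc, hrep⟩ : ∃ c ∈ extended, Rep0 c
          ((if (steps.getD m (0, 0, 0)).2.2 < 2 then gens.getD (steps.getD m (0, 0, 0)).2.2 []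
            else inverter).map keyL) := by
        by_cases h2 : (steps.getD m (0, 0, 0)).2.2 < 2
        · obtain ⟨ha, ht⟩ := hgen ⟨_, h2⟩
          rw [if_pos h2]
          have hr : Rep0 (linIso ha).aut ((gens.getD (steps.getD m (0, 0, 0)).2.2 []).map keyL) :=
            fun k hk => act_lin ha hk
          refine ⟨_, mem_extended.2 (Or.inl (mul_inv_eq_iff_eq_mul.2 (commute_of_pr hb7 (by decide) ?_))),
            hr⟩
          rw [← map_mul, ← map_mul]
          have h1 := hr.mul (rep_permAut perm_ok)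
          have h3 := (rep_permAut perm_ok).mul hr
          rw [ht] at h1
          exact pr_eq_of_rep h1 h3
        · obtain ⟨ha, ht⟩ := inverter_ok
          rw [if_neg h2]
          have hr : Rep0 (linIso ha).aut (inverter.map keyL) := fun k hk => act_lin ha hk
          refine ⟨_, mem_extended.2 (Or.inr ?_), hr⟩
          set t := (linIso ha).aut
          have h1 := hr.mul (rep_permAut perm_ok)
          have h3 := ((rep_permAut perm_ok).pow 6).mul hr
          rw [beq_iff_eq.1 ht] at h1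
          have h4 : pr (t * b) = pr (b ^ 6 * t) := pr_eq_of_rep h1 h3
          refine eq_of_center_of_odd (p := 7) (by decide)
            (by rw [conj_pow, hb7, mul_one, mul_inv_cancel]) (by rw [inv_pow, hb7, inv_one]) ?_
          refine QuotientGroup.eq.1 ?_
          show pr (t * b * t⁻¹) = pr b⁻¹
          rw [map_mul _ (t * b), h4, ← map_mul, mul_inv_cancel_right,
            show b ^ 6 = b⁻¹ from eq_inv_of_mul_eq_one_left (by rw [← pow_succ, hb7])]
      refine ⟨c * g0, mul_mem hc hg0, ?_⟩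
      rw [mul_smul, ← act_key c, hrep _ (key_lt _), hk0, himg]
  rcases hcover i with h | ⟨m, hm⟩
  · rw [h]; exact hbase
  · rw [← hm]; exact hmain 13 m m.2

variable {G : Type*} [Group G]

theorem commute_of_inv {a c : G} (h : a * c⁻¹ = c⁻¹ * a) : a * c = c * a := by
  simpa using ((show Commute a c⁻¹ from h).inv_right).eq

variable [Finite G]
variable {z : G} {Q : Subgroup (CZ z)} [Q.Normal] {e : (CZ z) ⧸ Q ≃* Spor.Co1}
  {ψ : ↥leechLattice → Q ⧸ Subgroup.center Q}
variable {S : Setup z Q e ψ} {B : Subgroup G} {β s : G}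

/-- a conjugate of the central involution in the fixed part has the class of a frame -/
theorem exists_frame (S : Setup z Q e ψ) {β y : G} (hβ : orderOf β = 7) (hov : Over e β b)
    (hy : y ∈ QG Q) (hyβ : y * β = β * y) (hyc : IsConj z y) (hne : y ≠ z) :
    ∃ (i : Fin 14) (w : ↥leechLattice), Rep ψ y w ∧ key (w : GolayPt → ℤ) = frames.getD i 0 := by
  obtain ⟨hlen, -, -, -⟩ := frame_vec_checks
  obtain ⟨w, hw, hwn⟩ := S.conj_type hy hyc hne
  have hfix := (S.commute_iff_fixCls (by decide : Odd 7) (by rw [← hβ, pow_orderOf_eq_one]) hov hw).1 hyβ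
  obtain ⟨g, hg⟩ := transitive_64 (v := v8) (sqNorm_eight none) hwn
  have hmem := frame_mem perm_ok fix_ok cls_ok (g := g) (by
    show FixCls b (g • v8)
    rw [show g • v8 = w from hg]
    exact hfix)
  rw [mainK_three none, show eight none = ((v8 : ↥leechLattice) : GolayPt → ℤ) from rfl, act_key,
    show g • v8 = w from hg] at hmem
  obtain ⟨i, hi, hik⟩ := List.getElem_of_mem hmem
  exact ⟨⟨i, by omega⟩, w, hw, by rw [List.getD_eq_getElem _ _ hi, hik]⟩

/-- only three conjugates of the central involution lie in both fixed parts -/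
theorem meet_std (S : Setup z Q e ψ) {k s : G} (hk : k * z * k⁻¹ = s) (hs : Rep ψ s v8)
    {β y : G} (hβ : orderOf β = 7) (hov : Over e β b) (hy : y ∈ QG Q) (hyQS : y ∈ QS Q k)
    (hyβ : y * β = β * y) (hyc : IsConj z y) (hne : y ≠ z) : y = s ∨ y = s * z := by
  obtain ⟨i, w, hw, hwk⟩ := exists_frame S hβ hov hy hyβ hyc hne
  rcases meet_checks i with h | ⟨hm, hv, hf, hfk, heven, hdv, hdot, hkd⟩
  · refine S.rep_coset hs (S.rep_congr hw ((isDbl_sub_iff _ _).2 ?_))
    rw [key_v8, hwk, h, move_checks.2.2.2.2.2]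
  · exfalso
    set d := mono (one_mem M24) (dec_mem hm)
    obtain ⟨r, ⟨hr1, hr2⟩, hr⟩ :=
      (show d ∈ overImage e (QS Q k ⊓ CZ z) by rw [(S.cross_facts hk hs).2]; exact ⟨_, _, rfl⟩)
    set v : ↥leechLattice := ⟨vec (meetWit.getD i (0, [])).2, vec_mem hv⟩
    obtain ⟨p, hp⟩ := S.exists_rep v
    have hbil : bil v v8 = 0 := by
      rw [bil_v8]
      show (((meetWit.getD i (0, [])).2.getD (idx none) 0 : ℤ) : ZMod 2) = 0
      rw [ZMod.intCast_zmod_eq_zero_iff_dvd]
      exact Int.dvd_of_emod_eq_zero heven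
    have hps : p * s = s * p := (S.comm_eq hp hs).1.2 hbil
    have hc := S.rep_mul (S.rep_smul hr hp) (S.rep_inv hp)
    have hcQS : r * p * r⁻¹ * p⁻¹ ∈ QS Q k := by
      have := mul_mem hr1 (QS_normalized hk hps (inv_mem hr1))
      rwa [show r * (p * r⁻¹ * p⁻¹) = r * p * r⁻¹ * p⁻¹ by group] at this
    have hsz : s ≠ z := fun h => by
      have h2 := S.rep_unique (h ▸ hs) S.rep_z
      rw [sub_zero] at h2
      exact not_isDbl_of_norm (sqNorm_eight none) (by norm_num) le_rfl h2
    have h0 := (S.comm_eq hw hc).1.1 (S.inter_elementary hk hsz hy hyQS hc.mem hcQS).2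
    set f : ↥leechLattice := latV (frameVecs.getD i [])
    set dv := monoL OutOne.idQ (meetWit.getD i (0, [])).1 (meetWit.getD i (0, [])).2
    have hwf : IsDbl (w - f) := (isDbl_sub_iff _ _).2 (by
      simp only [f, latV, dif_pos hf]
      rw [keyL_eq (inL_length hf), hfk, hwk])
    have hd : IsDbl (d • v - latV dv) := (isDbl_sub_iff _ _).2 (by
      simp only [latV, dif_pos hdv]
      rw [← act_key d, rep_sign hm _ _ (key_lt _)]
      show comb _ (key (vec _)) = key (vec _)
      rw [keyL_eq (inL_length hv), keyL_eq (inL_length hdv), hkd])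
    rw [bil_congr hwf, bil_add_right, bil_comm f (d • v), bil_congr hd, bil_comm (latV dv) f,
      show v = latV (meetWit.getD i (0, [])).2 by simp only [latV, dif_pos hv, v],
      bil_latV hf hdv, bil_latV hf hv] at h0
    revert h0 hdot
    generalize dotL (frameVecs.getD i []) dv / 8 = u
    generalize dotL (frameVecs.getD i []) (meetWit.getD i (0, [])).2 / 8 = u'
    intro h0 hdot
    rcases Int.emod_two_eq_zero_or_one u with a | a <;>
      rcases Int.emod_two_eq_zero_or_one u' with c | c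
    · omega
    · simp [a, c] at h0
    · simp [a, c] at h0
    · omega

/-- two elements of two-power order in one coset of the subgroup are equal -/
theorem CentData.eq_of_coset (D : CentData S B β s) {a c : G}
    (ha : a ∈ Subgroup.centralizer (B : Set G)) (hac : a⁻¹ * c ∈ B) (ha2 : a ^ 2 ^ 25 = 1)
    (hc2 : c ^ 2 ^ 25 = 1) : a = c := by
  set u := a⁻¹ * c with hu
  have hcomm : Commute a u := (Subgroup.mem_centralizer_iff.1 ha u hac).symm
  have hu2 : u ^ 2 ^ 25 = 1 := by
    have h : c = a * u := (mul_inv_cancel_left a c).symm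
    rw [h, hcomm.mul_pow, ha2, one_mul] at hc2
    exact hc2
  have h1 : orderOf u ∣ 7 := D.ord ▸ orderOf_dvd_of_mem_zpowers (D.gen ▸ hac)
  have h2 := Nat.eq_one_of_dvd_coprimes ((by norm_num : Nat.Coprime 2 7).pow_left 25)
    (orderOf_dvd_of_pow_eq_one hu2) h1
  exact inv_mul_eq_one.1 (orderOf_eq_one_iff.1 h2)

theorem pow_of_mem (S : Setup z Q e ψ) {x : G} (hx : x ∈ QG Q) : x ^ 2 ^ 25 = 1 := by
  rw [← S.card_QG]
  exact congrArg Subtype.val (pow_card_eq_one' (x := (⟨x, hx⟩ : ↥(QG Q))))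

theorem conj_pow_two (S : Setup z Q e ψ) (g : G) : (g * z * g⁻¹) ^ 2 ^ 25 = 1 := by
  rw [conj_pow, show z ^ 2 ^ 25 = (z * z) ^ 2 ^ 24 by rw [← pow_two, ← pow_mul]; norm_num,
    S.z_mul_z, one_pow, mul_one, mul_inv_cancel]

/-- the bound in the quotient -/
theorem CentData.meet_quot (D : CentData S B β s) {k : G} (hk : k * z * k⁻¹ = s) (hs : Rep ψ s v8)
    [hn : (B.subgroupOf (Subgroup.centralizer (B : Set G))).Normal]
    {zb : ↥(Subgroup.centralizer (B : Set G)) ⧸ B.subgroupOf (Subgroup.centralizer (B : Set G))}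
    {hzC : z ∈ Subgroup.centralizer (B : Set G)}
    {R : Subgroup (Subgroup.centralizer ({zb} :
      Set (↥(Subgroup.centralizer (B : Set G)) ⧸ B.subgroupOf (Subgroup.centralizer (B : Set G)))))}
    (hzb : zb = QuotientGroup.mk ⟨z, hzC⟩)
    (hR : ∀ y, (y ∈ R ↔ ∃ x : ↥(Subgroup.centralizer (B : Set G)), (x : G) ∈ QG Q ∧
      QuotientGroup.mk x = (y : ↥(Subgroup.centralizer (B : Set G)) ⧸
        B.subgroupOf (Subgroup.centralizer (B : Set G)))))
    (g : ↥(Subgroup.centralizer (B : Set G)) ⧸ B.subgroupOf (Subgroup.centralizer (B : Set G)))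
    (hgR : g * zb * g⁻¹ ∈ R.map (Subgroup.centralizer ({zb} : Set _)).subtype)
    (hne : g * zb * g⁻¹ ≠ zb) :
    {y | IsConj zb y ∧ y ∈ R.map (Subgroup.centralizer ({zb} : Set _)).subtype ∧
      g⁻¹ * y * g ∈ R.map (Subgroup.centralizer ({zb} : Set _)).subtype}.ncard ≤ 3 := by
  classical
  obtain ⟨g, rfl⟩ := QuotientGroup.mk_surjective g
  have hzconj : ∀ c : ↥(Subgroup.centralizer (B : Set G)),
      (QuotientGroup.mk c : ↥(Subgroup.centralizer (B : Set G)) ⧸ B.subgroupOf _) * zb *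
        (QuotientGroup.mk c)⁻¹ = QuotientGroup.mk (c * ⟨z, hzC⟩ * c⁻¹) := fun c => by
    rw [hzb, QuotientGroup.mk_mul, QuotientGroup.mk_mul, QuotientGroup.mk_inv]
  have lift : ∀ y ∈ R.map (Subgroup.centralizer ({zb} : Set _)).subtype,
      ∃ x : ↥(Subgroup.centralizer (B : Set G)), (x : G) ∈ QG Q ∧ QuotientGroup.mk x = y := by
    rintro _ ⟨y, hy, rfl⟩
    exact (hR y).1 hy
  have exact_of : ∀ a c : ↥(Subgroup.centralizer (B : Set G)),
      (QuotientGroup.mk a : ↥(Subgroup.centralizer (B : Set G)) ⧸ B.subgroupOf _) = QuotientGroup.mk c →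
      (a : G) ^ 2 ^ 25 = 1 → (c : G) ^ 2 ^ 25 = 1 → (a : G) = c := fun a c h ha hc => by
    have h1 := QuotientGroup.eq.1 h
    rw [Subgroup.mem_subgroupOf] at h1
    exact D.eq_of_coset a.2 h1 ha hc
  rw [hzconj] at hgR hne
  obtain ⟨x, hxQ, hx⟩ := lift _ hgR
  have hx' : (x : G) = (g : G) * z * (g : G)⁻¹ :=
    exact_of x _ hx (pow_of_mem S hxQ) (conj_pow_two S g)
  have hgne : (g : G) * z * (g : G)⁻¹ ≠ z := fun h => hne (by
    rw [hzb]; exact congrArg _ (Subtype.ext h))
  have hgβ : (g : G) * β = β * g := D.mem_iff.1 g.2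
  have hxc : IsConj z (x : G) := hx' ▸ isConj_iff.2 ⟨g, rfl⟩
  obtain ⟨i, w, hw, hwk⟩ := exists_frame S D.ord D.ov hxQ (D.mem_iff.1 x.2) hxc (hx' ▸ hgne)
  obtain ⟨n, hn', hnk⟩ := exists_move i
  -- a lift normalising the subgroup
  obtain ⟨h, hh, hhβ⟩ : ∃ h : G, Over e h n ∧ (h * β * h⁻¹ = β ∨ h * β * h⁻¹ = β⁻¹) := by
    have hβ7 : β ^ 7 = 1 := by rw [← D.ord, pow_orderOf_eq_one]
    obtain ⟨h0, hh0⟩ := exists_lift (e := e) n
    have ho := (hh0.mul D.ov).mul hh0.inv
    have hγ : (h0 * β * h0⁻¹) ^ 7 = 1 := by rw [conj_pow, hβ7, mul_one, mul_inv_cancel]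
    rcases mem_extended.1 hn' with hb | hb <;> rw [hb] at ho
    · obtain ⟨q, hq, hqe⟩ := exists_conj_pow_lift S D.ord D.ov (j := 1) (by norm_num) hγ
        (by rwa [pow_one])
      exact ⟨q * h0, by simpa using (over_of_mem_QG (e := e) hq).mul hh0,
        Or.inl ((show q * h0 * β * (q * h0)⁻¹ = q * (h0 * β * h0⁻¹) * q⁻¹ by group).trans
          (hqe.trans (pow_one β)))⟩
    · have hb7 : b ^ 7 = 1 := by rw [← order_b, pow_orderOf_eq_one]
      have h6 : b⁻¹ = b ^ 6 := (eq_inv_of_mul_eq_one_left (by rw [← pow_succ, hb7])).symm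
      have h6' : β⁻¹ = β ^ 6 := (eq_inv_of_mul_eq_one_left (by rw [← pow_succ, hβ7])).symm
      rw [h6] at ho
      obtain ⟨q, hq, hqe⟩ := exists_conj_pow_lift S D.ord D.ov (j := 6) (by norm_num) hγ ho
      exact ⟨q * h0, by simpa using (over_of_mem_QG (e := e) hq).mul hh0,
        Or.inr ((show q * h0 * β * (q * h0)⁻¹ = q * (h0 * β * h0⁻¹) * q⁻¹ by group).trans
          (hqe.trans h6'.symm))⟩
  have hhz : h * z = z * h := mem_CZ.1 hh.mem_CZ
  have hxs : (x : G) = h * s * h⁻¹ ∨ (x : G) = h * s * h⁻¹ * z :=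
    S.rep_coset (S.rep_smul hh hs) (S.rep_congr hw ((isDbl_sub_iff _ _).2 (by rw [hnk, hwk])))
  obtain ⟨h', hh', hh'β, hxh⟩ : ∃ h' : G, h' * z = z * h' ∧
      (h' * β * h'⁻¹ = β ∨ h' * β * h'⁻¹ = β⁻¹) ∧ (x : G) = h' * s * h'⁻¹ := by
    rcases hxs with h1 | h1
    · exact ⟨h, hhz, hhβ, h1⟩
    · have hdodd : Odd 7 := by decide
      have hβ7 : β ^ 7 = 1 := by rw [← D.ord, pow_orderOf_eq_one]
      have hv8 : ¬ IsDbl v8 := not_isDbl_of_norm (sqNorm_eight none) (by norm_num) le_rfl
      obtain ⟨u, hu, hbil⟩ := S.exists_fixCls_bil hdodd (by rw [← order_b, pow_orderOf_eq_one])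
        ((S.commute_iff_fixCls hdodd hβ7 D.ov hs).1 D.comm) hv8
      obtain ⟨p, hp⟩ := S.exists_rep u
      have hpβ := (S.commute_iff_fixCls hdodd hβ7 D.ov hp).2 hu
      have hps : s * p = p * s * z := (S.comm_eq hs hp).2 hbil
      refine ⟨h * p, ((show Commute h z from hhz).mul_left (show Commute p z from hp.comm_z)).eq, ?_, ?_⟩
      · rw [show h * p * β * (h * p)⁻¹ = h * (p * β * p⁻¹) * h⁻¹ by group, hpβ, mul_inv_cancel_right]
        exact hhβ
      · rw [h1, show h * p * s * (h * p)⁻¹ = h * (p * s * p⁻¹) * h⁻¹ by group,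
          show p * s * p⁻¹ = s * z by
            rw [show p * s = s * p * z by
              rw [hps, mul_assoc, mul_assoc, S.z_mul_z, mul_one],
              mul_assoc (s * p), ← show p⁻¹ * z = z * p⁻¹ from
                ((show Commute p z from hp.comm_z).inv_left).eq]
            group,
          show h * (s * z) * h⁻¹ = h * s * (z * h⁻¹) by group,
          ← ((show Commute h z from hhz).inv_left).eq, ← mul_assoc]
  -- the lifts of the counted elements
  have hsub : {y | IsConj zb y ∧ y ∈ R.map (Subgroup.centralizer ({zb} : Set _)).subtype ∧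
      (QuotientGroup.mk g)⁻¹ * y * QuotientGroup.mk g ∈
        R.map (Subgroup.centralizer ({zb} : Set _)).subtype} ⊆
      (fun a : ↥(Subgroup.centralizer (B : Set G)) => (QuotientGroup.mk a :
        ↥(Subgroup.centralizer (B : Set G)) ⧸ B.subgroupOf _)) ''
        (Subtype.val ⁻¹' ({z, (x : G), (x : G) * z} : Set G)) := by
    rintro y ⟨hyc, hyR, hygR⟩
    obtain ⟨a, haQ, rfl⟩ := lift y hyR
    obtain ⟨a', ha'Q, ha'⟩ := lift _ hygR
    rw [← QuotientGroup.mk_inv, ← QuotientGroup.mk_mul, ← QuotientGroup.mk_mul] at ha'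
    have hag : (g : G)⁻¹ * a * g ∈ QG Q := by
      have := exact_of a' _ ha' (pow_of_mem S ha'Q) (by
        show ((g : G)⁻¹ * (a : G) * g) ^ 2 ^ 25 = 1
        rw [show (g : G)⁻¹ * (a : G) * g = (g : G)⁻¹ * (a : G) * ((g : G)⁻¹)⁻¹ by rw [inv_inv],
          conj_pow, pow_of_mem S haQ, mul_one, mul_inv_cancel])
      rw [this] at ha'Q
      exact ha'Q
    obtain ⟨c, hc⟩ := isConj_iff.1 hyc
    obtain ⟨c, rfl⟩ := QuotientGroup.mk_surjective c
    rw [hzconj] at hc
    have hac : IsConj z (a : G) :=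
      isConj_iff.2 ⟨c, exact_of _ a hc (conj_pow_two S c) (pow_of_mem S haQ)⟩
    refine ⟨a, ?_, rfl⟩
    show (a : G) ∈ ({z, (x : G), (x : G) * z} : Set G)
    by_cases haz : (a : G) = z
    · exact Or.inl haz
    set y := h'⁻¹ * (a : G) * h' with hy
    have hiz : h'⁻¹ * z = z * h'⁻¹ := ((show Commute h' z from hh').inv_left).eq
    have hyQ : y ∈ QG Q := by
      have := QG_normalized (h := h'⁻¹) (mem_CZ.2 hiz) haQ
      rwa [inv_inv] at this
    have hab : Commute (a : G) β := D.mem_iff.1 a.2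
    have hyβ : y * β = β * y := by
      rcases hh'β with h1 | h1
      · have hc' : Commute h' β := mul_inv_eq_iff_eq_mul.1 h1
        exact ((hc'.inv_left.mul_left hab).mul_left hc').eq
      · have h2 : β = h'⁻¹ * β⁻¹ * h' := by rw [← h1]; group
        rw [hy]
        nth_rw 1 [h2]
        conv_rhs => rw [h2]
        calc h'⁻¹ * (a : G) * h' * (h'⁻¹ * β⁻¹ * h') = h'⁻¹ * ((a : G) * β⁻¹) * h' := by group
          _ = h'⁻¹ * (β⁻¹ * (a : G)) * h' := by rw [hab.inv_right.eq]
          _ = _ := by group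
    have hyQS : y ∈ QS Q k := by
      rw [mem_QS]
      set m := k⁻¹ * (h'⁻¹ * (g : G)) with hm
      have hmz : m ∈ CZ z := mem_CZ.2 (mul_inv_eq_iff_eq_mul.1 (by
        rw [hm, show k⁻¹ * (h'⁻¹ * (g : G)) * z * (k⁻¹ * (h'⁻¹ * (g : G)))⁻¹ =
          k⁻¹ * (h'⁻¹ * ((g : G) * z * (g : G)⁻¹) * h') * k by group, ← hx', hxh,
          show h'⁻¹ * (h' * s * h'⁻¹) * h' = s by group, ← hk]
        group))
      have := QG_normalized hmz hag
      rwa [show m * ((g : G)⁻¹ * (a : G) * g) * m⁻¹ = k⁻¹ * y * k by rw [hm, hy]; group] at this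
    have hyc' : IsConj z y := hac.trans (isConj_iff.2 ⟨h'⁻¹, by rw [inv_inv]⟩)
    have hyne : y ≠ z := fun h1 => haz (by
      rw [show (a : G) = h' * y * h'⁻¹ by rw [hy]; group, h1, hh', mul_inv_cancel_right])
    rcases meet_std S hk hs D.ord D.ov hyQ hyQS hyβ hyc' hyne with h1 | h1
    · exact Or.inr (Or.inl (by rw [hxh, ← h1, hy]; group))
    · refine Or.inr (Or.inr ?_)
      show (a : G) = (x : G) * z
      rw [show (a : G) = h' * y * h'⁻¹ by rw [hy]; group, h1, hxh,
        show h' * (s * z) * h'⁻¹ = h' * s * (z * h'⁻¹) by group, ← hiz, ← mul_assoc]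
  refine (Set.ncard_le_ncard hsub (Set.toFinite _)).trans ((Set.ncard_image_le (Set.toFinite _)).trans ?_)
  rw [← Set.ncard_image_of_injective _ Subtype.val_injective]
  refine (Set.ncard_le_ncard (Set.image_preimage_subset _ _) (Set.toFinite _)).trans ?_
  refine (Set.ncard_insert_le _ _).trans ?_
  have := Set.ncard_insert_le (x : G) ({(x : G) * z} : Set G)
  rw [Set.ncard_singleton] at this
  omega

end CfsgLib.MonsterCent.Seven
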