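import Cfsg.Agent.Lib.MonsterCent.LocalThree

/-!
The outer automorphism of the centraliser of an element of order three with six fixed points:
an inverting element, and generation by elements of order five.
-/

set_option autoImplicit false
set_option maxRecDepth 100000
set_option linter.style.haveILetI false
set_option linter.unusedSectionVars false

namespace CfsgLib.MonsterCent.ThreeSix

open Cfsg CfsgLib.Golay CfsgLib.Golay.SylowTwo CfsgLib.Leech CfsgLib.Monster CfsgLib.MonsterCent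

attribute [local irreducible] dL bL key keyL coord packB linL bits autOK

/-- three permutations of order five commuting with the permutation, whose product it is -/
def fives : List ℕ := [30771191345897024252897258711924780, 28211824120653882691495405514406023,
  319815706318399411688218210979165397]

/-- a permutation inverting it -/
def flip : ℕ := 29427489013535382451599532014143543

theorem outer_ok : inM24 flip = true ∧
    eqP (mulP flip perm) (mulP (powP perm 2) flip) = true ∧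
    fives.length = 3 ∧
    (∀ i : Fin 3, inM24 (fives.getD i 0) = true ∧ eqP (powP (fives.getD i 0) 5) idP = true ∧
      eqP (mulP (fives.getD i 0) perm) (mulP perm (fives.getD i 0)) = true) ∧
    eqP (mulP (fives.getD 0 0) (mulP (fives.getD 1 0) (fives.getD 2 0))) perm = true := by decide +kernel

theorem toPerm_idP : validP idP = true ∧ toPerm idP = 1 := by
  obtain ⟨h1, h2⟩ := toPerm_powP (show validP perm = true from valid_of_inM24 perm_ok) 0
  exact ⟨h1, h2.trans (pow_zero _)⟩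

/-- the monomial elements -/
theorem exists_elts : ∃ n c₀ c₁ c₂ : ↥Co0, n * b * n⁻¹ = b⁻¹ ∧
    (∀ c ∈ [c₀, c₁, c₂], c ^ 5 = 1 ∧ c * b = b * c) ∧ c₀ * c₁ * c₂ = b := by
  obtain ⟨hf, hfc, -, hall, hprod⟩ := outer_ok
  have hvp := valid_of_inM24 perm_ok
  let el : ∀ P, inM24 P = true → ↥M24 := fun P h => ⟨toPerm P, toPerm_mem_M24 h⟩
  set y := el perm perm_ok
  set x := fun i : Fin 3 => el (fives.getD i 0) (hall i).1
  set t := el flip hf
  have hb : b = permHom y⁻¹ := by
    simp only [b, permAut, permHom, MonoidHom.mk'_apply, InvMemClass.coe_inv, inv_inv, y, el]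
  have hy3 : y ^ 3 = 1 := Subtype.ext (by
    rw [SubmonoidClass.coe_pow, OneMemClass.coe_one]
    show toPerm perm ^ 3 = 1
    rw [← toPerm_idP.2, ← (toPerm_powP hvp 3).2]
    exact toPerm_eq_of_eqP (toPerm_powP hvp 3).1 toPerm_idP.1 order_check.1)
  have hty : t * y * t⁻¹ = y⁻¹ := by
    have hvt := valid_of_inM24 hf
    have he := toPerm_eq_of_eqP (validP_mulP hvt hvp) (validP_mulP (toPerm_powP hvp 2).1 hvt) hfc
    rw [toPerm_mulP hvt hvp, toPerm_mulP (toPerm_powP hvp 2).1 hvt, (toPerm_powP hvp 2).2] at he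
    rw [show y⁻¹ = y ^ 2 from (eq_inv_of_mul_eq_one_left (by rw [← pow_succ, hy3])).symm]
    exact Subtype.ext (mul_inv_eq_iff_eq_mul.2 he)
  have hx : ∀ i, x i ^ 5 = 1 ∧ x i * y = y * x i := by
    intro i
    obtain ⟨h1, h5, hc⟩ := hall i
    have hv := valid_of_inM24 h1
    constructor
    · refine Subtype.ext ?_
      rw [SubmonoidClass.coe_pow, OneMemClass.coe_one]
      show toPerm (fives.getD i 0) ^ 5 = 1
      rw [← toPerm_idP.2, ← (toPerm_powP hv 5).2]
      exact toPerm_eq_of_eqP (toPerm_powP hv 5).1 toPerm_idP.1 h5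
    · have he := toPerm_eq_of_eqP (validP_mulP hv hvp) (validP_mulP hvp hv) hc
      rw [toPerm_mulP hv hvp, toPerm_mulP hvp hv] at he
      exact Subtype.ext he
  have hxy : x 0 * (x 1 * x 2) = y := by
    have hv : ∀ i : Fin 3, validP (fives.getD i 0) = true := fun i => valid_of_inM24 (hall i).1
    have he := toPerm_eq_of_eqP (validP_mulP (hv 0) (validP_mulP (hv 1) (hv 2))) hvp hprod
    rw [toPerm_mulP (hv 0) (validP_mulP (hv 1) (hv 2)), toPerm_mulP (hv 1) (hv 2)] at he
    exact Subtype.ext he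
  refine ⟨permHom t, permHom (x 2)⁻¹, permHom (x 1)⁻¹, permHom (x 0)⁻¹, ?_, ?_, ?_⟩
  · rw [hb, ← map_inv permHom t, ← map_mul, ← map_mul, ← map_inv permHom]
    congr 1
    rw [inv_inv]
    have h := congrArg (·⁻¹) hty
    simpa [mul_assoc] using h
  · intro c hc
    simp only [List.mem_cons, List.not_mem_nil, or_false] at hc
    have key : ∀ i, (permHom (x i)⁻¹ : ↥Co0) ^ 5 = 1 ∧ permHom (x i)⁻¹ * b = b * permHom (x i)⁻¹ :=
      fun i => ⟨by rw [← map_pow, inv_pow, (hx i).1, inv_one, map_one], by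
        rw [hb, ← map_mul, ← map_mul, ← mul_inv_rev, (hx i).2.symm, mul_inv_rev]⟩
    rcases hc with rfl | rfl | rfl <;> exact key _
  · rw [hb, ← hxy, ← map_mul, ← map_mul]
    congr 1

variable {G : Type*} [Group G] [Finite G]
variable {z : G} {Q : Subgroup (CZ z)} [Q.Normal] {e : (CZ z) ⧸ Q ≃* Spor.Co1}
  {ψ : ↥leechLattice → Q ⧸ Subgroup.center Q}

/-- an element over a power of the automorphism is conjugate to that power of the lift -/
theorem exists_conj_pow_lift (S : Setup z Q e ψ) {β γ : G} (hβ : orderOf β = 3)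
    (hov : Over e β b) {j : ℕ} (hj : ¬ 3 ∣ j) (hγ : γ ^ 3 = 1) (hγo : Over e γ (b ^ j)) :
    ∃ q ∈ QG Q, q * γ * q⁻¹ = β ^ j := by
  have hcop : Nat.Coprime 3 j := (Nat.Prime.coprime_iff_not_dvd (by norm_num)).2 hj
  refine exists_conj_of_coset (p := 3) ?_ ?_ ?_ ?_ hγ
  · refine Subgroup.mem_normalizer_iff.2 fun x => ⟨fun hx => QG_normalized (hov.pow j).mem_CZ hx,
      fun hx => ?_⟩
    have h2 := QG_normalized (inv_mem (hov.pow j).mem_CZ) hx
    simpa [mul_assoc] using h2
  · rw [Nat.Coprime.orderOf_pow (by rwa [hβ]), hβ]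
  · rw [S.card_QG]; exact (by norm_num : Nat.Coprime 2 3).pow_left 25
  · refine (hγo.mul (hov.pow j).inv).mem_QG_iff.2 ?_
    rw [mul_inv_cancel]
    exact one_mem _

/-- a lift of an element centralising the automorphism, centralising the lift -/
theorem exists_comm_lift (S : Setup z Q e ψ) {β : G} (hβ : orderOf β = 3) (hov : Over e β b)
    {c : ↥Co0} (hc : c * b = b * c) : ∃ h, Over e h c ∧ h * β = β * h := by
  obtain ⟨h0, hh0⟩ := exists_lift (e := e) c
  have hb : c * b * c⁻¹ = b ^ 1 := by rw [pow_one, hc, mul_inv_cancel_right]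
  have ho := (hh0.mul hov).mul hh0.inv
  rw [hb] at ho
  obtain ⟨q, hq, hqe⟩ := exists_conj_pow_lift S hβ hov (j := 1) (by norm_num)
    (by rw [conj_pow, ← hβ, pow_orderOf_eq_one, mul_one, mul_inv_cancel]) ho
  refine ⟨q * h0, by simpa using (over_of_mem_QG (e := e) hq).mul hh0, mul_inv_eq_iff_eq_mul.1 ?_⟩
  exact (show q * h0 * β * (q * h0)⁻¹ = q * (h0 * β * h0⁻¹) * q⁻¹ by group).trans (hqe.trans (pow_one β))

/-- an element of the centraliser of the central involution inverting the lift -/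
theorem exists_inverting (S : Setup z Q e ψ) {β : G} (hβ : orderOf β = 3) (hov : Over e β b) :
    ∃ h : G, h * z = z * h ∧ h * β * h⁻¹ = β⁻¹ := by
  obtain ⟨n, -, -, -, hn, -, -⟩ := exists_elts
  have hb3 : b ^ 3 = 1 := by rw [← order_b, pow_orderOf_eq_one]
  have hb2 : b⁻¹ = b ^ 2 := (eq_inv_of_mul_eq_one_left (by rw [← pow_succ, hb3])).symm
  have hβ3 : β ^ 3 = 1 := by rw [← hβ, pow_orderOf_eq_one]
  have hβ2 : β⁻¹ = β ^ 2 := (eq_inv_of_mul_eq_one_left (by rw [← pow_succ, hβ3])).symm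
  obtain ⟨h0, hh0⟩ := exists_lift (e := e) n
  have ho := (hh0.mul hov).mul hh0.inv
  rw [hn, hb2] at ho
  obtain ⟨q, hq, hqe⟩ := exists_conj_pow_lift S hβ hov (j := 2) (by norm_num)
    (by rw [conj_pow, hβ3, mul_one, mul_inv_cancel]) ho
  exact ⟨q * h0, mem_CZ.1 ((over_of_mem_QG (e := e) hq).mul hh0).mem_CZ,
    (show q * h0 * β * (q * h0)⁻¹ = q * (h0 * β * h0⁻¹) * q⁻¹ by group).trans (hqe.trans hβ2.symm)⟩

/-- an element of two-power order in a subgroup containing the cubes -/
theorem mem_of_coprime {K : Subgroup G} {x : G} {N : ℕ} (h3 : x ^ 3 ∈ K) (hN : x ^ N = 1)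
    (hcop : Nat.Coprime 3 N) : x ∈ K := by
  obtain ⟨m, hm⟩ := exists_pow_eq_self_of_coprime (x := x) (n := 3)
    (hcop.coprime_dvd_right (orderOf_dvd_of_pow_eq_one hN))
  rw [← hm]
  exact pow_mem h3 m

/-- the lift lies in every subgroup containing the cubes of its centraliser -/
theorem lift_mem (S : Setup z Q e ψ) {β : G} (hβ : orderOf β = 3) (hov : Over e β b) {K : Subgroup G}
    (hK : ∀ x : G, x * β = β * x → x ^ 3 ∈ K) : β ∈ K := by
  obtain ⟨-, c₀, c₁, c₂, -, hc, hprod⟩ := exists_elts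
  obtain ⟨l₀, ho₀, hl₀⟩ := exists_comm_lift S hβ hov (hc c₀ (by simp)).2
  obtain ⟨l₁, ho₁, hl₁⟩ := exists_comm_lift S hβ hov (hc c₁ (by simp)).2
  obtain ⟨l₂, ho₂, hl₂⟩ := exists_comm_lift S hβ hov (hc c₂ (by simp)).2
  have htwo : ∀ q ∈ QG Q, q ^ 2 ^ 25 = 1 := fun q hq => by
    rw [← S.card_QG]
    exact congrArg Subtype.val (pow_card_eq_one' (x := (⟨q, hq⟩ : ↥(QG Q))))
  have key : ∀ (l : G) (c : ↥Co0), c ∈ [c₀, c₁, c₂] → Over e l c → l * β = β * l → l ∈ K := by
    intro l c hcl ho hl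
    refine mem_of_coprime (N := 5 * 2 ^ 25) (hK l hl) ?_ (by norm_num)
    rw [pow_mul]
    refine htwo _ ((ho.pow 5).mem_QG_iff.2 ?_)
    rw [(hc c hcl).1]
    exact one_mem _
  have hl : l₀ * l₁ * l₂ ∈ K := mul_mem (mul_mem (key _ _ (by simp) ho₀ hl₀) (key _ _ (by simp) ho₁ hl₁))
    (key _ _ (by simp) ho₂ hl₂)
  set q := (l₀ * l₁ * l₂)⁻¹ * β
  have hqQ : q ∈ QG Q := by
    refine (((ho₀.mul ho₁).mul ho₂).inv.mul hov).mem_QG_iff.2 ?_
    rw [hprod, inv_mul_cancel]
    exact one_mem _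
  have hqβ : q * β = β * q :=
    ((((show Commute l₀ β from hl₀).mul_left hl₁).mul_left hl₂).inv_left.mul_left (Commute.refl β)).eq
  have hqK : q ∈ K := mem_of_coprime (hK q hqβ) (htwo q hqQ) ((by norm_num : Nat.Coprime 3 2).pow_right 25)
  have h := mul_mem hl hqK
  rwa [show l₀ * l₁ * l₂ * q = β from mul_inv_cancel_left _ _] at h

/-- an inverting element moves some element of the centraliser modulo the lift and the normal
two-subgroup -/
theorem exists_moved (S : Setup z Q e ψ) {β g : G} (hβ : orderOf β = 3) (hov : Over e β b)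
    (hgz : g * z = z * g) (hg : g * β * g⁻¹ = β⁻¹) :
    ∃ c : G, c * z = z * c ∧ c * β = β * c ∧
      ∀ (i : ℕ), ∀ q ∈ QG Q, g * c * g⁻¹ * c⁻¹ ≠ β ^ i * q := by
  obtain ⟨-, c₀, c₁, c₂, -, hc, hprod⟩ := exists_elts
  obtain ⟨N, hN⟩ := exists_over (e := e) (mem_CZ.2 hgz)
  by_contra! hcon
  let π : ↥Co0 →* ↥Co0 ⧸ Subgroup.center ↥Co0 := QuotientGroup.mk' _
  have hpr : ∀ {h : G} {n n' : ↥Co0}, Over e h n → Over e h n' → π n = π n' :=
    fun a c => QuotientGroup.eq.2 (a.unique c)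
  have hB3 : π b ^ 3 = 1 := by rw [← map_pow, ← order_b, pow_orderOf_eq_one, map_one]
  have key : ∀ c ∈ [c₀, c₁, c₂], Commute (π N) (π c) := by
    intro c hcl
    obtain ⟨l, ho, hl⟩ := exists_comm_lift S hβ hov (hc c hcl).2
    obtain ⟨i, q, hq, he⟩ := hcon l (mem_CZ.1 ho.mem_CZ) hl
    have h1 := ((hN.mul ho).mul hN.inv).mul ho.inv
    rw [he] at h1
    have h2 := hpr h1 ((hov.pow i).mul (over_of_mem_QG (e := e) hq))
    rw [mul_one, map_pow, map_mul, map_mul, map_mul, map_inv, map_inv] at h2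
    have h3 : π N * π c * (π N)⁻¹ = π b ^ i * π c := mul_inv_eq_iff_eq_mul.1 h2
    have h5 : (π b ^ i) ^ 5 = 1 := by
      have hbc : Commute (π b ^ i) (π c) := by
        refine Commute.pow_left ?_ i
        exact ((show Commute c b from (hc c hcl).2).map π).symm
      have h : (π N * π c * (π N)⁻¹) ^ 5 = (π b ^ i * π c) ^ 5 := by rw [h3]
      rwa [conj_pow, hbc.mul_pow, ← map_pow π c, (hc c hcl).1, map_one, mul_one, mul_one,
        mul_inv_cancel, eq_comm] at h
    have h1' : π b ^ i = 1 := by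
      have h3' : (π b ^ i) ^ 3 = 1 := by rw [← pow_mul, mul_comm, pow_mul, hB3, one_pow]
      have := (pow_gcd_eq_one (a := π b ^ i) (m := 3) (n := 5)).2 ⟨h3', h5⟩
      simpa using this
    rw [h1', one_mul] at h3
    exact mul_inv_eq_iff_eq_mul.1 h3
  have hNb : Commute (π N) (π b) := by
    rw [← hprod, map_mul, map_mul]
    exact ((key c₀ (by simp)).mul_right (key c₁ (by simp))).mul_right (key c₂ (by simp))
  have h4 := (hN.mul hov).mul hN.inv
  rw [hg] at h4
  have h6 := hpr h4 hov.inv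
  rw [map_mul, map_mul, map_inv, map_inv, hNb.eq, mul_inv_cancel_right] at h6
  have h7 : π b = 1 := by
    have h8 : π b ^ 2 = 1 := by rw [pow_two]; nth_rw 1 [h6]; exact inv_mul_cancel _
    have := (pow_gcd_eq_one (a := π b) (m := 3) (n := 2)).2 ⟨hB3, h8⟩
    simpa using this
  have hcen : b ∈ Subgroup.center ↥Co0 := (QuotientGroup.eq_one_iff _).1 h7
  have hb3 : b ^ 3 = 1 := by rw [← order_b, pow_orderOf_eq_one]
  have hb1 : b = 1 := by rwa [pow_succ, pow_two, center_sq hcen, one_mul] at hb3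
  exact absurd order_b (by rw [hb1, orderOf_one]; norm_num)

end CfsgLib.MonsterCent.ThreeSix
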