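import Cfsg.Prelude.Def_Spor_Fi24
import Cfsg.Agent.Lib.MonsterCent.SixOuter
import Cfsg.Agent.Lib.MonsterCent.LargeExt
import Cfsg.Agent.Lib.Fi24Act.Simple

/-!
The normaliser of the element of order three over the centraliser with factor group Fi24'.
-/

set_option autoImplicit false
set_option maxRecDepth 100000
set_option linter.style.haveILetI false
set_option linter.unusedSectionVars false

namespace CfsgLib.MonsterCent.ThreeSix

open scoped commutatorElement

open Cfsg CfsgLib.Leech CfsgLib.Monster CfsgLib.MonsterCent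

attribute [local irreducible] dL bL key keyL coord packB linL bits autOK

variable {G : Type*} [Group G] [Finite G]
variable {z : G} {Q : Subgroup (CZ z)} [Q.Normal] {e : (CZ z) ⧸ Q ≃* Spor.Co1}
  {ψ : ↥leechLattice → Q ⧸ Subgroup.center Q}

theorem centralizer_le_normalizer (Y : Subgroup G) :
    Subgroup.centralizer (Y : Set G) ≤ Subgroup.normalizer (Y : Set G) := fun g hg =>
  Subgroup.mem_normalizer_iff.2 fun y => by
    constructor
    · intro hy
      rwa [← Subgroup.mem_centralizer_iff.1 hg y hy, mul_inv_cancel_right]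
    · intro hy
      have h := Subgroup.mem_centralizer_iff.1 hg _ hy
      rw [inv_mul_cancel_right] at h
      rw [← mul_left_cancel h] at hy
      exact hy

/-- the map between the quotients -/
def incl (Y : Subgroup G) [(Y.subgroupOf (Subgroup.centralizer (Y : Set G))).Normal]
    [(Y.subgroupOf (Subgroup.normalizer (Y : Set G))).Normal] :
    ↥(Subgroup.centralizer (Y : Set G)) ⧸ Y.subgroupOf (Subgroup.centralizer (Y : Set G)) →*
      ↥(Subgroup.normalizer (Y : Set G)) ⧸ Y.subgroupOf (Subgroup.normalizer (Y : Set G)) :=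
  QuotientGroup.map _ _ (Subgroup.inclusion (centralizer_le_normalizer Y)) fun _ hy => hy

variable {Y : Subgroup G} {β : G}
  [(Y.subgroupOf (Subgroup.centralizer (Y : Set G))).Normal]
  [(Y.subgroupOf (Subgroup.normalizer (Y : Set G))).Normal]

theorem incl_injective : Function.Injective (incl Y) := by
  rw [injective_iff_map_eq_one]
  intro a ha
  induction a using QuotientGroup.induction_on with
  | H c => exact (QuotientGroup.eq_one_iff c).2 ((QuotientGroup.eq_one_iff _).1 ha :)

theorem mem_range_incl {n : ↥(Subgroup.normalizer (Y : Set G))}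
    (hY : Y ≤ Subgroup.centralizer (Y : Set G)) :
    QuotientGroup.mk n ∈ (incl Y).range ↔ (n : G) ∈ Subgroup.centralizer (Y : Set G) := by
  constructor
  · rintro ⟨c, hc⟩
    obtain ⟨c, rfl⟩ := QuotientGroup.mk_surjective c
    have h := QuotientGroup.eq.1 hc
    rw [Subgroup.mem_subgroupOf] at h
    have h' : (c : G)⁻¹ * n ∈ Y := h
    simpa using mul_mem c.2 (hY h')
  · intro hn
    exact ⟨QuotientGroup.mk ⟨n, hn⟩, rfl⟩

theorem mem_cent_iff (hgen : Y = Subgroup.zpowers β) {g : G} :
    g ∈ Subgroup.centralizer (Y : Set G) ↔ g * β = β * g := by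
  rw [Subgroup.mem_centralizer_iff]
  refine ⟨fun h => (h β (hgen ▸ Subgroup.mem_zpowers β)).symm, fun h y hy => ?_⟩
  rw [SetLike.mem_coe, hgen] at hy
  obtain ⟨i, rfl⟩ := Subgroup.mem_zpowers_iff.1 hy
  exact ((show Commute g β from h).zpow_right i).eq.symm

theorem le_cent (hgen : Y = Subgroup.zpowers β) : Y ≤ Subgroup.centralizer (Y : Set G) := fun y hy => by
  rw [mem_cent_iff hgen]
  rw [hgen] at hy
  obtain ⟨i, rfl⟩ := Subgroup.mem_zpowers_iff.1 hy
  exact ((Commute.refl β).zpow_left i).eq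

/-- what an element of the normaliser does to the generator -/
theorem conj_cases (hβ : orderOf β = 3) (hgen : Y = Subgroup.zpowers β) {g : G}
    (hg : g ∈ Subgroup.normalizer (Y : Set G)) : g * β * g⁻¹ = β ∨ g * β * g⁻¹ = β⁻¹ := by
  have h := (Subgroup.mem_normalizer_iff.1 hg β).1 (hgen ▸ Subgroup.mem_zpowers β)
  rw [hgen] at h
  classical
  rw [mem_zpowers_iff_mem_range_orderOf, hβ] at h
  obtain ⟨i, hi, he⟩ := Finset.mem_image.1 h
  have h3 : β ^ 3 = 1 := by rw [← hβ, pow_orderOf_eq_one]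
  rw [Finset.mem_range] at hi
  rw [← he]
  interval_cases i
  · exfalso
    rw [pow_zero] at he
    rw [conj_eq_one_iff.1 he.symm, orderOf_one] at hβ
    omega
  · exact Or.inl (pow_one β)
  · exact Or.inr (eq_inv_of_mul_eq_one_left (by rw [← pow_succ, h3]))

theorem index_incl (S : Setup z Q e ψ) (hβ : orderOf β = 3) (hov : Over e β b)
    (hgen : Y = Subgroup.zpowers β) : (incl Y).range.index = 2 := by
  obtain ⟨h, -, hh⟩ := exists_inverting S hβ hov
  have hY := le_cent hgen
  have h3 : β ^ 3 = 1 := by rw [← hβ, pow_orderOf_eq_one]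
  have hne : β ≠ β⁻¹ := fun e' => by
    have h2 : β ^ 2 = 1 := by rw [pow_two]; nth_rw 1 [e']; exact inv_mul_cancel β
    rw [pow_succ, h2, one_mul] at h3
    rw [h3, orderOf_one] at hβ
    omega
  have hn : h ∈ Subgroup.normalizer (Y : Set G) := Subgroup.mem_normalizer_iff.2 fun y => by
    rw [hgen]
    constructor
    · intro hy
      obtain ⟨i, rfl⟩ := Subgroup.mem_zpowers_iff.1 hy
      rw [← conj_zpow, hh, inv_zpow]
      exact inv_mem (zpow_mem (Subgroup.mem_zpowers β) i)
    · intro hy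
      obtain ⟨i, hi⟩ := Subgroup.mem_zpowers_iff.1 hy
      have : y = β⁻¹ ^ i := by
        have hb : β = h * β⁻¹ * h⁻¹ := by
          have := congrArg (·⁻¹) hh
          simpa [mul_assoc] using this.symm
        rw [hb, conj_zpow] at hi
        exact (mul_left_cancel (mul_right_cancel hi)).symm
      rw [this, inv_zpow]
      exact inv_mem (zpow_mem (Subgroup.mem_zpowers β) i)
  rw [Subgroup.index_eq_two_iff]
  refine ⟨QuotientGroup.mk ⟨h, hn⟩, fun a => ?_⟩
  obtain ⟨n, rfl⟩ := QuotientGroup.mk_surjective a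
  rw [← QuotientGroup.mk_mul, mem_range_incl hY, mem_range_incl hY, mem_cent_iff hgen, mem_cent_iff hgen]
  have hmul : (n : G) * h * β * ((n : G) * h)⁻¹ = ((n : G) * β * (n : G)⁻¹)⁻¹ := by
    rw [show (n : G) * h * β * ((n : G) * h)⁻¹ = n * (h * β * h⁻¹) * (n : G)⁻¹ by group, hh]
    group
  rw [← mul_inv_eq_iff_eq_mul, ← mul_inv_eq_iff_eq_mul (a := (n : G) * β)]
  show Xor ((n : G) * h * β * ((n : G) * h)⁻¹ = β) ((n : G) * β * (n : G)⁻¹ = β)
  rw [hmul]
  rcases conj_cases hβ hgen n.2 with e1 | e1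
  · refine Or.inr ⟨e1, ?_⟩
    rw [e1]
    exact fun e' => hne e'.symm
  · refine Or.inl ⟨by rw [e1, inv_inv], ?_⟩
    rw [e1]
    exact fun e' => hne e'.symm

/-- an element of the quotient outside the image moves the centraliser of the involution -/
theorem moved_incl (S : Setup z Q e ψ) (hβ : orderOf β = 3) (hov : Over e β b)
    (hgen : Y = Subgroup.zpowers β)
    {zb : ↥(Subgroup.centralizer (Y : Set G)) ⧸ Y.subgroupOf (Subgroup.centralizer (Y : Set G))}
    {hzC : z ∈ Subgroup.centralizer (Y : Set G)}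
    {R : Subgroup (Subgroup.centralizer ({zb} :
      Set (↥(Subgroup.centralizer (Y : Set G)) ⧸ Y.subgroupOf (Subgroup.centralizer (Y : Set G)))))}
    (hzb : zb = QuotientGroup.mk ⟨z, hzC⟩)
    (hR : ∀ y, (y ∈ R ↔ ∃ x : ↥(Subgroup.centralizer (Y : Set G)), (x : G) ∈ QG Q ∧
      QuotientGroup.mk x = (y : ↥(Subgroup.centralizer (Y : Set G)) ⧸
        Y.subgroupOf (Subgroup.centralizer (Y : Set G)))))
    {x : ↥(Subgroup.normalizer (Y : Set G)) ⧸ Y.subgroupOf (Subgroup.normalizer (Y : Set G))}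
    (hx : x ∉ (incl Y).range) (hxz : x * incl Y zb = incl Y zb * x) :
    ∃ c, c * zb = zb * c ∧ ∀ r ∈ R, x * incl Y c * x⁻¹ * (incl Y c)⁻¹ ≠ incl Y (r : _) := by
  obtain ⟨n, rfl⟩ := QuotientGroup.mk_surjective x
  subst hzb
  have hY := le_cent hgen
  have h3 : β ^ 3 = 1 := by rw [← hβ, pow_orderOf_eq_one]
  rw [mem_range_incl hY, mem_cent_iff hgen] at hx
  have hnβ : (n : G) * β * (n : G)⁻¹ = β⁻¹ :=
    (conj_cases hβ hgen n.2).resolve_left fun e1 => hx (mul_inv_eq_iff_eq_mul.1 e1)
  have hzβ : Commute z β := (mem_cent_iff hgen).1 hzC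
  have hnz : (n : G) * z = z * n := by
    have h : ((z * (n : G))⁻¹ * ((n : G) * z)) ∈ Y := by
      have h1 := QuotientGroup.eq.1 (show QuotientGroup.mk (Subgroup.inclusion (centralizer_le_normalizer Y) ⟨z, hzC⟩ * n)
        = QuotientGroup.mk (n * Subgroup.inclusion (centralizer_le_normalizer Y) ⟨z, hzC⟩) from hxz.symm)
      rw [Subgroup.mem_subgroupOf] at h1
      exact h1
    obtain ⟨i, hi⟩ := Subgroup.mem_zpowers_iff.1 ((SetLike.ext_iff.1 hgen _).1 h)
    have hc : (n : G) * z * (n : G)⁻¹ = z * β ^ (-i) := by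
      have h1 : (n : G) * z = z * n * β ^ i := by rw [hi, mul_inv_cancel_left]
      have hconj : (n : G) * β ^ i * (n : G)⁻¹ = β ^ (-i) := by
        rw [← conj_zpow, hnβ, inv_zpow, zpow_neg]
      rw [h1, show z * (n : G) * β ^ i * (n : G)⁻¹ = z * ((n : G) * β ^ i * (n : G)⁻¹) by group, hconj]
    have hsq : β ^ (-i) * β ^ (-i) = 1 := by
      have h1 : (n : G) * z * (n : G)⁻¹ * ((n : G) * z * (n : G)⁻¹) = 1 := by
        rw [show (n : G) * z * (n : G)⁻¹ * ((n : G) * z * (n : G)⁻¹) = (n : G) * (z * z) * (n : G)⁻¹ by group,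
          S.z_mul_z, mul_one, mul_inv_cancel]
      rw [hc] at h1
      rwa [((hzβ.zpow_right (-i)).symm).mul_mul_mul_comm, S.z_mul_z, one_mul] at h1
    have h1 : β ^ (-i) = 1 := by
      have h3' : (β ^ (-i)) ^ 3 = 1 := by
        rw [← zpow_natCast, ← zpow_mul, mul_comm, zpow_mul, zpow_natCast, h3, one_zpow]
      rwa [pow_succ, pow_two, hsq, one_mul] at h3'
    rw [h1, mul_one] at hc
    exact mul_inv_eq_iff_eq_mul.1 hc
  obtain ⟨c, hcz, hcβ, hc⟩ := exists_moved S hβ hov hnz hnβ
  refine ⟨QuotientGroup.mk ⟨c, (mem_cent_iff hgen).2 hcβ⟩, ?_, fun r hr he => ?_⟩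
  · rw [← QuotientGroup.mk_mul, ← QuotientGroup.mk_mul]
    exact congrArg _ (Subtype.ext hcz)
  · obtain ⟨q, hqQ, hq⟩ := (hR r).1 hr
    replace he := he.trans (congrArg (incl Y) hq.symm)
    have h1 := QuotientGroup.eq.1 (show QuotientGroup.mk (Subgroup.inclusion (centralizer_le_normalizer Y) q) =
      QuotientGroup.mk (n * Subgroup.inclusion (centralizer_le_normalizer Y) ⟨c, (mem_cent_iff hgen).2 hcβ⟩ *
        n⁻¹ * (Subgroup.inclusion (centralizer_le_normalizer Y) ⟨c, (mem_cent_iff hgen).2 hcβ⟩)⁻¹) from he.symm)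
    rw [Subgroup.mem_subgroupOf] at h1
    have h2 : (q : G)⁻¹ * ((n : G) * c * (n : G)⁻¹ * c⁻¹) ∈ Y := h1
    obtain ⟨i, hi⟩ := (mem_powers_iff_mem_zpowers).2 ((SetLike.ext_iff.1 hgen _).1 h2)
    have hi' : β ^ i = (q : G)⁻¹ * ((n : G) * c * (n : G)⁻¹ * c⁻¹) := hi
    have hqβ : Commute (q : G) β := (mem_cent_iff hgen).1 q.2
    refine hc i q hqQ ?_
    rw [(show β ^ i * (q : G) = q * β ^ i from (hqβ.pow_right i).eq.symm), hi', mul_inv_cancel_left]

/-- the centraliser is quasisimple once the quotient is -/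
theorem quasisimple (S : Setup z Q e ψ) (hβ : orderOf β = 3) (hov : Over e β b)
    (hgen : Y = Subgroup.zpowers β)
    (hsimp : IsSimpleGroup (↥(Subgroup.centralizer (Y : Set G)) ⧸ Y.subgroupOf (Subgroup.centralizer (Y : Set G))))
    (hnab : ∃ a c : ↥(Subgroup.centralizer (Y : Set G)) ⧸ Y.subgroupOf (Subgroup.centralizer (Y : Set G)), a * c ≠ c * a) :
    IsQuasisimple ↥(Subgroup.centralizer (Y : Set G)) := by
  set C := Subgroup.centralizer (Y : Set G)
  set π := QuotientGroup.mk' (Y.subgroupOf C)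
  have hπ : Function.Surjective π := QuotientGroup.mk'_surjective _
  have h3 : β ^ 3 = 1 := by rw [← hβ, pow_orderOf_eq_one]
  have hsol : commutator (↥C ⧸ Y.subgroupOf C) = ⊤ := by
    refine ((inferInstance : (commutator (↥C ⧸ Y.subgroupOf C)).Normal).eq_bot_or_eq_top).resolve_left
      fun h => ?_
    obtain ⟨a, c, hac⟩ := hnab
    refine hac (commutatorElement_eq_one_iff_mul_comm.1 ?_)
    rw [← Subgroup.mem_bot, ← h, commutator_def]
    exact Subgroup.commutator_mem_commutator (Subgroup.mem_top a) (Subgroup.mem_top c)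
  have hcube : ∀ x : G, x * β = β * x → x ^ 3 ∈ (commutator ↥C).map C.subtype := by
    intro x hx
    set x' : ↥C := ⟨x, (mem_cent_iff hgen).2 hx⟩
    have h1 : π x' ∈ (commutator ↥C).map π := by
      rw [commutator_def, Subgroup.map_commutator, Subgroup.map_top_of_surjective π hπ, ← commutator_def,
        hsol]
      exact Subgroup.mem_top _
    obtain ⟨k, hk, hke⟩ := h1
    have h2 := QuotientGroup.eq.1 (show QuotientGroup.mk k = QuotientGroup.mk x' from hke)
    rw [Subgroup.mem_subgroupOf] at h2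
    have h2' : (k : G)⁻¹ * x ∈ Subgroup.zpowers β := by rw [← hgen]; exact h2
    obtain ⟨i, hi⟩ := Subgroup.mem_zpowers_iff.1 h2'
    have hxe : x = k * β ^ i := by rw [hi, mul_inv_cancel_left]
    have hkβ : Commute (k : G) β := (mem_cent_iff hgen).1 k.2
    rw [hxe, (hkβ.zpow_right i).mul_pow, ← zpow_natCast (β ^ i), ← zpow_mul, mul_comm i, zpow_mul,
      zpow_natCast, h3, one_zpow, mul_one]
    exact pow_mem (Subgroup.mem_map_of_mem C.subtype hk) 3
  have hβK := lift_mem S hβ hov hcube
  haveI : Group.IsPerfect ↥C := Group.isPerfect_def.2 (eq_top_iff.2 fun x _ => by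
    have h1 : π x ∈ (commutator ↥C).map π := by
      rw [commutator_def, Subgroup.map_commutator, Subgroup.map_top_of_surjective π hπ, ← commutator_def,
        hsol]
      exact Subgroup.mem_top _
    obtain ⟨k, hk, hke⟩ := h1
    have h2 := QuotientGroup.eq.1 (show QuotientGroup.mk k = QuotientGroup.mk x from hke)
    rw [Subgroup.mem_subgroupOf] at h2
    have h2' : ((k⁻¹ * x : ↥C) : G) ∈ (commutator ↥C).map C.subtype :=
      (Subgroup.zpowers_le.2 hβK) (hgen ▸ h2)
    obtain ⟨w, hw, hwe⟩ := h2'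
    rw [show x = k * w by rw [Subtype.ext hwe (a1 := w)]; group]
    exact mul_mem hk hw)
  haveI : Nontrivial ↥C := by
    haveI := hsimp.toNontrivial
    exact hπ.nontrivial
  refine Layer.isQuasisimple_of_normal_le_center fun N hN => ?_
  haveI := hN
  have hYc : Y.subgroupOf C ≤ Subgroup.center ↥C := fun y hy => Subgroup.mem_center_iff.2 fun c =>
    Subtype.ext (Subgroup.mem_centralizer_iff.1 c.2 _ hy).symm
  rcases (hN.map π hπ).eq_bot_or_eq_top with h | h
  · right
    rw [Subgroup.map_eq_bot_iff, QuotientGroup.ker_mk'] at h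
    exact h.trans hYc
  · left
    refine Layer.eq_top_of_sup_center_eq_top (eq_top_iff.2 ?_)
    have h1 := congrArg (Subgroup.comap π) h
    rw [Subgroup.comap_map_eq, Subgroup.comap_top, QuotientGroup.ker_mk'] at h1
    rw [← h1]
    exact sup_le_sup_left hYc N

/-- the part of the conclusion that follows from the identification of the normaliser -/
theorem of_iso (S : Setup z Q e ψ) (hβ : orderOf β = 3) (hov : Over e β b)
    (hgen : Y = Subgroup.zpowers β)
    (Φ : Spor.Fi24 ≃* ↥(Subgroup.normalizer (Y : Set G)) ⧸ Y.subgroupOf (Subgroup.normalizer (Y : Set G))) :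
    IsQuasisimple ↥(Subgroup.centralizer (Y : Set G)) ∧
      Spor.IsoFi24' (↥(Subgroup.centralizer (Y : Set G)) ⧸ Y.subgroupOf (Subgroup.centralizer (Y : Set G))) := by
  haveI := Fi24Pres.finite_card.1
  have hidx := index_incl S hβ hov hgen
  haveI : (incl Y).range.Normal := Subgroup.normal_of_index_eq_two hidx
  have hcidx : (commutator Spor.Fi24).index = 2 := by
    rw [Fi24Act.commutator_eq]; exact Fi24Act.ker_par_index
  have hle : (commutator Spor.Fi24).map Φ.toMonoidHom ≤ (incl Y).range := by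
    rw [commutator_def, Subgroup.map_commutator, Subgroup.map_top_of_surjective _ Φ.surjective,
      Subgroup.commutator_le]
    intro a _ c _
    refine (QuotientGroup.eq_one_iff _).1 ?_
    show QuotientGroup.mk' (incl Y).range ⁅a, c⁆ = 1
    rw [map_commutatorElement, commutatorElement_eq_one_iff_mul_comm]
    have hq : Nat.card (_ ⧸ (incl Y).range) = 2 := hidx
    haveI : Fact (Nat.Prime 2) := ⟨Nat.prime_two⟩
    haveI := isCyclic_of_prime_card hq
    exact (IsCyclic.commGroup).mul_comm _ _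
  have heq : (commutator Spor.Fi24).map Φ.toMonoidHom = (incl Y).range := by
    refine Subgroup.eq_of_le_of_card_ge hle (le_of_eq ?_)
    have h1 := (incl Y).range.card_mul_index
    have h2 := ((commutator Spor.Fi24).map Φ.toMonoidHom).card_mul_index
    rw [hidx, ← h2, show ((commutator Spor.Fi24).map Φ.toMonoidHom).index = 2 from
      (Subgroup.index_map_equiv _ Φ).trans hcidx] at h1
    omega
  let i : ↥(Subgroup.centralizer (Y : Set G)) ⧸ Y.subgroupOf (Subgroup.centralizer (Y : Set G)) ≃*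
      Spor.Fi24' :=
    (MonoidHom.ofInjective incl_injective).trans ((MulEquiv.subgroupCongr heq.symm).trans
      ((commutator Spor.Fi24).equivMapOfInjective Φ.toMonoidHom Φ.injective).symm)
  haveI hs : IsSimpleGroup Spor.Fi24' := Fi24Act.isFi24'.1
  refine ⟨quasisimple S hβ hov hgen i.isSimpleGroup ?_, ⟨i⟩⟩
  by_contra! hab
  have hcomm : ∀ a c : Spor.Fi24', a * c = c * a := fun a c => i.symm.injective (by
    rw [map_mul, map_mul]; exact hab _ _)
  letI : CommGroup Spor.Fi24' := { (inferInstance : Group Spor.Fi24') with mul_comm := hcomm }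
  have hp := IsSimpleGroup.prime_card (α := Spor.Fi24')
  rw [Fi24Act.isFi24'.2] at hp
  exact (by norm_num : ¬ Nat.Prime 1255205709190661721292800) hp

end CfsgLib.MonsterCent.ThreeSix
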