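import Cfsg.Prelude.Def_MonsterType
import Cfsg.Agent.Lib.Monster.LocalMain
import Cfsg.Agent.Lib.MonsterCent.SixFischer

/-!
The normaliser of a three-central subgroup of order three modulo that subgroup: an overgroup of
index two of a group of large Fischer type.
-/

set_option autoImplicit false
set_option maxRecDepth 100000
set_option linter.style.haveILetI false

namespace CfsgLib.MonsterCent.ThreeSix

open Cfsg CfsgLib.Leech CfsgLib.Monster CfsgLib.MonsterCent

attribute [local irreducible] dL bL key keyL coord packB linL bits autOK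

/-- the setting in the normaliser, and what an identification of it gives -/
theorem exists_ext_setting {G : Type*} [Group G] [Finite G] (z : G)
    (Q : Subgroup (Subgroup.centralizer ({z} : Set G))) [Q.Normal] (hM : Cfsg.IsOfMonsterType z Q) (s : G)
    (hsQ : ∃ hsc : s ∈ Subgroup.centralizer ({z} : Set G), (⟨s, hsc⟩ : Subgroup.centralizer ({z} : Set G)) ∈ Q)
    (hs : IsConj z s) (hs1 : s ≠ z) (Y : Subgroup G) (hY : Y ≤ Subgroup.centralizer ({z, s} : Set G))
    (hY3 : Nat.card Y = 3)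
    (hc : ∃ P : Sylow 3 ↥(Subgroup.centralizer ({z, s} : Set G)),
      Y.subgroupOf (Subgroup.centralizer ({z, s} : Set G)) ≤
        (Subgroup.center ↥(P : Subgroup ↥(Subgroup.centralizer ({z, s} : Set G)))).map
          (P : Subgroup ↥(Subgroup.centralizer ({z, s} : Set G))).subtype)
    [hn : (Y.subgroupOf (Subgroup.centralizer (Y : Set G))).Normal]
    [hn' : (Y.subgroupOf (Subgroup.normalizer (Y : Set G))).Normal] :
    ∃ (G₀ : Subgroup (↥(Subgroup.normalizer (Y : Set G)) ⧸ Y.subgroupOf (Subgroup.normalizer (Y : Set G))))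
      (z₀ : ↥G₀) (Q₀ : Subgroup (Subgroup.centralizer ({z₀} : Set ↥G₀))) (_ : Q₀.Normal),
      G₀.index = 2 ∧ IsOfLargeFischerTypeAt z₀ Q₀ ∧
      (∃ P : Sylow 2 ↥G₀, z₀ ∈ (P : Subgroup ↥G₀) ∧ ∀ x ∈ (P : Subgroup ↥G₀), Commute x z₀) ∧
      (generalizedFittingSubgroup ↥(Subgroup.centralizer
        ({(z₀ : ↥(Subgroup.normalizer (Y : Set G)) ⧸ Y.subgroupOf (Subgroup.normalizer (Y : Set G)))} : Set _))).map
          (Subgroup.subtype _) = (Q₀.map (Subgroup.subtype _)).map G₀.subtype ∧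
      (Nonempty (Spor.Fi24 ≃* ↥(Subgroup.normalizer (Y : Set G)) ⧸ Y.subgroupOf (Subgroup.normalizer (Y : Set G))) →
        IsQuasisimple ↥(Subgroup.centralizer (Y : Set G)) ∧
          Spor.IsoFi24' (↥(Subgroup.centralizer (Y : Set G)) ⧸ Y.subgroupOf (Subgroup.centralizer (Y : Set G)))) := by
  classical
  obtain ⟨hset, e0, ψ0, hiso⟩ := hM
  have S0 : CfsgLib.Monster.Setup z Q e0 ψ0 := ⟨hset, hiso⟩
  obtain ⟨hsc, hsm⟩ := hsQ
  have hsG : s ∈ CfsgLib.Monster.QG Q := CfsgLib.Monster.mem_QG_iff.2 ⟨hsc, hsm⟩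
  obtain ⟨k, hk⟩ := isConj_iff.1 hs
  obtain ⟨e, ψ, S, hrs⟩ := S0.exists_coords hsG hk hs1
  have hf := S.factor_eq (p := 3) (k := 3) (by norm_num) (by decide) hrs (by norm_num) (by norm_num)
  haveI : Fact (Nat.Prime 3) := ⟨Nat.prime_three⟩
  obtain ⟨T, iT, hpkg, hser⟩ := pkg
  letI := iT
  obtain ⟨e', ψ', β, S', -, hgen, hβ, hov, -, zb, hzC, R, hR, hzb, hset', hiso', hRmem⟩ :=
    S.local_main (r := 1) hpkg hrs hk hs1
      (CfsgLib.MonsterCent.permAut_cross _) hY hY3 (fun c => 27 ∣ c)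
      (fun g hg hgo hc => CfsgLib.MonsterCent.class_six hg hgo hc)
      (fun γ g hγo hgo hov hγs hgc ⟨δ, hδ, hδo, hδe⟩ => by
        have hgenY : Y = Subgroup.zpowers δ := (Subgroup.eq_of_le_of_card_ge (Subgroup.zpowers_le.2 hδ)
          (by rw [hY3, Nat.card_zpowers, hδo])).symm
        have h1 := (CfsgLib.MonsterCent.central_in_sylow_iff hY hδ hgenY hδo hf).1 hc
        rw [← hδe] at h1
        exact S.dvd_cross_of_dvd (k := 3) (by decide) (by rw [← hgo, pow_orderOf_eq_one]) hov hrs h1)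
      ⟨1, one_mem _, by simp⟩ (by norm_num)
      (fun a ha h0 => ⟨1, 0, by norm_num, by norm_num, by interval_cases a <;> norm_num⟩)
  obtain ⟨ei⟩ := hiso'
  obtain ⟨N, M, hN, hM', h1, h2, h3, h4, h5⟩ := CfsgLib.MonsterCent.series_lift ei hser
  have hAt : IsOfLargeFischerTypeAt zb R := ⟨hset', N, M, hN, hM', h1, h2, h3, h4, h5⟩
  obtain ⟨z₀, Q₀, hQ₀, g1, g2, g3⟩ := LargeExt.exists_ext (incl Y) incl_injective
    (index_incl S' hβ hov hgen) hAt fun x hx hxz => moved_incl S' hβ hov hgen hzb hRmem hx hxz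
  exact ⟨_, z₀, Q₀, hQ₀, index_incl S' hβ hov hgen, g1, g2, g3,
    fun ⟨Φ⟩ => of_iso S' hβ hov hgen Φ⟩

end CfsgLib.MonsterCent.ThreeSix
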